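import Groth.Agent.Chevalley.Invariant
import Groth.Prelude.Def_CAlg2
import Mathlib.RingTheory.Polynomial.UniqueFactorization
import Mathlib.RingTheory.Localization.Integral
import Mathlib.RingTheory.MvPolynomial.Localization
import Mathlib.RingTheory.Polynomial.IsIntegral
import Mathlib.RingTheory.Polynomial.RationalRoot

/-!
# Radicial normalisations: geometrically unibranch points, polynomial rings
-/

set_option autoImplicit false

universe u

namespace Groth.Agent.Chevalley

/-- A geometrically unibranch local ring is radicial at the closed point. -/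
theorem radAt_of_isGeomUnibranch (A : Type u) [CommRing A] [IsLocalRing A]
    (h : CAlg2.IsGeomUnibranch A) (p : Ideal (CAlg2.red A)) (hp : p.IsMaximal) :
    RadAt (CAlg2.red A) (CAlg2.normRed A) p := by
  intro k _ _ φ ψ heq hker
  obtain ⟨⟨hdom, hloc⟩, hgeom⟩ := h
  have := hdom
  have := hloc
  have hmax : ∀ χ : CAlg2.normRed A →+* k,
      RingHom.ker (χ.comp (algebraMap (CAlg2.red A) (CAlg2.normRed A))) = p →
      RingHom.ker χ = IsLocalRing.maximalIdeal (CAlg2.normRed A) := by
    intro χ hχ
    have : (RingHom.ker χ).IsPrime := RingHom.ker_isPrime χ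
    refine IsLocalRing.eq_maximalIdeal (Ideal.isMaximal_of_isIntegral_of_isMaximal_comap
      (R := CAlg2.red A) _ ?_)
    rw [RingHom.comap_ker, hχ]
    exact hp
  let m' := IsLocalRing.maximalIdeal (CAlg2.normRed A)
  have hφ := hmax φ hker
  have hψ := hmax ψ (heq ▸ hker)
  let φ' : CAlg2.normRed A ⧸ m' →+* k := Ideal.Quotient.lift m' φ fun a ha ↦ by
    show a ∈ RingHom.ker φ
    rw [hφ]; exact ha
  let ψ' : CAlg2.normRed A ⧸ m' →+* k := Ideal.Quotient.lift m' ψ fun a ha ↦ by
    show a ∈ RingHom.ker ψ
    rw [hψ]; exact ha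
  let := Ideal.Quotient.field m'
  set e := ringExpChar (CAlg2.normRed A ⧸ m')
  have : ExpChar k e := expChar_of_injective_ringHom φ'.injective e
  refine RingHom.ext fun x ↦ ?_
  obtain ⟨n, a, ha⟩ := hgeom m' (Ideal.Quotient.mk m' x)
  apply iterateFrobenius_inj k e n
  simp only [iterateFrobenius_def]
  have h1 : φ x ^ e ^ n = φ (algebraMap (CAlg2.red A) _ (Ideal.Quotient.mk _ a)) :=
    ((map_pow φ' _ _).symm.trans (congrArg φ' ha.symm)).trans (Ideal.Quotient.lift_mk _ _ _)
  have h2 : ψ x ^ e ^ n = ψ (algebraMap (CAlg2.red A) _ (Ideal.Quotient.mk _ a)) :=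
    ((map_pow ψ' _ _).symm.trans (congrArg ψ' ha.symm)).trans (Ideal.Quotient.lift_mk _ _ _)
  rw [h1, h2]
  exact RingHom.congr_fun heq _

/-- Radiciality descends from a localisation containing the point. -/
theorem radAt_of_localization {R S K : Type u} [CommRing R] [CommRing S] [Field K] [Algebra R S]
    [Algebra S K] [Algebra R K] [IsScalarTower R S K] (M : Submonoid R) [IsLocalization M S]
    (p : Ideal R) (q : Ideal S) (hq : q.comap (algebraMap R S) = p)
    (hM : Disjoint (M : Set R) p) [q.IsPrime]
    (hqmap : Ideal.map (algebraMap R S) p = q)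
    (h : RadAt S (integralClosure S K) q) : RadAt R (integralClosure R K) p := by
  intro k _ _ φ ψ heq hker
  let R' := integralClosure R K
  let S' := integralClosure S K
  let j : R' →+* S' := R'.val.toRingHom.codRestrict S' fun x ↦ IsIntegral.tower_top (A := S) x.2
  let _ := j.toAlgebra
  let M' := Algebra.algebraMapSubmonoid R' M
  have : IsLocalization M' S' := by
    refine ⟨⟨?_, ?_, ?_⟩⟩
    · rintro ⟨_, s, hs, rfl⟩
      obtain ⟨w, hw⟩ := (IsLocalization.map_units S (⟨s, hs⟩ : M)).exists_right_inv
      refine IsUnit.of_mul_eq_one (⟨algebraMap S K w, isIntegral_algebraMap⟩ : S') (Subtype.ext ?_)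
      show algebraMap R K s * algebraMap S K w = 1
      rw [IsScalarTower.algebraMap_apply R S K, ← map_mul, hw, map_one]
    · intro z
      obtain ⟨m, hm⟩ := IsIntegral.exists_multiple_integral_of_isLocalization M (Rₘ := S) (z : K) z.2
      refine ⟨⟨⟨_, hm⟩, ⟨algebraMap R R' m, m, m.2, rfl⟩⟩, Subtype.ext ?_⟩
      show (z : K) * algebraMap R K m = m • (z : K)
      rw [Submonoid.smul_def, Algebra.smul_def, mul_comm]
    · intro a b hab
      exact ⟨1, by rw [show a = b from Subtype.ext (congrArg (fun z : S' ↦ (z : K)) hab)]⟩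
  have hunit : ∀ (χ : R' →+* k), RingHom.ker (χ.comp (algebraMap R R')) = p →
      ∀ y : M', IsUnit (χ y) := by
    rintro χ hχ ⟨_, s, hs, rfl⟩
    refine isUnit_iff_ne_zero.mpr fun h0 ↦ Set.disjoint_left.mp hM hs ?_
    rw [← hχ]
    exact h0
  let φ' : S' →+* k := IsLocalization.lift (M := M') (g := φ) (hunit φ hker)
  let ψ' : S' →+* k := IsLocalization.lift (M := M') (g := ψ) (hunit ψ (heq ▸ hker))
  have hbase : ∀ r : R, algebraMap R' S' (algebraMap R R' r) = algebraMap S S' (algebraMap R S r) :=
    fun r ↦ Subtype.ext (IsScalarTower.algebraMap_apply R S K r)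
  have heq' : φ'.comp (algebraMap S S') = ψ'.comp (algebraMap S S') := by
    refine IsLocalization.ringHom_ext M (RingHom.ext fun r ↦ ?_)
    simp only [RingHom.comp_apply, ← hbase, φ', ψ', IsLocalization.lift_eq]
    exact RingHom.congr_fun heq r
  have hker' : RingHom.ker (φ'.comp (algebraMap S S')) = q := by
    have h1 : (RingHom.ker (φ'.comp (algebraMap S S'))).comap (algebraMap R S) = p := by
      rw [RingHom.comap_ker, ← hker]
      congr 1
      ext r
      simp only [RingHom.comp_apply, ← hbase, φ', IsLocalization.lift_eq]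
      rfl
    rw [← hqmap, ← h1, IsLocalization.map_comap M]
  have := h k φ' ψ' heq' hker'
  refine RingHom.ext fun x ↦ ?_
  rw [← IsLocalization.lift_eq (S := S') (hunit φ hker) x,
    ← IsLocalization.lift_eq (S := S') (hunit ψ (heq ▸ hker)) x]
  exact RingHom.congr_fun this _

/-- Radiciality passes to polynomial rings. -/
theorem radAt_mvPolynomial {A K0 : Type u} [CommRing A] [IsDomain A] [Field K0] [Algebra A K0]
    [IsFractionRing A K0] (σ : Type u) (m : Ideal A) (h : RadAt A (integralClosure A K0) m) :
    ∃ (K : Type u) (_ : Field K) (_ : Algebra (MvPolynomial σ A) K)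
      (_ : IsFractionRing (MvPolynomial σ A) K),
      ∀ p : Ideal (MvPolynomial σ A), p.comap MvPolynomial.C = m →
        RadAt (MvPolynomial σ A) (integralClosure (MvPolynomial σ A) K) p := by
  let P := MvPolynomial σ A
  let P0 := MvPolynomial σ K0
  let K := FractionRing P0
  let _ : Algebra P P0 := MvPolynomial.algebraMvPolynomial
  have : IsLocalization ((nonZeroDivisors A).map MvPolynomial.C.toMonoidHom) P0 :=
    MvPolynomial.isLocalization (nonZeroDivisors A) K0
  have hPK : Function.Injective (algebraMap P K) := by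
    rw [IsScalarTower.algebraMap_eq P P0 K]
    exact (IsFractionRing.injective P0 K).comp
      (MvPolynomial.map_injective _ (IsFractionRing.injective A K0))
  have : FaithfulSMul P K := (faithfulSMul_iff_algebraMap_injective _ _).mpr hPK
  have : IsFractionRing P K := IsFractionRing.of_field _ _ fun z ↦ by
    obtain ⟨a, b, hb, rfl⟩ := IsFractionRing.div_surjective P0 z
    let M0 : Submonoid P :=
      (nonZeroDivisors A).map (MvPolynomial.C : A →+* P).toMonoidHom
    have : IsLocalization M0 P0 := MvPolynomial.isLocalization (nonZeroDivisors A) K0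
    obtain ⟨a1, sa, ha⟩ := IsLocalization.exists_mk'_eq M0 a
    obtain ⟨b1, sb, hb'⟩ := IsLocalization.exists_mk'_eq M0 b
    have hne : ∀ s : M0,
        algebraMap P0 K (algebraMap P P0 (s : P)) ≠ 0 := fun s ↦
      (((IsLocalization.map_units P0 s)).map (algebraMap P0 K)).ne_zero
    refine ⟨a1 * (sb : P), b1 * (sa : P), ?_⟩
    have e1 := congrArg (algebraMap P0 K) (IsLocalization.mk'_spec P0 a1 sa)
    have e2 := congrArg (algebraMap P0 K) (IsLocalization.mk'_spec P0 b1 sb)
    rw [ha, map_mul] at e1
    rw [hb', map_mul] at e2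
    simp only [← IsScalarTower.algebraMap_apply] at e1 e2
    have hb0 : algebraMap P0 K b ≠ 0 :=
      (map_ne_zero_iff _ (IsFractionRing.injective P0 K)).mpr (nonZeroDivisors.ne_zero hb)
    have hsa := hne sa
    have hsb := hne sb
    rw [← IsScalarTower.algebraMap_apply] at hsa hsb
    rw [map_mul, map_mul, ← e1, ← e2]
    rw [div_eq_div_iff hb0 (mul_ne_zero (mul_ne_zero hb0 hsb) hsa)]; ring
  refine ⟨K, inferInstance, inferInstance, this, fun p hp k _ _ φ ψ heq hker ↦ ?_⟩
  let A' := integralClosure A K0
  have hmap : ∀ F : MvPolynomial σ A',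
      IsIntegral P (algebraMap P0 K (MvPolynomial.map A'.val.toRingHom F)) := fun F ↦ by
    refine IsIntegral.map (R := P) (IsScalarTower.toAlgHom P P0 K) ?_
    induction F using MvPolynomial.induction_on with
    | C a =>
      rw [MvPolynomial.map_C]
      obtain ⟨g, hg, hga⟩ := a.2
      refine ⟨g.map MvPolynomial.C, hg.map _, ?_⟩
      rw [Polynomial.eval₂_map, show (algebraMap P P0).comp MvPolynomial.C =
        MvPolynomial.C.comp (algebraMap A K0) from RingHom.ext fun x ↦ MvPolynomial.map_C _ x]
      exact (Polynomial.hom_eval₂ g _ MvPolynomial.C _).symm.trans (by rw [← map_zero MvPolynomial.C, ← hga]; rfl)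
    | add a b ha hb => rw [map_add]; exact ha.add hb
    | mul_X a i ha =>
      rw [map_mul, MvPolynomial.map_X]
      refine ha.mul ?_
      rw [show (MvPolynomial.X i : P0) = algebraMap P P0 (MvPolynomial.X i) from
        (MvPolynomial.map_X _ i).symm]
      exact isIntegral_algebraMap
  let ev : MvPolynomial σ A' →+* integralClosure P K :=
    ((algebraMap P0 K).comp (MvPolynomial.map A'.val.toRingHom)).codRestrict
      (integralClosure P K) hmap
  have hsurj : Function.Surjective ev := by
    intro z
    have hz0 : IsIntegral P0 (z : K) := z.2.tower_top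
    obtain ⟨F, hF⟩ := IsIntegrallyClosed.isIntegral_iff.mp hz0
    have hFint : IsIntegral P F := by
      rw [← isIntegral_algHom_iff (IsScalarTower.toAlgHom P P0 K) (IsFractionRing.injective P0 K)]
      show IsIntegral P (algebraMap P0 K F)
      rw [hF]; exact z.2
    have hc := MvPolynomial.isIntegral_iff_isIntegral_coeff.mp hFint
    have hr : F ∈ Set.range (MvPolynomial.map (σ := σ) A'.val.toRingHom) := by
      rw [MvPolynomial.mem_range_map_iff_coeffs_subset]
      intro c hcF
      obtain ⟨n, -, rfl⟩ := MvPolynomial.mem_coeffs_iff.mp hcF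
      exact ⟨⟨_, hc n⟩, rfl⟩
    obtain ⟨F', rfl⟩ := hr
    exact ⟨F', Subtype.ext hF⟩
  have hcomp : ∀ F : P, ev (MvPolynomial.map (algebraMap A A') F) =
      algebraMap P (integralClosure P K) F := fun F ↦ Subtype.ext (by
    show algebraMap P0 K _ = algebraMap P0 K _
    congr 1
    exact MvPolynomial.map_map _ _ _)
  have hP : ∀ F : P, φ (ev (MvPolynomial.map (algebraMap A A') F)) =
      ψ (ev (MvPolynomial.map (algebraMap A A') F)) := fun F ↦ by
    rw [hcomp]; exact RingHom.congr_fun heq F
  have hC : (φ.comp ev).comp MvPolynomial.C = (ψ.comp ev).comp MvPolynomial.C := by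
    refine h k _ _ (RingHom.ext fun a ↦ ?_) ?_
    · simpa using hP (MvPolynomial.C a)
    · rw [← hp, ← hker, RingHom.comap_ker]
      congr 1
      ext a
      simp only [RingHom.comp_apply]
      rw [← MvPolynomial.map_C (algebraMap A A'), hcomp]
  have hev : φ.comp ev = ψ.comp ev := by
    refine MvPolynomial.ringHom_ext (fun a ↦ RingHom.congr_fun hC a) fun i ↦ ?_
    simpa using hP (MvPolynomial.X i)
  refine RingHom.ext fun z ↦ ?_
  obtain ⟨F, rfl⟩ := hsurj z
  exact RingHom.congr_fun hev F

end Groth.Agent.Chevalley
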