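import Groth.Agent.Chevalley.Normal
import Groth.Agent.Chevalley.Radicial
import Mathlib.RingTheory.Spectrum.Prime.RingHom
import Mathlib.RingTheory.Spectrum.Prime.Polynomial
import Mathlib.RingTheory.Polynomial.Quotient
import Mathlib.RingTheory.RingHom.QuasiFinite

/-!
# Chevalley's openness criterion, affine form
-/

set_option autoImplicit false

universe u

open TensorProduct PrimeSpectrum Topology

namespace Groth.Agent.Chevalley

/-- A quasi-finite chart dominating a component through a geometrically unibranch point is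
universally open at the points over it. -/
theorem image_mem_nhds_chart {R S : Type u} [CommRing R] [CommRing S] [Algebra R S] {σ : Type u}
    [Finite σ] (ψ : MvPolynomial σ R →ₐ[R] S) (hψ : ψ.toRingHom.QuasiFinite)
    [Algebra.FiniteType R S]
    (p0 : Ideal R) [p0.IsPrime] (q0 : Ideal S) [q0.IsPrime]
    (h0 : q0.comap ψ.toRingHom = p0.map MvPolynomial.C)
    (qx : Ideal S) [qx.IsPrime] (hle : q0 ≤ qx)
    {K0 : Type u} [Field K0] [Algebra (R ⧸ p0) K0] [IsFractionRing (R ⧸ p0) K0]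
    (hrad : RadAt (R ⧸ p0) (integralClosure (R ⧸ p0) K0)
      ((qx.comap (algebraMap R S)).map (Ideal.Quotient.mk p0)))
    (s : R) (hs : s ∉ qx.comap (algebraMap R S))
    (hsV : ∀ p : Ideal R, p.IsPrime → s ∉ p → p0 ≤ p)
    (R' : Type u) [CommRing R'] [Algebra R R'] (q : PrimeSpectrum (R' ⊗[R] S))
    (hq : q.asIdeal.comap (Algebra.TensorProduct.includeRight : S →ₐ[R] R' ⊗[R] S).toRingHom = qx)
    (b : R' ⊗[R] S) (hb : b ∉ q.asIdeal) :
    PrimeSpectrum.comap (algebraMap R' (R' ⊗[R] S)) '' (basicOpen b : Set (PrimeSpectrum (R' ⊗[R] S))) ∈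
      𝓝 (PrimeSpectrum.comap (algebraMap R' (R' ⊗[R] S)) q) := by
  classical
  let inclS : S →ₐ[R] R' ⊗[R] S := Algebra.TensorProduct.includeRight
  let R0 := R ⧸ p0
  let P := MvPolynomial σ R0
  let B := S ⧸ q0
  have hp0q0 : ∀ a ∈ p0, algebraMap R S a ∈ q0 := fun a ha ↦ by
    have : MvPolynomial.C a ∈ q0.comap ψ.toRingHom := h0 ▸ Ideal.mem_map_of_mem _ ha
    simpa [MvPolynomial.algebraMap_eq] using (show ψ (MvPolynomial.C a) ∈ q0 from this)
  let f0 : R0 →+* B := Ideal.Quotient.lift p0 ((Ideal.Quotient.mk q0).comp (algebraMap R S))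
    fun a ha ↦ Ideal.Quotient.eq_zero_iff_mem.mpr (hp0q0 a ha)
  let g0 : P →+* B := MvPolynomial.eval₂Hom f0 fun i ↦ Ideal.Quotient.mk q0 (ψ (MvPolynomial.X i))
  let π0 : MvPolynomial σ R →+* P := MvPolynomial.map (Ideal.Quotient.mk p0)
  have hπ0 : Function.Surjective π0 :=
    MvPolynomial.map_surjective _ Ideal.Quotient.mk_surjective
  have hg0 : g0.comp π0 = (Ideal.Quotient.mk q0).comp ψ.toRingHom := by
    refine MvPolynomial.ringHom_ext (fun a ↦ ?_) fun i ↦ ?_
    · show g0 (π0 (MvPolynomial.C a)) = Ideal.Quotient.mk q0 (ψ (MvPolynomial.C a))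
      rw [MvPolynomial.map_C, MvPolynomial.eval₂Hom_C, ← MvPolynomial.algebraMap_eq, ψ.commutes]
      rfl
    · show g0 (π0 (MvPolynomial.X i)) = Ideal.Quotient.mk q0 (ψ (MvPolynomial.X i))
      rw [MvPolynomial.map_X, MvPolynomial.eval₂Hom_X']
  let _ : Algebra P B := g0.toAlgebra
  have hinj : Function.Injective (algebraMap P B) := by
    refine (injective_iff_map_eq_zero _).mpr fun F hF ↦ ?_
    obtain ⟨F, rfl⟩ := hπ0 F
    have h1 : F ∈ q0.comap ψ.toRingHom := by
      show ψ F ∈ q0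
      rw [← Ideal.Quotient.eq_zero_iff_mem]
      exact (RingHom.congr_fun hg0 F).symm.trans hF
    rw [h0, MvPolynomial.mem_map_C_iff] at h1
    ext n
    rw [MvPolynomial.coeff_map, MvPolynomial.coeff_zero]
    exact Ideal.Quotient.eq_zero_iff_mem.mpr (h1 n)
  have hmk : Function.Surjective (Ideal.Quotient.mk q0) := Ideal.Quotient.mk_surjective
  have hqf : (algebraMap P B).QuasiFinite := by
    refine RingHom.QuasiFinite.of_comp (g := π0) ?_
    rw [show (algebraMap P B).comp π0 = _ from hg0]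
    exact (RingHom.QuasiFinite.of_finite (RingHom.Finite.of_surjective _ hmk)).comp hψ
  have : Algebra.QuasiFinite P B := RingHom.quasiFinite_algebraMap.mp hqf
  have hft : (algebraMap P B).FiniteType := by
    refine RingHom.FiniteType.of_comp_finiteType (f := π0.comp (MvPolynomial.C : R →+* MvPolynomial σ R)) (g := algebraMap P B) ?_
    rw [← RingHom.comp_assoc, show (algebraMap P B).comp π0 = _ from hg0, RingHom.comp_assoc]
    refine RingHom.FiniteType.comp (RingHom.FiniteType.of_surjective _ hmk) ?_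
    have : ψ.toRingHom.comp MvPolynomial.C = algebraMap R S :=
      RingHom.ext fun a ↦ (MvPolynomial.algebraMap_eq (R := R) (σ := σ) ▸ ψ.commutes a :)
    rw [this]
    exact RingHom.finiteType_algebraMap.mpr inferInstance
  have : Algebra.FiniteType P B := RingHom.finiteType_algebraMap.mp hft
  -- the base change
  let p0' : Ideal R' := p0.map (algebraMap R R')
  let R1 := R' ⧸ p0'
  let R2 := MvPolynomial σ R1
  let f1 : R0 →+* R1 := Ideal.quotientMap p0' (algebraMap R R') Ideal.le_comap_map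
  let _ : Algebra P R2 := (MvPolynomial.map f1).toAlgebra
  let T := R2 ⊗[P] B
  let inclB : B →+* T := (Algebra.TensorProduct.includeRight : B →ₐ[P] T).toRingHom
  let l : R' →+* T := algebraMap R' T
  have hC : ∀ c : R0, inclB (f0 c) = algebraMap R2 T (MvPolynomial.C (f1 c)) := fun c ↦ by
    have h1 : f0 c = algebraMap P B (MvPolynomial.C c) := (MvPolynomial.eval₂Hom_C _ _ _).symm
    have h2 : MvPolynomial.C (f1 c) = algebraMap P R2 (MvPolynomial.C c) :=
      (MvPolynomial.map_C _ _).symm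
    rw [h1, h2, ← IsScalarTower.algebraMap_apply]
    exact (Algebra.TensorProduct.includeRight : B →ₐ[P] T).commutes _
  let inS : S →ₐ[R] T := ⟨inclB.comp (Ideal.Quotient.mk q0), fun a ↦ by
    exact hC (Ideal.Quotient.mk p0 a)⟩
  let Φ : R' ⊗[R] S →ₐ[R'] T :=
    Algebra.TensorProduct.lift (Algebra.ofId R' T) inS fun _ _ ↦ .all _ _
  -- the point
  obtain ⟨k, _, _, θ, hkθ⟩ := exists_hom_ker q.asIdeal
  have hθ0 : ∀ a ∈ q0, θ (inclS a) = 0 := fun a ha ↦ by
    have : inclS a ∈ q.asIdeal := by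
      have h := hle ha
      rw [← hq] at h
      exact h
    rwa [← hkθ] at this
  let θB : B →+* k := Ideal.Quotient.lift q0 (θ.comp inclS.toRingHom) hθ0
  let θ1 : R1 →+* k := Ideal.Quotient.lift p0' (θ.comp (algebraMap R' _)) fun a ha ↦ by
    have hle' : p0' ≤ RingHom.ker (θ.comp (algebraMap R' (R' ⊗[R] S))) := by
      refine Ideal.map_le_iff_le_comap.mpr fun x hx ↦ ?_
      show θ (algebraMap R' _ (algebraMap R R' x)) = 0
      rw [← IsScalarTower.algebraMap_apply, ← inclS.commutes]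
      exact hθ0 _ (hp0q0 x hx)
    exact hle' ha
  let θ2 : R2 →+* k := MvPolynomial.eval₂Hom θ1 fun i ↦ θ (inclS (ψ (MvPolynomial.X i)))
  let _ : Algebra R2 k := θ2.toAlgebra
  let _ : Algebra P k := (θ2.comp (algebraMap P R2)).toAlgebra
  have : IsScalarTower P R2 k := IsScalarTower.of_algebraMap_eq' rfl
  have hθP : θB.comp (algebraMap P B) = θ2.comp (algebraMap P R2) := by
    refine MvPolynomial.ringHom_ext (fun c ↦ ?_) fun i ↦ ?_
    · obtain ⟨c, rfl⟩ := Ideal.Quotient.mk_surjective c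
      show θB (g0 (MvPolynomial.C _)) = θ2 (MvPolynomial.map f1 (MvPolynomial.C _))
      rw [MvPolynomial.map_C, MvPolynomial.eval₂Hom_C, MvPolynomial.eval₂Hom_C]
      show θ (inclS (algebraMap R S c)) = θ (algebraMap R' _ (algebraMap R R' c))
      rw [inclS.commutes, ← IsScalarTower.algebraMap_apply]
    · show θB (g0 (MvPolynomial.X i)) = θ2 (MvPolynomial.map f1 (MvPolynomial.X i))
      rw [MvPolynomial.map_X, MvPolynomial.eval₂Hom_X', MvPolynomial.eval₂Hom_X']
      rfl
  let θB' : B →ₐ[P] k := ⟨θB, fun x ↦ RingHom.congr_fun hθP x⟩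
  let Θ : T →ₐ[R2] k := Algebra.TensorProduct.lift (Algebra.ofId R2 k) θB' fun _ _ ↦ .all _ _
  have hΘS : ∀ a : S, Θ (inS a) = θ (inclS a) := fun a ↦ by
    show Θ ((1 : R2) ⊗ₜ[P] Ideal.Quotient.mk q0 a) = _
    refine (Algebra.TensorProduct.lift_tmul _ _ _ _ _).trans ?_
    rw [map_one, one_mul]
    rfl
  have hΘl : ∀ a : R', Θ (l a) = θ (algebraMap R' _ a) := fun a ↦ by
    show Θ (algebraMap R2 T (MvPolynomial.C (Ideal.Quotient.mk p0' a))) = _
    rw [Θ.commutes]
    exact (MvPolynomial.eval₂Hom_C _ _ _).trans (Ideal.Quotient.lift_mk _ _ _)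
  have hΘΦ : ∀ z, Θ (Φ z) = θ z := fun z ↦ by
    induction z using TensorProduct.induction_on with
    | zero => simp
    | add x y hx hy => simp [map_add, hx, hy]
    | tmul a x =>
      rw [show a ⊗ₜ[R] x = algebraMap R' _ a * inclS x by simp [inclS], map_mul, map_mul, map_mul,
        AlgHom.commutes]
      congr 1
      · exact hΘl a
      · show Θ (Φ (1 ⊗ₜ x)) = _
        simp only [Φ, Algebra.TensorProduct.lift_tmul, map_one, one_mul]
        exact hΘS x
  let q2 : PrimeSpectrum T := ⟨RingHom.ker Θ.toRingHom, RingHom.ker_isPrime _⟩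
  obtain ⟨K, _, _, _, hK⟩ := radAt_mvPolynomial σ
    ((qx.comap (algebraMap R S)).map (Ideal.Quotient.mk p0)) hrad
  have hm : (qx.comap (algebraMap R S)).map (Ideal.Quotient.mk p0) =
      RingHom.ker (θB.comp f0) := by
    refine le_antisymm (Ideal.map_le_iff_le_comap.mpr fun a ha ↦ ?_) fun c hc ↦ ?_
    · show θB (f0 (Ideal.Quotient.mk p0 a)) = 0
      simp only [θB, f0, Ideal.Quotient.lift_mk, RingHom.comp_apply]
      show θ (inclS _) = 0
      rw [← RingHom.mem_ker, hkθ]
      rw [← hq] at ha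
      exact ha
    · obtain ⟨a, rfl⟩ := Ideal.Quotient.mk_surjective c
      refine Ideal.mem_map_of_mem _ ?_
      show algebraMap R S a ∈ qx
      rw [← hq, Ideal.mem_comap, ← hkθ]
      exact hc
  have hT : RadAt P (integralClosure P K) (q2.asIdeal.comap (algebraMap P T)) := by
    refine hK _ ?_
    rw [hm, RingHom.comap_ker, RingHom.comap_ker]
    congr 1
    refine RingHom.ext fun c ↦ ?_
    show Θ.toRingHom (algebraMap P T (MvPolynomial.C c)) = θB (f0 c)
    rw [IsScalarTower.algebraMap_apply P R2 T, AlgHom.toRingHom_eq_coe, RingHom.coe_coe, Θ.commutes]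
    show (θ2.comp (algebraMap P R2)) (MvPolynomial.C c) = _
    rw [← hθP, RingHom.comp_apply]
    exact congrArg θB (MvPolynomial.eval₂Hom_C _ _ _)
  have hΦb : Φ b ∉ q2.asIdeal := fun h ↦ hb (by
    rw [← hkθ]
    exact (hΘΦ b).symm.trans h)
  have hmain := image_mem_nhds_quasiFinite (K := K) B R2 hinj q2 inferInstance hT (Φ b) hΦb
  -- down to `R'`
  obtain ⟨V, hVsub, hVo, hV⟩ := mem_nhds_iff.mp hmain
  let V1 : Set (PrimeSpectrum R1) := PrimeSpectrum.comap (MvPolynomial.C (R := R1) (σ := σ)) '' V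
  have hV1 : IsOpen V1 := MvPolynomial.isOpenMap_comap_C V hVo
  obtain ⟨V', hV'o, hV'⟩ : ∃ V', IsOpen V' ∧ PrimeSpectrum.comap (Ideal.Quotient.mk p0') ⁻¹' V' = V1 :=
    (PrimeSpectrum.isClosedEmbedding_comap_of_surjective _ _ Ideal.Quotient.mk_surjective).isInducing
      |>.isOpen_iff.mp hV1
  set t := PrimeSpectrum.comap (algebraMap R' (R' ⊗[R] S)) q
  have ht : PrimeSpectrum.comap (Ideal.Quotient.mk p0')
      (PrimeSpectrum.comap MvPolynomial.C (PrimeSpectrum.comap (algebraMap R2 T) q2)) = t := by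
    refine PrimeSpectrum.ext ?_
    show (((RingHom.ker Θ.toRingHom).comap (algebraMap R2 T)).comap MvPolynomial.C).comap
      (Ideal.Quotient.mk p0') = q.asIdeal.comap _
    rw [← hkθ, RingHom.comap_ker, RingHom.comap_ker, RingHom.comap_ker, RingHom.comap_ker]
    congr 1
    exact RingHom.ext hΘl
  have hts : algebraMap R R' s ∉ t.asIdeal := by
    show algebraMap R' (R' ⊗[R] S) (algebraMap R R' s) ∉ q.asIdeal
    rw [← IsScalarTower.algebraMap_apply, ← inclS.commutes]
    intro h
    refine hs ?_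
    show algebraMap R S s ∈ qx
    rw [← hq]
    exact h
  have htV : t ∈ V' := by
    have : PrimeSpectrum.comap MvPolynomial.C (PrimeSpectrum.comap (algebraMap R2 T) q2) ∈ V1 :=
      ⟨_, hV, rfl⟩
    rw [← hV', Set.mem_preimage, ht] at this
    exact this
  refine Filter.mem_of_superset
    (Filter.inter_mem (hV'o.mem_nhds htV) ((basicOpen (algebraMap R R' s)).2.mem_nhds hts)) ?_
  rintro t' ⟨ht'V, ht's⟩
  have hp : p0' ≤ t'.asIdeal :=
    Ideal.map_le_iff_le_comap.mpr (hsV (t'.asIdeal.comap _) inferInstance ht's)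
  obtain ⟨t1, rfl⟩ : t' ∈ Set.range (PrimeSpectrum.comap (Ideal.Quotient.mk p0')) := by
    rw [range_comap_of_surjective _ _ Ideal.Quotient.mk_surjective]
    simpa [PrimeSpectrum.mem_zeroLocus] using hp
  have ht1 : t1 ∈ V1 := by rw [← hV']; exact ht'V
  obtain ⟨v, hv, rfl⟩ := ht1
  obtain ⟨w, hw, rfl⟩ := hVsub hv
  refine ⟨PrimeSpectrum.comap Φ.toRingHom w, hw, ?_⟩
  refine PrimeSpectrum.ext ?_
  show (w.asIdeal.comap Φ.toRingHom).comap _ = ((w.asIdeal.comap _).comap _).comap _
  rw [Ideal.comap_comap, Ideal.comap_comap, Ideal.comap_comap]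
  exact congrArg (fun h ↦ Ideal.comap h w.asIdeal) Φ.comp_algebraMap

end Groth.Agent.Chevalley
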