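import Groth.Agent.Chevalley.FiniteBaseChange
import Groth.Agent.DVRDom.Scheme

/-!
# Universal openness and discrete valuation rings
-/

set_option autoImplicit false
set_option linter.style.haveILetI false
set_option backward.isDefEq.respectTransparency.types false

universe u

open CategoryTheory CategoryTheory.Limits AlgebraicGeometry TopologicalSpace Topology TensorProduct
open Groth.Agent.DimTheory Groth.Agent.EquidimChart

noncomputable section

namespace Groth.Agent.Chevalley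

/-- A point of the spectrum of a discrete valuation ring is closed or generic. -/
theorem eq_bot_of_ne_closedPoint {A : Type u} [CommRing A] [IsDomain A] [IsDiscreteValuationRing A]
    (z : Spec (CommRingCat.of A)) (hz : z ≠ IsLocalRing.closedPoint A) :
    z = (⟨⊥, Ideal.isPrime_bot⟩ : PrimeSpectrum A) := by
  by_contra hne
  have hb : (z : PrimeSpectrum A).asIdeal ≠ ⊥ := fun h => hne (PrimeSpectrum.ext h)
  have := (z : PrimeSpectrum A).isPrime.isMaximal hb
  exact hz (PrimeSpectrum.ext (IsLocalRing.eq_maximalIdeal this))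

theorem closedPoint_ne_bot {A : Type u} [CommRing A] [IsDomain A] [IsDiscreteValuationRing A] :
    IsLocalRing.closedPoint A ≠ (⟨⊥, Ideal.isPrime_bot⟩ : PrimeSpectrum A) := fun h =>
  IsDiscreteValuationRing.not_isField A (IsLocalRing.isField_iff_maximalIdeal_eq.2 (congrArg PrimeSpectrum.asIdeal h))

theorem bot_specializes {A : Type u} [CommRing A] [IsDomain A] (z : PrimeSpectrum A) :
    (⟨⊥, Ideal.isPrime_bot⟩ : PrimeSpectrum A) ⤳ z := (PrimeSpectrum.le_iff_specializes _ _).1 bot_le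

/-- Openness at a point from lifting of all generizations. -/
theorem isOpenAt_of_generizations {X Y : Scheme.{u}} [IsLocallyNoetherian Y] (f : X ⟶ Y) [LocallyOfFiniteType f]
    (x : X) (h : ∀ z : Y, z ⤳ f x → z ≠ f x → ∃ w, w ⤳ x ∧ f w = z) : EGA43.IsOpenAt f.base x := by
  intro N hN
  obtain ⟨O, hON, hO, hxO⟩ := mem_nhds_iff.1 hN
  obtain ⟨U, hU, hxU, hUO⟩ := exists_isAffineOpen_mem_and_subset (X := X) (x := x) (U := ⟨O, hO⟩) hxO
  haveI : IsAffine (U : Scheme.{u}) := hU
  have hcons : Topology.IsLocallyConstructible ((U.ι ≫ f) '' Set.univ) :=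
    (U.ι ≫ f).isLocallyConstructible_image
      ((Topology.IsConstructible.univ (X := ↥(U : Scheme.{u}))).isLocallyConstructible)
  refine Filter.mem_of_superset (mem_nhds_of_generizations hcons (y := f x) fun z hz => ?_) ?_
  · by_cases hzx : z = f x
    · exact ⟨⟨x, hxU⟩, trivial, (Scheme.Hom.comp_apply _ _ _).trans hzx.symm⟩
    · obtain ⟨w, hw, hfw⟩ := h z hz hzx
      exact ⟨⟨w, hw.mem_open U.2 hxU⟩, trivial, (Scheme.Hom.comp_apply _ _ _).trans hfw⟩
  · rintro _ ⟨w, -, rfl⟩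
    exact ⟨U.ι w, hON (hUO w.2), (Scheme.Hom.comp_apply _ _ _).symm⟩

/-- Openness over a discrete valuation ring gives lifting of the generization. -/
theorem exists_ne_closedPoint {P : Scheme.{u}} {A : Type u} [CommRing A] [IsDomain A] [IsDiscreteValuationRing A]
    (p : P ⟶ Spec (CommRingCat.of A)) [LocallyOfFiniteType p] (x : P) (h : EGA43.IsOpenAt p.base x)
    (hx : p x = IsLocalRing.closedPoint A) :
    ∃ z : P, z ⤳ x ∧ p z ≠ IsLocalRing.closedPoint A := by
  haveI : IsLocallyNoetherian P := LocallyOfFiniteType.isLocallyNoetherian p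
  obtain ⟨U, hxU, -, hUmax⟩ := exists_nbhd_max_specializes (x := x) (U := ⊤) trivial
  obtain ⟨O, hOU, hO, hxO⟩ := mem_nhds_iff.1 (h _ (U.2.mem_nhds hxU))
  obtain ⟨w, hwU, hw⟩ := hOU ((bot_specializes (p x : PrimeSpectrum A)).mem_open hO hxO)
  obtain ⟨ξ, hξw, hξ⟩ := FlatMorLib.exists_maximal_generization w
  refine ⟨ξ, hUmax ξ (hξw.mem_open U.2 hwU) hξ, fun hc => ?_⟩
  have h1 : p ξ ⤳ (⟨⊥, Ideal.isPrime_bot⟩ : PrimeSpectrum A) := hw ▸ hξw.map p.continuous
  rw [hc] at h1
  exact closedPoint_ne_bot (PrimeSpectrum.ext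
    (le_antisymm ((PrimeSpectrum.le_iff_specializes _ _).2 h1) bot_le))

variable {X Y : Scheme.{u}}

/-- The valuative condition at a point. -/
def DVRLift (f : X ⟶ Y) (x : X) : Prop :=
  ∀ (A : Type u) [CommRing A] [IsDomain A] [IsDiscreteValuationRing A]
    (g : Spec (CommRingCat.of A) ⟶ Y), g.base (IsLocalRing.closedPoint A) = f.base x →
    ∀ x' : ↥(pullback f g), (pullback.fst f g).base x' = x →
      (pullback.snd f g).base x' = IsLocalRing.closedPoint A →
      ∃ z' : ↥(pullback f g), z' ⤳ x' ∧ (pullback.snd f g).base z' ≠ IsLocalRing.closedPoint A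

theorem dvrLift_of_isUnivOpenAt (f : X ⟶ Y) [LocallyOfFiniteType f] {x : X} (h : EGA43.IsUnivOpenAt f x) :
    DVRLift f x := by
  intro A _ _ _ g _ x' hx' hc
  haveI : LocallyOfFiniteType (pullback.snd f g) := MorphismProperty.pullback_snd _ _ inferInstance
  exact exists_ne_closedPoint (pullback.snd f g) x' (h _ g x' hx') hc

/-- The valuative condition gives openness after a locally Noetherian base change. -/
theorem isOpenAt_of_dvrLift (f : X ⟶ Y) [LocallyOfFiniteType f] {x : X} (h : DVRLift f x)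
    {X₁ Y₁ : Scheme.{u}} [IsLocallyNoetherian Y₁] {a : X₁ ⟶ X} {f₁ : X₁ ⟶ Y₁} {g₁ : Y₁ ⟶ Y}
    (hc : IsPullback a f₁ f g₁) (x₁ : X₁) (hx₁ : a x₁ = x) : EGA43.IsOpenAt f₁.base x₁ := by
  haveI : LocallyOfFiniteType f₁ := MorphismProperty.of_isPullback hc inferInstance
  refine isOpenAt_of_generizations f₁ x₁ fun z hz hzne => ?_
  obtain ⟨A, k, hA, hkc, hkg⟩ :=
    DVRDom.exists_dvr_through_specialization (𝟙 Y₁) z (f₁ x₁) hz (Ne.symm hzne)
  haveI := hA
  have hkbot : k (⟨⊥, Ideal.isPrime_bot⟩ : PrimeSpectrum A) = z := by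
    have h2 : Spec.map (CommRingCat.ofHom A.subtype) (IsLocalRing.closedPoint (Y₁.residueField z)) =
        (⟨⊥, Ideal.isPrime_bot⟩ : PrimeSpectrum A) := by
      refine PrimeSpectrum.ext ?_
      show (IsLocalRing.maximalIdeal (Y₁.residueField z)).comap A.subtype = ⊥
      rw [IsLocalRing.maximalIdeal_eq_bot, ← RingHom.ker_eq_comap_bot]
      exact (RingHom.injective_iff_ker_eq_bot _).mp Subtype.val_injective
    refine (congrArg k h2.symm).trans ?_
    rw [← Scheme.Hom.comp_apply, hkg, Category.comp_id, Scheme.fromSpecResidueField_apply]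
  obtain ⟨v, hv, hvc⟩ := Scheme.Pullback.exists_preimage_pullback (f := f₁) (g := k) x₁
    (IsLocalRing.closedPoint A) hkc.symm
  let hp := (IsPullback.of_hasPullback f₁ k).paste_horiz hc
  let e := hp.isoPullback
  have he1 : e.hom ≫ pullback.fst f (k ≫ g₁) = pullback.fst f₁ k ≫ a := hp.isoPullback_hom_fst
  have he2 : e.hom ≫ pullback.snd f (k ≫ g₁) = pullback.snd f₁ k := hp.isoPullback_hom_snd
  have hfst : pullback.fst f (k ≫ g₁) (e.hom v) = x := by
    rw [← Scheme.Hom.comp_apply, he1, Scheme.Hom.comp_apply, hv]; exact hx₁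
  have hsnd : pullback.snd f (k ≫ g₁) (e.hom v) = IsLocalRing.closedPoint A := by
    rw [← Scheme.Hom.comp_apply, he2]; exact hvc
  obtain ⟨z', hz', hne⟩ := h A (k ≫ g₁) (by
    show (k ≫ g₁) (IsLocalRing.closedPoint A) = f x
    rw [Scheme.Hom.comp_apply, hkc, ← hx₁]
    exact congr($(hc.w.symm) x₁)) (e.hom v) hfst hsnd
  refine ⟨pullback.fst f₁ k (e.inv z'), ?_, ?_⟩
  · have h1 := (hz'.map e.inv.continuous).map (pullback.fst f₁ k).continuous
    have h2 : e.inv (e.hom v) = v := by rw [← Scheme.Hom.comp_apply, e.hom_inv_id]; rfl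
    rwa [h2, hv] at h1
  · have h3 : pullback.snd f₁ k (e.inv z') = (⟨⊥, Ideal.isPrime_bot⟩ : PrimeSpectrum A) := by
      rw [← Scheme.Hom.comp_apply, ← he2, Iso.inv_hom_id_assoc]
      exact eq_bot_of_ne_closedPoint _ hne
    rw [← Scheme.Hom.comp_apply, pullback.condition, Scheme.Hom.comp_apply, h3, hkbot]

/-- Universal openness can be tested on Noetherian affine base changes (valuative form). -/
theorem isUnivOpenAt_of_dvrLift [IsLocallyNoetherian Y] (f : X ⟶ Y) [LocallyOfFiniteType f] (x : X)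
    (h : DVRLift f x) : EGA43.IsUnivOpenAt f x := by
  obtain ⟨V, hV, hyV, -⟩ := exists_isAffineOpen_mem_and_subset (X := Y) (x := f x) (U := ⊤) trivial
  obtain ⟨U, hU, hxU, hUV⟩ := exists_isAffineOpen_mem_and_subset (X := X) (x := x) (U := f ⁻¹ᵁ V) hyV
  refine isUnivOpenAt_of_affine f x V hV U hU hUV hxU ?_
  letI : Algebra Γ(Y, V) Γ(X, U) := (f.appLE V U hUV).hom.toAlgebra
  haveI : IsNoetherianRing Γ(Y, V) := IsLocallyNoetherian.component_noetherian ⟨V, hV⟩
  intro R' _ _ q hq b hb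
  obtain ⟨T, hT⟩ := exists_finset_mem_range b
  let R₁ := Algebra.adjoin Γ(Y, V) (T : Set R')
  haveI : Algebra.FiniteType Γ(Y, V) R₁ := R₁.fg_iff_finiteType.1 ⟨T, rfl⟩
  haveI : IsNoetherianRing R₁ := Algebra.FiniteType.isNoetherianRing Γ(Y, V) R₁
  obtain ⟨b₁, hb₁⟩ := hT R₁ Algebra.subset_adjoin
  let ι : R₁ ⊗[Γ(Y, V)] Γ(X, U) →ₐ[Γ(Y, V)] R' ⊗[Γ(Y, V)] Γ(X, U) :=
    Algebra.TensorProduct.map R₁.val (AlgHom.id _ _)
  let m := Spec.map (CommRingCat.ofHom ι.toRingHom)
  let k := Spec.map (CommRingCat.ofHom R₁.val.toRingHom)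
  let f' := Spec.map (CommRingCat.ofHom (algebraMap R' (R' ⊗[Γ(Y, V)] Γ(X, U))))
  let f₁ := Spec.map (CommRingCat.ofHom (algebraMap R₁ (R₁ ⊗[Γ(Y, V)] Γ(X, U))))
  let a₁ := Spec.map (CommRingCat.ofHom (Algebra.TensorProduct.includeRight :
    Γ(X, U) →ₐ[Γ(Y, V)] R₁ ⊗[Γ(Y, V)] Γ(X, U)).toRingHom)
  have hma : m ≫ a₁ = Spec.map (CommRingCat.ofHom (Algebra.TensorProduct.includeRight :
      Γ(X, U) →ₐ[Γ(Y, V)] R' ⊗[Γ(Y, V)] Γ(X, U)).toRingHom) := by
    rw [← Spec.map_comp]
    congr 1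
  have hm : IsPullback m f' f₁ k := by
    refine IsPullback.of_right ?_ ?_ (isPullback_specTensor Γ(Y, V) R₁ Γ(X, U))
    · rw [hma]
      have : k ≫ Spec.map (CommRingCat.ofHom (algebraMap Γ(Y, V) R₁)) =
          Spec.map (CommRingCat.ofHom (algebraMap Γ(Y, V) R')) := by
        rw [← Spec.map_comp]; rfl
      rw [this]
      exact isPullback_specTensor Γ(Y, V) R' Γ(X, U)
    · rw [← Spec.map_comp, ← Spec.map_comp]
      congr 1
  obtain ⟨c, hc, hc1, hc2⟩ := exists_chart_square f hV hU hUV R₁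
  have hq₁ : pullback.fst f (Spec.map (CommRingCat.ofHom (algebraMap Γ(Y, V) R₁)) ≫ hV.fromSpec) (c (m q)) = x := by
    rw [← Scheme.Hom.comp_apply, hc1, Scheme.Hom.comp_apply, ← Scheme.Hom.comp_apply m, hma]
    exact (congrArg hU.fromSpec (PrimeSpectrum.ext hq)).trans (hU.fromSpec_primeIdealOf ⟨x, hxU⟩)
  have hopen : EGA43.IsOpenAt f₁.base (m q) := by
    have := isOpenAt_openImm_comp c _ (m q) (isOpenAt_of_dvrLift f h
      (IsPullback.of_hasPullback f (Spec.map (CommRingCat.ofHom (algebraMap Γ(Y, V) R₁)) ≫ hV.fromSpec))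
      (c (m q)) hq₁)
    rwa [hc2] at this
  have hb' : b₁ ∉ (m q : PrimeSpectrum (R₁ ⊗[Γ(Y, V)] Γ(X, U))).asIdeal := fun hmem =>
    hb (hb₁ ▸ (show ι b₁ ∈ q.asIdeal from hmem))
  have h1 := hopen _ ((PrimeSpectrum.basicOpen b₁).2.mem_nhds hb')
  have h2 : k ⁻¹' (f₁ '' (PrimeSpectrum.basicOpen b₁ : Set (PrimeSpectrum (R₁ ⊗[Γ(Y, V)] Γ(X, U))))) ∈ 𝓝 (f' q) := by
    refine k.continuous.continuousAt.preimage_mem_nhds ?_
    rw [show k (f' q) = f₁ (m q) from congr($(hm.w.symm) q)]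
    exact h1
  refine Filter.mem_of_superset h2 ?_
  rintro z ⟨w, hw, hwz⟩
  obtain ⟨v, hv, hv'⟩ := Scheme.exists_preimage_of_isPullback hm w z hwz
  refine ⟨v, fun hbv => hw ?_, hv'⟩
  rw [← hv]
  show ι b₁ ∈ (v : PrimeSpectrum (R' ⊗[Γ(Y, V)] Γ(X, U))).asIdeal
  exact hb₁.symm ▸ hbv

/-- Density of the image over a discrete valuation ring. -/
theorem dense_image_iff {P : Scheme.{u}} {A : Type u} [CommRing A] [IsDomain A] [IsDiscreteValuationRing A]
    (p : P ⟶ Spec (CommRingCat.of A)) (ζ : P) :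
    Dense (p.base '' closure {ζ}) ↔ p ζ ≠ IsLocalRing.closedPoint A := by
  constructor
  · intro hd hc
    have h2 : p.base '' closure {ζ} ⊆ closure {p ζ} :=
      (image_closure_subset_closure_image p.continuous).trans (by rw [Set.image_singleton])
    have h3 := closure_minimal h2 isClosed_closure (hd (⟨⊥, Ideal.isPrime_bot⟩ : PrimeSpectrum A))
    rw [hc] at h3
    exact closedPoint_ne_bot (PrimeSpectrum.ext
      (le_antisymm ((PrimeSpectrum.le_iff_specializes _ _).2 (specializes_iff_mem_closure.2 h3)) bot_le))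
  · intro hne z
    have h := eq_bot_of_ne_closedPoint _ hne
    exact closure_mono (Set.singleton_subset_iff.2 (show (⟨⊥, Ideal.isPrime_bot⟩ : PrimeSpectrum A) ∈
      p.base '' closure {ζ} from ⟨ζ, subset_closure rfl, h⟩)) (bot_specializes (A := A) z).mem_closure

/-- Universal openness along a fibre through components dominating discrete valuation rings. -/
theorem forall_isUnivOpenAt_iff_dense [IsLocallyNoetherian Y] (f : X ⟶ Y) [LocallyOfFiniteType f] (y : Y) :
    (∀ x : X, f.base x = y → EGA43.IsUnivOpenAt f x) ↔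
      ∀ (A : Type u) [CommRing A] [IsDomain A] [IsDiscreteValuationRing A] (g : Spec (CommRingCat.of A) ⟶ Y),
        g.base (IsLocalRing.closedPoint A) = y →
        ∀ Z ∈ irreducibleComponents (↥(pullback f g) : Type u), Dense ((pullback.snd f g).base '' Z) := by
  constructor
  · intro h A _ _ _ g hg Z hZ
    obtain ⟨ζ, rfl⟩ := exists_generic hZ
    rw [dense_image_iff]
    intro hc
    have hfx : f (pullback.fst f g ζ) = y := by
      rw [← Scheme.Hom.comp_apply, pullback.condition, Scheme.Hom.comp_apply, hc]; exact hg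
    obtain ⟨z', hz', hne⟩ := dvrLift_of_isUnivOpenAt f (h _ hfx) A g (hg.trans hfx.symm) ζ rfl hc
    exact hne ((isMax_of_closure_mem_components hZ hz').symm ▸ hc)
  · intro h x hx
    refine isUnivOpenAt_of_dvrLift f x fun A _ _ _ g hg x' _ hc => ?_
    have hZ := irreducibleComponent_mem_irreducibleComponents x'
    obtain ⟨ζ, hζ⟩ := exists_generic hZ
    have hd := h A g (hg.trans hx) _ hZ
    rw [← hζ, dense_image_iff] at hd
    exact ⟨ζ, specializes_iff_mem_closure.2 (hζ.symm ▸ mem_irreducibleComponent), hd⟩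

end Groth.Agent.Chevalley
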