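import Groth.Agent.Chevalley.SectionUnique
import Groth.Agent.Chevalley.DVRCrit

/-!
# Connectedness of the generic part near a reduced special fibre
-/

set_option autoImplicit false
set_option linter.style.haveILetI false
set_option backward.isDefEq.respectTransparency.types false

universe u

open CategoryTheory CategoryTheory.Limits AlgebraicGeometry TopologicalSpace Topology
open Groth.Agent.DimTheory Groth.Agent.EquidimChart

namespace Groth.Agent.Chevalley

/-- A power of a nonzerodivisor with reduced quotient does not create idempotents. -/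
theorem idem_of_away {O : Type u} [CommRing O] {t : O} (ht : t ∈ nonZeroDivisors O)
    (hrad : (Ideal.span {t}).IsRadical) : ∀ (n : ℕ) (a : O), a ^ 2 = t ^ n * a →
      ∃ e : O, IsIdempotentElem e ∧ a = t ^ n * e := by
  intro n
  induction n with
  | zero => exact fun a ha => ⟨a, by rw [IsIdempotentElem, ← pow_two, ha, pow_zero, one_mul], by rw [pow_zero, one_mul]⟩
  | succ n ih =>
    intro a ha
    obtain ⟨b, rfl⟩ : t ∣ a := Ideal.mem_span_singleton.1 (hrad ⟨2, Ideal.mem_span_singleton.2
      (ha ▸ Dvd.dvd.mul_right (dvd_pow_self t n.succ_ne_zero) a)⟩)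
    have h1 : t * (t * (b ^ 2 - t ^ n * b)) = 0 := by linear_combination ha
    have h2 : b ^ 2 - t ^ n * b = 0 :=
      (mem_nonZeroDivisors_iff.1 ht).1 _ ((mem_nonZeroDivisors_iff.1 ht).1 _ h1)
    obtain ⟨e, he, hbe⟩ := ih b (by linear_combination h2)
    exact ⟨e, he, by rw [hbe, pow_succ]; ring⟩

/-- The punctured spectrum of a local ring with reduced quotient by a nonzerodivisor is connected. -/
theorem preconnected_away {O : Type u} [CommRing O] [IsLocalRing O] {t : O} (ht : t ∈ nonZeroDivisors O)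
    (hrad : (Ideal.span {t}).IsRadical) : PreconnectedSpace (PrimeSpectrum (Localization.Away t)) := by
  have hinj : Function.Injective (algebraMap O (Localization.Away t)) :=
    IsLocalization.injective _ (Submonoid.powers_le.2 ht)
  refine ⟨fun U V hU hV hcov ⟨p, _, hp⟩ ⟨q, _, hq⟩ => ?_⟩
  by_contra hne
  have hdis : ∀ x, x ∈ U → x ∉ V := fun x hx hxV => hne ⟨x, trivial, hx, hxV⟩
  have hUc : IsClopen U := ⟨by
    rw [show U = Vᶜ from Set.ext fun x => ⟨hdis x, fun h => ((hcov (Set.mem_univ x)).resolve_right h)⟩]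
    exact hV.isClosed_compl, hU⟩
  let e := (PrimeSpectrum.isIdempotentElemEquivClopens (R := Localization.Away t)).symm ⟨U, hUc⟩
  have he : (PrimeSpectrum.basicOpen (e.1 : Localization.Away t) : Set _) = U := by
    rw [PrimeSpectrum.basicOpen_isIdempotentElemEquivClopens_symm]; rfl
  obtain ⟨⟨a, _, n, rfl⟩, hs⟩ := IsLocalization.surj (Submonoid.powers t) (e.1 : Localization.Away t)
  have hE : (e.1 : Localization.Away t) * e.1 = e.1 := e.2
  have ha : a ^ 2 = t ^ n * a := hinj (by
    rw [map_pow, map_mul, ← hs]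
    linear_combination (algebraMap O (Localization.Away t) (t ^ n)) ^ 2 * hE)
  obtain ⟨b, hb, rfl⟩ := idem_of_away ht hrad n a ha
  have hu : IsUnit (algebraMap O (Localization.Away t) (t ^ n)) :=
    IsLocalization.map_units _ (⟨t ^ n, n, rfl⟩ : Submonoid.powers t)
  have heb : (e.1 : Localization.Away t) = algebraMap O _ b :=
    hu.mul_left_injective (hs.trans (by rw [map_mul, mul_comm]))
  rcases IsLocalRing.isUnit_or_isUnit_one_sub_self b with h | h
  · have h1 : b = 1 := h.mul_left_cancel (hb.trans (mul_one b).symm)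
    rw [heb, h1, map_one] at he
    exact hdis q (he ▸ (PrimeSpectrum.mem_basicOpen 1 q).2 ((Ideal.ne_top_iff_one _).1 q.isPrime.ne_top)) hq
  · have h1 : b = 0 := (IsUnit.mul_right_eq_zero h).1 (by rw [sub_mul, one_mul, hb.eq, sub_self])
    rw [heb, h1, map_zero] at he
    have h2 : p ∈ (PrimeSpectrum.basicOpen (0 : Localization.Away t) : Set _) := he ▸ hp
    exact (PrimeSpectrum.mem_basicOpen _ p).1 h2 (zero_mem _)

variable {X Y : Scheme.{u}}

/-- The generizations of a point outside its fibre form a connected set. -/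
theorem isPreconnected_generizations (f : X ⟶ Y) [IsLocallyNoetherian X] (w : X) {t : Y.presheaf.stalk (f w)}
    (ht : IsLocalRing.maximalIdeal (Y.presheaf.stalk (f w)) = Ideal.span {t})
    (hred : _root_.IsReduced ((f.fiber (f w)).presheaf.stalk (f.asFiber w)))
    (hmax : ∀ ξ, ξ ⤳ w → (∀ z, z ⤳ ξ → z = ξ) → f ξ ≠ f w) :
    _root_.IsPreconnected {v : X | v ⤳ w ∧ f v ≠ f w} := by
  let O := X.presheaf.stalk w
  let φ := (f.stalkMap w).hom
  let J : Ideal O := (IsLocalRing.maximalIdeal (Y.presheaf.stalk (f w))).map φ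
  have hJ : J.IsRadical := by
    rw [Ideal.isRadical_iff_quotient_reduced]
    have key : ∀ (b : f.fiber (f w)) (a : X), f.fiberι (f w) b = a →
        _root_.IsReduced ((f.fiber (f w)).presheaf.stalk b) →
        _root_.IsReduced (X.presheaf.stalk a ⧸ (IsLocalRing.maximalIdeal (Y.presheaf.stalk (f a))).map
          (f.stalkMap a).hom) := by
      rintro b a rfl hb
      have hk : RingHom.ker ((f.fiberι (f w)).stalkMap b).hom =
          (IsLocalRing.maximalIdeal (Y.presheaf.stalk (f (f.fiberι (f w) b)))).map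
            (f.stalkMap (f.fiberι (f w) b)).hom :=
        le_antisymm (DivPts.ker_fiberι_stalkMap_le f (f w) b)
          (Ideal.map_le_iff_le_comap.2 fun a ha => DivPts.stalkMap_fiberι_eq_zero f (f w) b ha)
      haveI := hb
      let e := (Ideal.quotEquivOfEq hk).symm.trans
        (RingHom.quotientKerEquivOfSurjective ((f.fiberι (f w)).stalkMap_surjective b))
      exact isReduced_of_injective e.toRingHom e.injective
    exact key (f.asFiber w) w (f.fiberι_asFiber w) hred
  have hspan : J = Ideal.span {φ t} := by simp only [J, ht, Ideal.map_span, Set.image_singleton]; rfl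
  have hmem : ∀ Q : Spec O, φ t ∈ (Q : PrimeSpectrum O).asIdeal ↔ f (X.fromSpecStalk w Q) = f w := by
    intro Q
    have hnat : f (X.fromSpecStalk w Q) = Y.fromSpecStalk (f w) (PrimeSpectrum.comap φ Q) :=
      (congr($(Scheme.SpecMap_stalkMap_fromSpecStalk f (x := w)) Q)).symm
    rw [hnat, ← Ideal.span_singleton_le_iff_mem, ← hspan, Ideal.map_le_iff_le_comap]
    constructor
    · intro h
      have h2 : PrimeSpectrum.comap φ Q = IsLocalRing.closedPoint (Y.presheaf.stalk (f w)) :=
        PrimeSpectrum.ext (le_antisymm (IsLocalRing.le_maximalIdeal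
          (PrimeSpectrum.comap φ Q).isPrime.ne_top) h)
      rw [h2]
      exact Scheme.fromSpecStalk_closedPoint
    · intro h
      have h2 : PrimeSpectrum.comap φ Q = IsLocalRing.closedPoint (Y.presheaf.stalk (f w)) :=
        (Y.fromSpecStalk (f w)).isEmbedding.injective (h.trans Scheme.fromSpecStalk_closedPoint.symm)
      exact le_of_eq (congrArg PrimeSpectrum.asIdeal h2).symm
  have hrange : ∀ Q : Spec O, X.fromSpecStalk w Q ⤳ w := fun Q => by
    have h3 : X.fromSpecStalk w Q ∈ Set.range (X.fromSpecStalk w) := ⟨_, rfl⟩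
    rwa [Scheme.range_fromSpecStalk] at h3
  have hlow : ∀ P : PrimeSpectrum O, ∃ Q : PrimeSpectrum O, Q.asIdeal ≤ P.asIdeal ∧ φ t ∉ Q.asIdeal := by
    intro P
    obtain ⟨ξ, hξ, hξmax⟩ := FlatMorLib.exists_maximal_generization (X.fromSpecStalk w P)
    obtain ⟨Q, hQ⟩ : ξ ∈ Set.range (X.fromSpecStalk w) := by
      rw [Scheme.range_fromSpecStalk]; exact hξ.trans (hrange P)
    refine ⟨Q, (PrimeSpectrum.le_iff_specializes (Q : PrimeSpectrum O) P).2
      ((X.fromSpecStalk w).isEmbedding.isInducing.specializes_iff.1 (hQ.symm ▸ hξ)), fun hm => ?_⟩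
    exact hmax ξ (hξ.trans (hrange P)) hξmax (hQ ▸ (hmem Q).1 hm)
  let N := nilradical O
  let q : O →+* O ⧸ N := Ideal.Quotient.mk N
  haveI : Nontrivial (O ⧸ N) := Ideal.Quotient.nontrivial_iff.2 fun h =>
    (IsLocalRing.maximalIdeal.isMaximal O).ne_top (top_unique (h ▸ IsLocalRing.le_maximalIdeal (fun hN => by
      have : IsNilpotent (1 : O) := by
        rw [← mem_nilradical, show nilradical O = ⊤ from hN]; trivial
      exact not_isNilpotent_one this)))
  haveI : IsLocalRing (O ⧸ N) := IsLocalRing.of_surjective' q Ideal.Quotient.mk_surjective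
  have hnzd : q (φ t) ∈ nonZeroDivisors (O ⧸ N) := by
    refine mem_nonZeroDivisors_iff_right.2 fun x hx => ?_
    obtain ⟨a, rfl⟩ := Ideal.Quotient.mk_surjective x
    rw [← map_mul, Ideal.Quotient.eq_zero_iff_mem] at hx
    rw [Ideal.Quotient.eq_zero_iff_mem]
    rw [show N = nilradical O from rfl, nilradical_eq_sInf, Ideal.mem_sInf] at hx ⊢
    intro P hP
    obtain ⟨Q, hQ, hQt⟩ := hlow ⟨P, hP⟩
    exact hQ ((Q.isPrime.mem_or_mem (hx Q.isPrime)).resolve_right hQt)
  have hrad : (Ideal.span {q (φ t)}).IsRadical := by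
    rintro x ⟨m, hm⟩
    obtain ⟨a, rfl⟩ := Ideal.Quotient.mk_surjective x
    rw [← map_pow, ← Set.image_singleton, ← Ideal.map_span, ← hspan, Ideal.mem_map_iff_of_surjective q
      Ideal.Quotient.mk_surjective] at hm
    obtain ⟨b, hb, hb'⟩ := hm
    obtain ⟨k, hk⟩ := mem_nilradical.1 (Ideal.Quotient.eq.1 hb'.symm)
    have h1 : a ^ m ∈ J := by
      rw [← sub_add_cancel (a ^ m) b]
      exact J.add_mem (hJ ⟨k, by rw [hk]; exact zero_mem _⟩) hb
    rw [← Set.image_singleton, ← Ideal.map_span, ← hspan]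
    exact Ideal.mem_map_of_mem q (hJ ⟨m, h1⟩)
  haveI := preconnected_away hnzd hrad
  let L := Localization.Away (q (φ t))
  let π : PrimeSpectrum L → X := fun p =>
    X.fromSpecStalk w (PrimeSpectrum.comap q (PrimeSpectrum.comap (algebraMap (O ⧸ N) L) p))
  have hπ : Continuous π := (X.fromSpecStalk w).continuous.comp
    ((PrimeSpectrum.continuous_comap q).comp (PrimeSpectrum.continuous_comap (algebraMap (O ⧸ N) L)))
  refine (congrArg _root_.IsPreconnected ?_).mp (isPreconnected_range hπ)
  ext v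
  constructor
  · rintro ⟨p, rfl⟩
    refine ⟨hrange _, fun h => ?_⟩
    have h1 : q (φ t) ∈ (PrimeSpectrum.comap (algebraMap (O ⧸ N) L) p).asIdeal := (hmem _).2 h
    have h2 : PrimeSpectrum.comap (algebraMap (O ⧸ N) L) p ∈ Set.range (PrimeSpectrum.comap (algebraMap (O ⧸ N) L)) :=
      ⟨p, rfl⟩
    rw [PrimeSpectrum.localization_away_comap_range L (q (φ t))] at h2
    exact h2 h1
  · rintro ⟨hv, hne⟩
    obtain ⟨Q, rfl⟩ : v ∈ Set.range (X.fromSpecStalk w) := by rw [Scheme.range_fromSpecStalk]; exact hv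
    obtain ⟨Q', hQ'⟩ : (Q : PrimeSpectrum O) ∈ Set.range (PrimeSpectrum.comap q) := by
      rw [range_comap_of_surjective _ _ Ideal.Quotient.mk_surjective, Ideal.mk_ker]
      exact (nilradical_le_prime (Q : PrimeSpectrum O).asIdeal : N ≤ _)
    obtain ⟨p, hp⟩ : Q' ∈ Set.range (PrimeSpectrum.comap (algebraMap (O ⧸ N) L)) := by
      rw [PrimeSpectrum.localization_away_comap_range L (q (φ t))]
      exact fun h => hne ((hmem Q).1 (hQ' ▸ h))
    exact ⟨p, by show X.fromSpecStalk w _ = _; rw [hp, hQ']⟩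

end Groth.Agent.Chevalley
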