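import Groth.Agent.Chevalley.Scheme
import Groth.Agent.EquidimChart.OpenAt
import Groth.Agent.EquidimChart.Comp
import Groth.Agent.EquidimChart.Ineq

/-!
# Consequences of Chevalley's criterion
-/

set_option autoImplicit false
set_option linter.style.haveILetI false
set_option backward.isDefEq.respectTransparency.types false

universe u

open CategoryTheory CategoryTheory.Limits AlgebraicGeometry TopologicalSpace Topology
open Groth.Agent.DimTheory Groth.Agent.EquidimChart

namespace Groth.Agent.Chevalley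

variable {X Y : Scheme.{u}}

/-- Universal openness along a closed subscheme gives universal openness. -/
theorem isUnivOpenAt_of_closed {Z : Scheme.{u}} (ι : Z ⟶ X) (hι : Function.Injective ι) (f : X ⟶ Y) (w : Z)
    (h : EGA43.IsUnivOpenAt (ι ≫ f) w) : EGA43.IsUnivOpenAt f (ι w) := by
  intro Y' g x' hx' N hN
  let m : pullback (ι ≫ f) g ⟶ pullback f g :=
    pullback.map (ι ≫ f) g f g ι (𝟙 _) (𝟙 _) (Category.comp_id _) (by simp)
  have hm : IsPullback (pullback.fst (ι ≫ f) g) m ι (pullback.fst f g) :=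
    IsPullback.of_bot (by simpa [m, pullback.lift_snd] using IsPullback.of_hasPullback (ι ≫ f) g)
      (by simp [m, pullback.lift_fst]) (IsPullback.of_hasPullback f g)
  obtain ⟨w', hw', hmw⟩ : ∃ w', pullback.fst (ι ≫ f) g w' = w ∧ m w' = x' := by
    obtain ⟨v, hv1, hv2⟩ := Scheme.Pullback.exists_preimage_pullback (f := ι) (g := pullback.fst f g) w x' hx'.symm
    refine ⟨hm.isoPullback.inv v, ?_, ?_⟩
    · rw [← Scheme.Hom.comp_apply, hm.isoPullback_inv_fst]; exact hv1
    · rw [← Scheme.Hom.comp_apply, hm.isoPullback_inv_snd]; exact hv2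
  have h1 := h Y' g w' hw' (m ⁻¹' N)
    (m.continuous.continuousAt.preimage_mem_nhds (by rw [hmw]; exact hN))
  have hs : ∀ a, pullback.snd f g (m a) = pullback.snd (ι ≫ f) g a := fun a ↦ by
    rw [← Scheme.Hom.comp_apply]
    have e : m ≫ pullback.snd f g = pullback.snd (ι ≫ f) g := by simp [m, pullback.lift_snd]
    rw [e]
  change pullback.snd (ι ≫ f) g '' _ ∈ 𝓝 (pullback.snd (ι ≫ f) g w') at h1
  rw [← hs, hmw] at h1
  refine Filter.mem_of_superset h1 ?_
  rintro _ ⟨a, ha, rfl⟩
  exact ⟨m a, ha, hs a⟩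

/-- The unique maximal generization of a point with irreducible local scheme. -/
theorem eq_of_isMax (y : Y) (hdom : IsDomain (CAlg2.red (Y.presheaf.stalk y))) {η η' : Y}
    (h1 : η ⤳ y) (h2 : η' ⤳ y) (hη : ∀ w, w ⤳ η → w = η) (hη' : ∀ w, w ⤳ η' → w = η') : η = η' := by
  have hnp : (nilradical (Y.presheaf.stalk y)).IsPrime := (Ideal.Quotient.isDomain_iff_prime _).mp hdom
  let P : PrimeSpectrum (Y.presheaf.stalk y) := ⟨_, hnp⟩
  have key : ∀ a : Y, a ⤳ y → (∀ w, w ⤳ a → w = a) → Y.fromSpecStalk y P = a := by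
    intro a ha hmax
    obtain ⟨p, rfl⟩ : a ∈ Set.range (Y.fromSpecStalk y) := by
      rw [Scheme.range_fromSpecStalk]; exact ha
    exact hmax _ (((PrimeSpectrum.le_iff_specializes P p).mp (nilradical_le_prime _)).map
      (Y.fromSpecStalk y).continuous)
  rw [← key η h1 hη, key η' h2 hη']

/-- Near a point with irreducible local scheme there is one component (locally Noetherian). -/
theorem closure_mem_nhds [IsLocallyNoetherian Y] (y : Y)
    (hdom : IsDomain (CAlg2.red (Y.presheaf.stalk y))) {η : Y} (hηy : η ⤳ y)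
    (hη : ∀ w, w ⤳ η → w = η) : closure {η} ∈ 𝓝 y := by
  obtain ⟨U', hyU', -, hU'⟩ := exists_nbhd_max_specializes (x := y) (U := ⊤) trivial
  refine Filter.mem_of_superset (U'.2.mem_nhds hyU') fun z hz ↦ ?_
  have hZ := irreducibleComponent_mem_irreducibleComponents z
  let ξ := hZ.1.genericPoint
  have hξmax : ∀ w : Y, w ⤳ ξ → w = ξ := mem_component_isMax hZ
  have hξz : ξ ⤳ z := specializes_iff_mem_closure.2
    ((component_eq_closure hZ).symm ▸ mem_irreducibleComponent)
  have hξy := hU' ξ (hξz.mem_open U'.2 hz) hξmax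
  rw [eq_of_isMax y hdom hηy hξy hη hξmax]
  exact specializes_iff_mem_closure.1 hξz

/-- Near a point with irreducible local scheme there is one component (finitely many components). -/
theorem closure_mem_nhds_of_finite (hfin : (irreducibleComponents (Y : Type u)).Finite) (y : Y)
    (hdom : IsDomain (CAlg2.red (Y.presheaf.stalk y))) {η : Y} (hηy : η ⤳ y)
    (hη : ∀ w, w ⤳ η → w = η) : closure {η} ∈ 𝓝 y := by
  let B : Set Y := ⋃ Z ∈ {Z ∈ irreducibleComponents (Y : Type u) | y ∉ Z}, Z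
  have hB : IsClosed B := (hfin.subset fun Z hZ => hZ.1).isClosed_biUnion
    fun Z hZ => isClosed_of_mem_irreducibleComponents Z hZ.1
  have hyB : y ∉ B := fun h => by
    obtain ⟨Z, hZ, hyZ⟩ := Set.mem_iUnion₂.1 h
    exact hZ.2 hyZ
  refine Filter.mem_of_superset (hB.isOpen_compl.mem_nhds hyB) fun z hz ↦ ?_
  have hZ := irreducibleComponent_mem_irreducibleComponents z
  let ξ := hZ.1.genericPoint
  have hξmax : ∀ w : Y, w ⤳ ξ → w = ξ := mem_component_isMax hZ
  have hyZ : y ∈ irreducibleComponent z := by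
    by_contra hn
    exact hz (Set.mem_iUnion₂.2 ⟨_, ⟨hZ, hn⟩, mem_irreducibleComponent⟩)
  have hξy : ξ ⤳ y := specializes_iff_mem_closure.2 ((component_eq_closure hZ).symm ▸ hyZ)
  rw [eq_of_isMax y hdom hηy hξy hη hξmax, component_eq_closure hZ]
  exact mem_irreducibleComponent

/-- Universal openness from openness of every base change at every point. -/
theorem universallyOpen_of_forall (f : X ⟶ Y) (h : ∀ x, EGA43.IsUnivOpenAt f x) : UniversallyOpen f := by
  refine ⟨fun {X' Y'} i₁ i₂ f' hsq U hU ↦ ?_⟩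
  rw [isOpen_iff_mem_nhds]
  rintro _ ⟨x', hx', rfl⟩
  let e : X' ≅ pullback f i₂ := hsq.flip.isoPullback
  have he : e.hom ≫ pullback.snd f i₂ = f' := hsq.flip.isoPullback_hom_snd
  have h1 := h _ Y' i₂ (e.hom x') rfl (e.inv ⁻¹' U) (e.inv.continuous.continuousAt.preimage_mem_nhds
    (by rw [← Scheme.Hom.comp_apply, e.hom_inv_id]; exact hU.mem_nhds hx'))
  change pullback.snd f i₂ '' _ ∈ 𝓝 (pullback.snd f i₂ (e.hom x')) at h1
  rw [← Scheme.Hom.comp_apply, he] at h1
  refine Filter.mem_of_superset h1 ?_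
  rintro _ ⟨a, ha, rfl⟩
  refine ⟨e.inv a, ha, ?_⟩
  have e' : e.inv ≫ f' = pullback.snd f i₂ := by rw [← he, Iso.inv_hom_id_assoc]
  rw [← Scheme.Hom.comp_apply, e']

/-- Openness of the base change along the identity. -/
theorem isOpenAt_of_isUnivOpenAt (f : X ⟶ Y) {x : X} (h : EGA43.IsUnivOpenAt f x) :
    EGA43.IsOpenAt f.base x := by
  intro U hU
  obtain ⟨x', hx'⟩ := (pullback.fst f (𝟙 Y)).surjective x
  have h1 := h Y (𝟙 Y) x' hx' (pullback.fst f (𝟙 Y) ⁻¹' U)
    ((pullback.fst f (𝟙 Y)).continuous.continuousAt.preimage_mem_nhds (by rw [hx']; exact hU))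
  have e : ∀ a, pullback.snd f (𝟙 Y) a = f (pullback.fst f (𝟙 Y) a) := fun a ↦ by
    have e' : pullback.fst f (𝟙 Y) ≫ f = pullback.snd f (𝟙 Y) :=
      pullback.condition.trans (Category.comp_id _)
    rw [← Scheme.Hom.comp_apply, e']
  change pullback.snd f (𝟙 Y) '' _ ∈ 𝓝 (pullback.snd f (𝟙 Y) x') at h1
  rw [e, hx'] at h1
  refine Filter.mem_of_superset h1 ?_
  rintro _ ⟨a, ha, rfl⟩
  exact ⟨_, ha, (e a).symm⟩

/-- Fibres over generizations keep the dimension along points of openness. -/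
theorem le_dim_inter_of_isOpenAt [IsLocallyNoetherian Y] (f : X ⟶ Y) [LocallyOfFiniteType f] {m : X}
    (hm : FlatEquidim.IsFibreMax f m) (hopen : EGA43.IsOpenAt f.base m) {n : ℕ}
    (hn : mapTrdeg f m = n) {y' : Y} (hy' : y' ⤳ f m) (U : X.Opens) (hmU : m ∈ U) :
    (n : WithBot ℕ∞) ≤ topologicalKrullDim ↥((U : Set X) ∩ f.base ⁻¹' {y'}) := by
  obtain ⟨ξ, hξm, hfξ, -, hξ⟩ := exists_over_generization f m hm hopen hn hy'
  have hξU : ξ ∈ U := hξm.mem_open U.2 hmU
  rw [dim_fiber_restrict]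
  let g := U.ι ≫ f
  haveI : LocallyOfFiniteType (g.fiberToSpecResidueField y') :=
    MorphismProperty.pullback_snd _ _ inferInstance
  obtain ⟨v, hv⟩ : (⟨ξ, hξU⟩ : U) ∈ Set.range (g.fiberι y') := by rw [g.range_fiberι]; exact hfξ
  obtain ⟨k, hk, hk'⟩ := exists_height_eq (k := Y.residueField y') (g.fiberToSpecResidueField y') v
  rw [FlatEquidim.resTrdeg_fiber_eq, hv, mapTrdeg_restrict] at hk
  obtain rfl : n = k := Nat.cast_injective (R := Cardinal.{u}) (hξ.symm.trans hk)
  rw [topologicalKrullDim_eq_iSup_height]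
  refine le_iSup_of_le v ?_
  rw [hk']
  exact le_of_eq rfl

/-- A component through `x` with full fibre dimension over a maximal point. -/
theorem exists_component [IsLocallyNoetherian Y] (f : X ⟶ Y) [LocallyOfFiniteType f] {m x : X}
    (hmx : m ⤳ x) (hfm : f m = f x) (hm : FlatEquidim.IsFibreMax f m) {n : ℕ} (hn : mapTrdeg f m = n)
    (hxn : FlatMor.fibreDimAt f x = (n : WithBot ℕ∞))
    {Y₀ : Set Y} {η : Y} (hY₀ : Y₀ ∈ irreducibleComponents (Y : Type u)) (hη : closure {η} = Y₀)
    (H : ∀ U : X.Opens, m ∈ U →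
      (n : WithBot ℕ∞) ≤ topologicalKrullDim ↥((U : Set X) ∩ f.base ⁻¹' {η})) :
    ∃ Z ∈ irreducibleComponents (X : Type u), ∃ hx : x ∈ Z, closure (f.base '' Z) = Y₀ ∧
      ∀ η' : Y, closure ({η'} : Set Y) = Y₀ →
        FlatMor.localDim ↥(Z ∩ f.base ⁻¹' {f.base x}) ⟨x, ⟨hx, rfl⟩⟩ =
          topologicalKrullDim ↥(Z ∩ f.base ⁻¹' {η'}) := by
  haveI : IsLocallyNoetherian X := LocallyOfFiniteType.isLocallyNoetherian f
  have hηmax : ∀ w, w ⤳ η → w = η := fun w hw ↦ isMax_of_closure_mem_components (hη ▸ hY₀) hw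
  have hmn := fibreDimAt_of_fibreMax f hm hn
  let U0 : X.Opens := ⟨_, FibreDimChart.isOpen_fibreDimAt_le f n⟩
  obtain ⟨U1, hmU1, hU10, hU1max⟩ := exists_nbhd_max_specializes (x := m) (U := U0) hmn.le
  have h1 := H U1 hmU1
  rw [dim_fiber_restrict] at h1
  let g1 := U1.ι ≫ f
  haveI : LocallyOfFiniteType (g1.fiberToSpecResidueField η) :=
    MorphismProperty.pullback_snd _ _ inferInstance
  obtain ⟨v, hv⟩ : ∃ v : g1.fiber η, (n : ℕ∞) ≤ Order.height v := by
    rw [topologicalKrullDim_eq_iSup_height] at h1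
    by_contra! hno
    rcases isEmpty_or_nonempty ↥(g1.fiber η) with he | he
    · rw [iSup_of_empty] at h1
      exact absurd h1 (by simp)
    · rcases n with _ | k
      · exact (not_lt_zero (hno (Classical.arbitrary _))).elim
      · have : ∀ v : g1.fiber η, (Order.height v : WithBot ℕ∞) ≤ (k : ℕ) := fun v ↦ by
          have h2 := hno v
          rw [Nat.cast_add, Nat.cast_one, ENat.lt_coe_add_one_iff] at h2
          exact_mod_cast h2
        have h3 : ((k + 1 : ℕ) : WithBot ℕ∞) ≤ (k : ℕ) := h1.trans (iSup_le this)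
        have h4 : k + 1 ≤ k := by exact_mod_cast h3
        omega
  obtain ⟨v', hv', hvmax⟩ := FlatMorLib.exists_maximal_generization v
  obtain ⟨k, hk, hk'⟩ := exists_height_eq (k := Y.residueField η) (g1.fiberToSpecResidueField η) v'
  rw [FlatEquidim.resTrdeg_fiber_eq, mapTrdeg_restrict] at hk
  have hnk : n ≤ k := by
    have := hv.trans (Order.height_mono (show v ≤ v' from hv'))
    rw [hk'] at this
    exact_mod_cast this
  let z : X := U1.ι (g1.fiberι η v')
  have hfz : f z = η := FlatEquidim.fiberι_apply_eq g1 η v'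
  have hzmax : ∀ w : X, w ⤳ z → w = z := by
    intro w hw
    have hwU : w ∈ U1 := hw.mem_open U1.2 (g1.fiberι η v').2
    have h3 : (⟨w, hwU⟩ : (U1 : Scheme.{u})) ⤳ g1.fiberι η v' :=
      U1.ι.isEmbedding.isInducing.specializes_iff.1 hw
    have h4 : g1 (⟨w, hwU⟩ : (U1 : Scheme.{u})) = η := by
      refine hηmax _ ?_
      show f w ⤳ η
      exact hfz ▸ hw.map f.continuous
    have := FlatDim.eq_fiberι_of_isMax g1 hvmax h3 h4
    exact congrArg U1.ι this
  have hzm : z ⤳ m := hU1max z (g1.fiberι η v').2 hzmax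
  have hkn : k ≤ n := by
    exact_mod_cast (le_fibreDimAt f hk).trans (hU10 (g1.fiberι η v').2)
  obtain rfl : n = k := le_antisymm hnk hkn
  let W : Closeds X := ⟨closure {z}, isClosed_closure⟩
  let I := Scheme.IdealSheafData.vanishingIdeal W
  let ι := I.subschemeι
  have hr : Set.range ι = closure {z} := by
    rw [I.range_subschemeι, Scheme.IdealSheafData.coe_support_vanishingIdeal]; rfl
  have hxW : x ∈ closure {z} := specializes_iff_mem_closure.1 (hzm.trans hmx)
  refine ⟨closure {z}, FlatDim.closure_mem_irreducibleComponents hzmax, hxW, ?_, fun η' hη' ↦ ?_⟩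
  · rw [closure_image_closure f.continuous, Set.image_singleton]
    exact (congrArg (fun a ↦ closure {a}) hfz).trans hη
  · obtain rfl : η' = η :=
      hηmax _ (specializes_iff_mem_closure.2 (by rw [hη', ← hη]; exact subset_closure rfl))
    obtain ⟨w, hw⟩ : x ∈ Set.range ι := by rw [hr]; exact hxW
    obtain ⟨m', hm'⟩ : m ∈ Set.range ι := by rw [hr]; exact specializes_iff_mem_closure.1 hzm
    haveI : IrreducibleSpace I.subscheme := by
      have hirr : IrreducibleSpace (Set.range ι) :=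
        Subtype.irreducibleSpace (hr ▸ isIrreducible_singleton.closure)
      exact (Homeomorph.irreducibleSpace_iff ι.isEmbedding.toHomeomorph).2 hirr
    have hgz : ι (genericPoint I.subscheme) = z := by
      obtain ⟨a, ha⟩ : z ∈ Set.range ι := by rw [hr]; exact subset_closure rfl
      have e1 : ι (genericPoint I.subscheme) ⤳ z := ha ▸ (genericPoint_specializes a).map ι.continuous
      have e2 : z ⤳ ι (genericPoint I.subscheme) := specializes_iff_mem_closure.2 (hr ▸ ⟨_, rfl⟩)
      exact (e1.antisymm e2).eq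
    have hL : FlatMor.fibreDimAt (ι ≫ f) w = (n : WithBot ℕ∞) := by
      obtain ⟨u, k, huw, -, hu, hd⟩ := exists_fibreMax (ι ≫ f) w
      rw [FlatEquidim.mapTrdeg_comp, mapTrdeg_eq_zero ι, add_zero] at hu
      refine le_antisymm ?_ ?_
      · rw [hd]
        refine (le_fibreDimAt f hu).trans ((huw.map ι.continuous).mem_open
          (FibreDimChart.isOpen_fibreDimAt_le f n) ?_)
        show FlatMor.fibreDimAt f (ι w) ≤ _
        rw [hw, hxn]
      · rw [hd]
        have hm'n : mapTrdeg (ι ≫ f) m' = n := by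
          rw [FlatEquidim.mapTrdeg_comp, mapTrdeg_eq_zero ι, add_zero, hm', hn]
        have hm'w : m' ⤳ w := ι.isEmbedding.isInducing.specializes_iff.1 (hm'.symm ▸ hw.symm ▸ hmx)
        exact (le_fibreDimAt (ι ≫ f) hm'n).trans
          (hm'w.mem_open (FibreDimChart.isOpen_fibreDimAt_le (ι ≫ f) k)
            (show FlatMor.fibreDimAt (ι ≫ f) w ≤ _ from hd.le))
    refine (localDim_inter f W w hw rfl ⟨hxW, rfl⟩).trans (hL.trans ?_)
    refine ((fibreHomeo f W η').isHomeomorph.topologicalKrullDim_eq _).symm.trans ?_ |>.symm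
    rw [fiber_dim_eq, dim_fiber_generic (e := n) (ι ≫ f) (by rw [Scheme.Hom.comp_apply, hgz, hfz])
      (by rw [FlatEquidim.mapTrdeg_comp, mapTrdeg_eq_zero ι, add_zero, hgz, hk])]

/-- Chevalley's criterion from a component with full fibre dimension. -/
theorem isUnivOpenAt_of_component [IsLocallyNoetherian Y] (f : X ⟶ Y) [LocallyOfFiniteType f] (x : X)
    (hy : CAlg2.IsGeomUnibranch (Y.presheaf.stalk (f x)))
    {Z : Set X} (hZ : Z ∈ irreducibleComponents (X : Type u)) (hx : x ∈ Z)
    {Y₀ : Set Y} (hY₀ : Y₀ ∈ irreducibleComponents (Y : Type u)) (hcl : closure (f.base '' Z) = Y₀)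
    {η : Y} (hη : closure {η} = Y₀)
    (hdim : FlatMor.localDim ↥(Z ∩ f.base ⁻¹' {f.base x}) ⟨x, ⟨hx, rfl⟩⟩ =
      topologicalKrullDim ↥(Z ∩ f.base ⁻¹' {η})) :
    EGA43.IsUnivOpenAt f x := by
  let W : Closeds X := ⟨Z, isClosed_of_mem_irreducibleComponents Z hZ⟩
  let I := Scheme.IdealSheafData.vanishingIdeal W
  let ι := I.subschemeι
  have hr : Set.range ι = Z := by
    rw [I.range_subschemeι, Scheme.IdealSheafData.coe_support_vanishingIdeal]; rfl
  obtain ⟨w, hw⟩ : x ∈ Set.range ι := by rw [hr]; exact hx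
  haveI : IrreducibleSpace I.subscheme := by
    have hirr : IrreducibleSpace (Set.range ι) := Subtype.irreducibleSpace (hr ▸ hZ.1)
    exact (Homeomorph.irreducibleSpace_iff ι.isEmbedding.toHomeomorph).2 hirr
  let g := ι ≫ f
  have hgη : g (genericPoint I.subscheme) = η := by
    refine ((specializes_iff_mem_closure.2 ?_).antisymm (specializes_iff_mem_closure.2 ?_)).eq
    · have h1 : Set.range g ⊆ closure {g (genericPoint I.subscheme)} := by
        rintro _ ⟨a, rfl⟩
        exact specializes_iff_mem_closure.1 ((genericPoint_specializes a).map g.continuous)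
      have h2 : f.base '' Z ⊆ closure {g (genericPoint I.subscheme)} := by
        rintro _ ⟨a, ha, rfl⟩
        rw [← hr] at ha
        obtain ⟨a, rfl⟩ := ha
        exact h1 ⟨a, rfl⟩
      exact closure_minimal h2 isClosed_closure (by rw [hcl, ← hη]; exact subset_closure rfl)
    · rw [hη, ← hcl]
      exact subset_closure ⟨ι (genericPoint I.subscheme), hr.le ⟨_, rfl⟩, rfl⟩
  have hηmax : ∀ v, v ⤳ η → v = η := fun v hv ↦ isMax_of_closure_mem_components (hη ▸ hY₀) hv
  obtain ⟨e, he, -⟩ := height_asFiber g (genericPoint I.subscheme)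
  have hd : topologicalKrullDim ↥(Z ∩ f.base ⁻¹' {η}) = (e : WithBot ℕ∞) := by
    refine ((fibreHomeo f W η).isHomeomorph.topologicalKrullDim_eq _).symm.trans ?_
    rw [fiber_dim_eq, dim_fiber_generic g hgη he]
  replace hdim := (localDim_inter f W w hw rfl ⟨hx, rfl⟩).symm.trans (hdim.trans hd)
  have hgw : g w = f x := by rw [Scheme.Hom.comp_apply, hw]
  have h2 : EGA43.IsUnivOpenAt g w := by
    have hηy : η ⤳ g w := hgη ▸ (genericPoint_specializes w).map g.continuous
    refine isUnivOpenAt_of_generic g w _ (genericPoint_specializes w) ?_ ?_ e he hdim.le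
      (hgw.symm ▸ hy)
    · rw [hgη]; exact hηmax
    · rw [hgη]; exact closure_mem_nhds _ (hgw.symm ▸ hy).1.1 hηy hηmax
  exact hw ▸ isUnivOpenAt_of_closed ι ι.isEmbedding.injective f w h2

end Groth.Agent.Chevalley
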