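import Groth.Agent.Chevalley.Criterion

/-!
# Equivalent forms of universal openness at geometrically unibranch points
-/

set_option autoImplicit false
set_option linter.style.haveILetI false
set_option backward.isDefEq.respectTransparency.types false

universe u

open CategoryTheory CategoryTheory.Limits AlgebraicGeometry TopologicalSpace Topology
open Groth.Agent.DimTheory Groth.Agent.EquidimChart

namespace Groth.Agent.Chevalley

variable {X Y : Scheme.{u}}

/-- A point of maximal dimension of the fibre specialising to `x` in the fibre. -/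
theorem exists_fibreMax_eq (f : X ⟶ Y) [LocallyOfFiniteType f] (x : X) :
    ∃ (z : X) (n : ℕ), z ⤳ x ∧ f z = f x ∧ FlatEquidim.IsFibreMax f z ∧ mapTrdeg f z = n ∧
      FlatMor.fibreDimAt f x = (n : WithBot ℕ∞) := by
  have : LocallyOfFiniteType (f.fiberToSpecResidueField (f x)) := MorphismProperty.pullback_snd _ _ ‹_›
  obtain ⟨m, hle, hm, heq⟩ := exists_height_eq_add_coheight (k := Y.residueField (f x))
    (f.fiberToSpecResidueField (f x)) (f.asFiber x)
  obtain ⟨n, hn, hn'⟩ := exists_height_eq (k := Y.residueField (f x)) (f.fiberToSpecResidueField (f x)) m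
  rw [FlatEquidim.resTrdeg_fiber_eq] at hn
  refine ⟨f.fiberι (f x) m, n, ?_, FlatEquidim.fiberι_apply_eq f _ m, ?_, hn, ?_⟩
  · have := (show m ⤳ f.asFiber x from hle).map (f.fiberι (f x)).continuous
    rwa [f.fiberι_asFiber] at this
  · intro z hz hfz
    refine FlatDim.eq_fiberι_of_isMax f (fun w hw => ?_) hz (hfz.trans (FlatEquidim.fiberι_apply_eq f _ m))
    exact (hw.antisymm (hm w hw)).eq
  · show FlatMor.localDim (f.fiber (f x)) (f.asFiber x) = _
    rw [FieldExtLD.localDim_eq (k := Y.residueField (f x)) (f.fiberToSpecResidueField (f x)), ← heq, hn']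
    rfl

/-- Generic point of a component. -/
theorem exists_generic {Y₀ : Set Y} (hY₀ : Y₀ ∈ irreducibleComponents (Y : Type u)) :
    ∃ η : Y, closure {η} = Y₀ :=
  ⟨_, (hY₀.1.isGenericPoint_genericPoint (isClosed_of_mem_irreducibleComponents _ hY₀))⟩

/-- A maximal point of a fibre dominating the dimension of an open piece. -/
theorem dim_inter_le (f : X ⟶ Y) [LocallyOfFiniteType f] (y : Y) (U : X.Opens) {B : WithBot ℕ∞}
    (H : ∀ m ∈ U, f m = y → FlatEquidim.IsFibreMax f m → ∀ n : ℕ, mapTrdeg f m = n → (n : WithBot ℕ∞) ≤ B) :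
    topologicalKrullDim ↥((U : Set X) ∩ f.base ⁻¹' {y}) ≤ B := by
  rw [dim_fiber_restrict]
  let g := U.ι ≫ f
  haveI : LocallyOfFiniteType (g.fiberToSpecResidueField y) :=
    MorphismProperty.pullback_snd _ _ inferInstance
  rw [topologicalKrullDim_eq_iSup_height]
  refine iSup_le fun v ↦ ?_
  obtain ⟨v', hv', hvmax⟩ := FlatMorLib.exists_maximal_generization v
  obtain ⟨k, hk, hk'⟩ := exists_height_eq (k := Y.residueField y) (g.fiberToSpecResidueField y) v'
  rw [FlatEquidim.resTrdeg_fiber_eq, mapTrdeg_restrict] at hk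
  have hfm : f (U.ι (g.fiberι y v')) = y := FlatEquidim.fiberι_apply_eq g y v'
  have hm : FlatEquidim.IsFibreMax f (U.ι (g.fiberι y v')) := fun w hw hfw ↦ by
    have hwU : w ∈ U := hw.mem_open U.2 (g.fiberι y v').2
    have h3 : (⟨w, hwU⟩ : (U : Scheme.{u})) ⤳ g.fiberι y v' :=
      U.ι.isEmbedding.isInducing.specializes_iff.1 hw
    have h4 : g (⟨w, hwU⟩ : (U : Scheme.{u})) = y := hfw.trans hfm
    exact congrArg U.ι (FlatDim.eq_fiberι_of_isMax g hvmax h3 h4)
  refine le_trans ?_ (H _ (g.fiberι y v').2 hfm hm k hk)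
  refine (WithBot.coe_le_coe.2 (Order.height_mono (show v ≤ v' from hv'))).trans ?_
  rw [hk']
  exact le_of_eq rfl

/-- The fibre dimension of an open piece around a fibre-maximal point. -/
theorem le_dim_inter_self (f : X ⟶ Y) [LocallyOfFiniteType f] {m : X}
    (hm : FlatEquidim.IsFibreMax f m) {n : ℕ} (hn : mapTrdeg f m = n) (U : X.Opens) (hmU : m ∈ U) :
    (n : WithBot ℕ∞) ≤ topologicalKrullDim ↥((U : Set X) ∩ f.base ⁻¹' {f m}) := by
  rw [dim_fiber_restrict]
  let g := U.ι ≫ f
  haveI : LocallyOfFiniteType (g.fiberToSpecResidueField (f m)) :=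
    MorphismProperty.pullback_snd _ _ inferInstance
  obtain ⟨v, hv⟩ : (⟨m, hmU⟩ : U) ∈ Set.range (g.fiberι (f m)) := by rw [g.range_fiberι]; rfl
  obtain ⟨k, hk, hk'⟩ := exists_height_eq (k := Y.residueField (f m)) (g.fiberToSpecResidueField (f m)) v
  rw [FlatEquidim.resTrdeg_fiber_eq, hv, mapTrdeg_restrict] at hk
  obtain rfl : n = k := Nat.cast_injective (R := Cardinal.{u}) (hn.symm.trans hk)
  rw [topologicalKrullDim_eq_iSup_height]
  refine le_iSup_of_le v ?_
  rw [hk']
  exact le_of_eq rfl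

/-- Universal openness from the component condition. -/
theorem isUnivOpenAt_of_components [IsLocallyNoetherian Y] (f : X ⟶ Y) [LocallyOfFiniteType f] (x : X)
    (hy : CAlg2.IsGeomUnibranch (Y.presheaf.stalk (f x)))
    (h : ∀ Y₀ ∈ irreducibleComponents (Y : Type u), f.base x ∈ Y₀ →
      ∃ Z ∈ irreducibleComponents (X : Type u), ∃ hx : x ∈ Z, closure (f.base '' Z) = Y₀ ∧
      ∀ η : Y, closure ({η} : Set Y) = Y₀ →
        FlatMor.localDim ↥(Z ∩ f.base ⁻¹' {f.base x}) ⟨x, ⟨hx, rfl⟩⟩ =
          topologicalKrullDim ↥(Z ∩ f.base ⁻¹' {η})) :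
    EGA43.IsUnivOpenAt f x := by
  obtain ⟨Z, hZ, hx, hcl, hdim⟩ := h _ (irreducibleComponent_mem_irreducibleComponents (f x))
    mem_irreducibleComponent
  obtain ⟨η, hη⟩ := exists_generic (irreducibleComponent_mem_irreducibleComponents (f x))
  exact isUnivOpenAt_of_component f x hy hZ hx (irreducibleComponent_mem_irreducibleComponents (f x))
    hcl hη (hdim η hη)

end Groth.Agent.Chevalley
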