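import Groth.Agent.Chevalley.Equiv
import Groth.Agent.UnivOpenAt.Basic
import Groth.Agent.EquidimChart.UnivOpen
import Groth.Agent.FibreDimChart.BaseChange
import Groth.Agent.S9812
import Groth.Agent.S0385

/-!
# Universal openness is detected by finite base change
-/

set_option autoImplicit false
set_option linter.style.haveILetI false
set_option backward.isDefEq.respectTransparency.types false

universe u

open CategoryTheory CategoryTheory.Limits AlgebraicGeometry TopologicalSpace Topology TensorProduct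
open Groth.Agent.DimTheory Groth.Agent.EquidimChart

noncomputable section

namespace Groth.Agent.Chevalley

/-- Universal openness at the maximal points of the fibre generizing `x` gives it at `x`. -/
theorem isUnivOpenAt_of_fibreMax {X Y : Scheme.{u}} (f : X ⟶ Y) [LocallyOfFiniteType f] (x : X)
    (h : ∀ m, m ⤳ x → f m = f x → FlatEquidim.IsFibreMax f m → EGA43.IsUnivOpenAt f m) :
    EGA43.IsUnivOpenAt f x := by
  intro Y' g x' hx' U hU
  obtain ⟨m, n, hmx, hfm, hm, -, -⟩ := exists_fibreMax_eq (pullback.snd f g) x'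
  obtain ⟨-, -, -, hmax⟩ := mapTrdeg_baseChange_of_fibreMax f (IsPullback.of_hasPullback f g) hm
  have hsp : pullback.fst f g m ⤳ x := hx' ▸ hmx.map (pullback.fst f g).continuous
  have hc : ∀ a, f (pullback.fst f g a) = g (pullback.snd f g a) := fun a =>
    congr($((pullback.condition (f := f) (g := g))) a)
  have hf : f (pullback.fst f g m) = f x := by
    rw [hc, hfm, ← hc]; exact congrArg f hx'
  have hmU : U ∈ 𝓝 m := by
    obtain ⟨O, hOU, hO, hxO⟩ := mem_nhds_iff.1 hU
    exact mem_nhds_iff.2 ⟨O, hOU, hO, hmx.mem_open hO hxO⟩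
  have h1 := h _ hsp hf hmax Y' g m rfl U hmU
  exact (show pullback.snd f g m = pullback.snd f g x' from hfm) ▸ h1

/-- Openness at a point can be pushed to an open piece. -/
theorem isOpenAt_openImm_comp {W X Y : Scheme.{u}} (c : W ⟶ X) [IsOpenImmersion c] (f : X ⟶ Y) (w : W)
    (h : EGA43.IsOpenAt f.base (c w)) : EGA43.IsOpenAt (c ≫ f).base w := by
  intro U hU
  show (c ≫ f) '' U ∈ 𝓝 ((c ≫ f) w)
  have h2 : (c ≫ f) '' U = f '' (c '' U) := by rw [Set.image_image]; rfl
  rw [h2]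
  exact h _ (c.isOpenEmbedding.isOpenMap.image_mem_nhds hU)

/-- Openness at a point descends to an open subscheme of the target. -/
theorem isOpenAt_of_comp_openImm {W X Y : Scheme.{u}} (p : W ⟶ X) (j : X ⟶ Y) [IsOpenImmersion j] (w : W)
    (h : EGA43.IsOpenAt (p ≫ j).base w) : EGA43.IsOpenAt p.base w := by
  intro U hU
  have h1 : (p ≫ j) '' U ∈ 𝓝 ((p ≫ j) w) := h U hU
  have h2 : j ⁻¹' ((p ≫ j) '' U) ∈ 𝓝 (p w) := j.continuous.continuousAt.preimage_mem_nhds h1
  refine Filter.mem_of_superset h2 ?_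
  rintro a ⟨b, hb, hba⟩
  exact ⟨b, hb, j.isOpenEmbedding.injective hba⟩

/-- Openness after finite base changes gives openness after quasi-finite separated ones. -/
theorem isOpenAt_of_finite_hyp {X Y : Scheme.{u}} [IsNoetherian Y] (f : X ⟶ Y) (x : X)
    (H : ∀ (Y' : Scheme.{u}) (g : Y' ⟶ Y) [IsFinite g], ∀ x' : ↥(pullback f g), (pullback.fst f g).base x' = x →
      EGA43.IsOpenAt (pullback.snd f g).base x')
    {X₁ Y₁ : Scheme.{u}} {a : X₁ ⟶ X} {f₁ : X₁ ⟶ Y₁} {g : Y₁ ⟶ Y} (hc : IsPullback a f₁ f g)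
    [LocallyQuasiFinite g] [LocallyOfFiniteType g] [QuasiCompact g] [IsSeparated g]
    (x₁ : X₁) (hx₁ : a x₁ = x) : EGA43.IsOpenAt f₁.base x₁ := by
  obtain ⟨T, j, π, hj, -, hπ, hjπ⟩ := S0385.result g
  let l : X₁ ⟶ pullback f π := pullback.lift a (f₁ ≫ j) (by rw [Category.assoc, hjπ]; exact hc.w)
  have hl : IsPullback l f₁ (pullback.snd f π) j := by
    refine IsPullback.of_right ?_ (pullback.lift_snd _ _ _) (IsPullback.of_hasPullback f π)
    rw [pullback.lift_fst, hjπ]
    exact hc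
  haveI : IsOpenImmersion l := MorphismProperty.of_isPullback (P := @IsOpenImmersion) hl.flip hj
  have h1 := H T π (l x₁) (by
    show pullback.fst f π (l x₁) = x
    rw [← Scheme.Hom.comp_apply, pullback.lift_fst]; exact hx₁)
  have h2 := isOpenAt_openImm_comp l (pullback.snd f π) x₁ h1
  rw [hl.w] at h2
  exact isOpenAt_of_comp_openImm f₁ j x₁ h2

/-- Two primes over the generic point of a birational integral extension with equal traces agree. -/
theorem prime_eq_of_birational {R A S : Type u} [CommRing R] [CommRing A] [CommRing S] [Algebra R A] [Algebra R S]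
    (hbir : ∀ a : A, ∃ r s : R, algebraMap R A r ≠ 0 ∧ algebraMap R A r * a = algebraMap R A s)
    [IsDomain A] {Q Q' : PrimeSpectrum (A ⊗[R] S)}
    (h0 : Q.asIdeal.comap (algebraMap A (A ⊗[R] S)) = ⊥) (h0' : Q'.asIdeal.comap (algebraMap A (A ⊗[R] S)) = ⊥)
    (h : Q.asIdeal.comap (Algebra.TensorProduct.includeRight : S →ₐ[R] A ⊗[R] S).toRingHom =
      Q'.asIdeal.comap (Algebra.TensorProduct.includeRight : S →ₐ[R] A ⊗[R] S).toRingHom) : Q = Q' := by
  have key : ∀ z : A ⊗[R] S, ∃ (r : R) (s : S), algebraMap R A r ≠ 0 ∧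
      algebraMap A (A ⊗[R] S) (algebraMap R A r) * z = (1 : A) ⊗ₜ s := by
    intro z
    induction z using TensorProduct.induction_on with
    | zero => exact ⟨1, 0, by simp, by simp⟩
    | tmul a s =>
      obtain ⟨r, t, hr, hrt⟩ := hbir a
      refine ⟨r, t • s, hr, ?_⟩
      rw [Algebra.TensorProduct.algebraMap_apply, Algebra.TensorProduct.tmul_mul_tmul, one_mul,
        Algebra.algebraMap_self, RingHom.id_apply, hrt, Algebra.algebraMap_eq_smul_one, TensorProduct.smul_tmul]
    | add z w hz hw =>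
      obtain ⟨r, s, hr, hrs⟩ := hz
      obtain ⟨r', s', hr', hrs'⟩ := hw
      refine ⟨r * r', r' • s + r • s', by rw [map_mul]; exact mul_ne_zero hr hr', ?_⟩
      rw [TensorProduct.tmul_add, TensorProduct.tmul_smul, TensorProduct.tmul_smul, ← hrs, ← hrs',
        Algebra.smul_def, Algebra.smul_def, IsScalarTower.algebraMap_apply R A (A ⊗[R] S),
        IsScalarTower.algebraMap_apply R A (A ⊗[R] S), map_mul, map_mul]
      ring
  have main : ∀ P P' : PrimeSpectrum (A ⊗[R] S), P'.asIdeal.comap (algebraMap A (A ⊗[R] S)) = ⊥ →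
      P.asIdeal.comap (Algebra.TensorProduct.includeRight : S →ₐ[R] A ⊗[R] S).toRingHom =
        P'.asIdeal.comap (Algebra.TensorProduct.includeRight : S →ₐ[R] A ⊗[R] S).toRingHom →
      P.asIdeal ≤ P'.asIdeal := by
    intro P P' h0 h z hz
    obtain ⟨r, s, hr, hrs⟩ := key z
    have h1 : s ∈ P.asIdeal.comap (Algebra.TensorProduct.includeRight : S →ₐ[R] A ⊗[R] S).toRingHom := by
      show (1 : A) ⊗ₜ[R] s ∈ P.asIdeal
      rw [← hrs]
      exact P.asIdeal.mul_mem_left _ hz
    rw [h] at h1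
    have h2 : (1 : A) ⊗ₜ[R] s ∈ P'.asIdeal := h1
    rw [← hrs] at h2
    refine (P'.isPrime.mem_or_mem h2).resolve_left fun h3 => hr ?_
    have h4 : algebraMap R A r ∈ P'.asIdeal.comap (algebraMap A (A ⊗[R] S)) := h3
    rwa [h0] at h4
  exact PrimeSpectrum.ext (le_antisymm (main Q Q' h0' h) (main Q' Q h0 h.symm))

section

variable (R A S : Type u) [CommRing R] [CommRing A] [CommRing S] [Algebra R A] [Algebra R S]

/-- The affine base change square. -/
theorem isPullback_specTensor :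
    IsPullback (Spec.map (CommRingCat.ofHom (Algebra.TensorProduct.includeRight : S →ₐ[R] A ⊗[R] S).toRingHom))
      (Spec.map (CommRingCat.ofHom (algebraMap A (A ⊗[R] S))))
      (Spec.map (CommRingCat.ofHom (algebraMap R S))) (Spec.map (CommRingCat.ofHom (algebraMap R A))) :=
  (isPullback_SpecMap_of_isPushout _ _ _ _ (CommRingCat.isPushout_tensorProduct R A S)).flip

end

/-- Finitely many elements suffice to describe an element of a tensor product. -/
theorem exists_finset_mem_range {R A S : Type u} [CommRing R] [CommRing A] [CommRing S] [Algebra R A] [Algebra R S]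
    (z : A ⊗[R] S) : ∃ T : Finset A, ∀ A' : Subalgebra R A, (T : Set A) ⊆ A' →
      z ∈ Set.range (Algebra.TensorProduct.map A'.val (AlgHom.id R S)) := by
  classical
  induction z using TensorProduct.induction_on with
  | zero => exact ⟨∅, fun A' _ => ⟨0, map_zero _⟩⟩
  | tmul a s => exact ⟨{a}, fun A' h => ⟨(⟨a, h (by simp)⟩ : A') ⊗ₜ s, by simp⟩⟩
  | add z w hz hw =>
    obtain ⟨T, hT⟩ := hz
    obtain ⟨T', hT'⟩ := hw
    refine ⟨T ∪ T', fun A' h => ?_⟩
    obtain ⟨a, ha⟩ := hT A' (fun t ht => h (by simp [ht]))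
    obtain ⟨b, hb⟩ := hT' A' (fun t ht => h (by simp [ht]))
    exact ⟨a + b, by rw [map_add, ha, hb]⟩

/-- The lifting of generizations on the normalization of an irreducible component. -/
theorem exists_generic_normalization (R S : Type u) [CommRing R] [CommRing S] [Algebra R S]
    [IsNoetherianRing R] [Algebra.FiniteType R S] (A : Type u) [CommRing A] [IsDomain A] [Algebra R A]
    [Algebra.IsIntegral R A]
    (hbir : ∀ a : A, ∃ r s : R, algebraMap R A r ≠ 0 ∧ algebraMap R A r * a = algebraMap R A s)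
    (hp : RingHom.ker (algebraMap R A) ∈ minimalPrimes R)
    (x : Spec (CommRingCat.of S)) (n : ℕ)
    (hx : FlatEquidim.IsFibreMax (Spec.map (CommRingCat.ofHom (algebraMap R S))) x)
    (hn : mapTrdeg (Spec.map (CommRingCat.ofHom (algebraMap R S))) x = n)
    (H : ∀ (R₁ : Type u) [CommRing R₁] [Algebra R R₁] [Module.Finite R R₁]
      (x₁ : Spec (CommRingCat.of (R₁ ⊗[R] S))),
      Spec.map (CommRingCat.ofHom (Algebra.TensorProduct.includeRight : S →ₐ[R] R₁ ⊗[R] S).toRingHom) x₁ = x →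
        EGA43.IsOpenAt (Spec.map (CommRingCat.ofHom (algebraMap R₁ (R₁ ⊗[R] S)))).base x₁)
    (x' : Spec (CommRingCat.of (A ⊗[R] S)))
    (hx' : Spec.map (CommRingCat.ofHom (Algebra.TensorProduct.includeRight : S →ₐ[R] A ⊗[R] S).toRingHom) x' = x) :
    ∃ ξ : Spec (CommRingCat.of (A ⊗[R] S)), ξ ⤳ x' ∧
      (Spec.map (CommRingCat.ofHom (algebraMap A (A ⊗[R] S))) ξ).asIdeal = ⊥ ∧
      mapTrdeg (Spec.map (CommRingCat.ofHom (algebraMap A (A ⊗[R] S)))) ξ = n := by
  classical
  haveI : IsNoetherianRing S := Algebra.FiniteType.isNoetherianRing R S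
  let φ := Spec.map (CommRingCat.ofHom (algebraMap R S))
  haveI : LocallyOfFiniteType φ :=
    (HasRingHomProperty.Spec_iff (P := @LocallyOfFiniteType)).2 (RingHom.finiteType_algebraMap.2 inferInstance)
  set p := RingHom.ker (algebraMap R A) with hpdef
  haveI hpp : p.IsPrime := hp.1.1
  let Cand : Set (PrimeSpectrum S) :=
    {P | P.asIdeal ∈ minimalPrimes S ∧ (φ P).asIdeal = p ∧ mapTrdeg φ P = n}
  have hfin : Cand.Finite :=
    Set.Finite.of_finite_image ((minimalPrimes.finite_of_isNoetherianRing S).subset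
      (by rintro _ ⟨P, hP, rfl⟩; exact hP.1)) (fun a _ b _ h => PrimeSpectrum.ext h)
  -- the unique lift of a candidate
  have hlift : ∀ P ∈ Cand, ∃ Q : PrimeSpectrum (A ⊗[R] S),
      Q.asIdeal.comap (algebraMap A (A ⊗[R] S)) = ⊥ ∧
      Q.asIdeal.comap (Algebra.TensorProduct.includeRight : S →ₐ[R] A ⊗[R] S).toRingHom = P.asIdeal := by
    intro P hP
    let k := P.asIdeal.ResidueField
    let θS : S →ₐ[R] k := IsScalarTower.toAlgHom R S k
    have hPp : ∀ r : R, algebraMap R k r = 0 ↔ algebraMap R A r = 0 := fun r => by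
      rw [IsScalarTower.algebraMap_apply R S k, Ideal.algebraMap_residueField_eq_zero, ← RingHom.mem_ker,
        ← hpdef, ← hP.2.1]
      rfl
    choose r s hr hrs using hbir
    let θ0 : A → k := fun a => algebraMap R k (s a) / algebraMap R k (r a)
    have hθ : ∀ a (t u : R), algebraMap R A t ≠ 0 → algebraMap R A t * a = algebraMap R A u →
        θ0 a = algebraMap R k u / algebraMap R k t := by
      intro a t u ht htu
      rw [div_eq_div_iff ((hPp _).not.2 (hr a)) ((hPp _).not.2 ht), ← map_mul, ← map_mul, ← sub_eq_zero, ← map_sub,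
        hPp, map_sub, map_mul, map_mul, ← hrs a, ← htu]
      ring
    let θA : A →ₐ[R] k :=
      { toFun := θ0
        map_one' := by
          rw [hθ 1 1 1 (by simp) (by simp), map_one, div_one]
        map_mul' := fun a b => by
          rw [hθ (a * b) (r a * r b) (s a * s b) (by rw [map_mul]; exact mul_ne_zero (hr a) (hr b))
            (by rw [map_mul, map_mul, ← hrs a, ← hrs b]; ring), map_mul, map_mul]
          exact (div_mul_div_comm _ _ _ _).symm
        map_zero' := by rw [hθ 0 1 0 (by simp) (by simp), map_zero, zero_div]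
        map_add' := fun a b => by
          rw [hθ (a + b) (r a * r b) (s a * r b + r a * s b) (by rw [map_mul]; exact mul_ne_zero (hr a) (hr b))
            (by rw [map_mul, map_add, map_mul, map_mul, ← hrs a, ← hrs b]; ring), map_add, map_mul, map_mul, map_mul]
          exact (div_add_div _ _ ((hPp _).not.2 (hr a)) ((hPp _).not.2 (hr b))).symm
        commutes' := fun c => by
          show θ0 (algebraMap R A c) = _
          rw [hθ (algebraMap R A c) 1 c (by simp) (by simp), map_one, div_one] }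
    let θ : A ⊗[R] S →ₐ[R] k := Algebra.TensorProduct.lift θA θS fun _ _ => .all _ _
    refine ⟨⟨RingHom.ker θ.toRingHom, RingHom.ker_isPrime _⟩, ?_, ?_⟩
    · refine le_bot_iff.1 fun a ha => ?_
      have h1 : θA a = 0 := by
        have h2 : θ (a ⊗ₜ (1 : S)) = 0 := ha
        rwa [Algebra.TensorProduct.lift_tmul, map_one, mul_one] at h2
      have h3 : algebraMap R k (s a) / algebraMap R k (r a) = 0 := h1
      rw [div_eq_zero_iff, hPp, hPp, ← hrs a] at h3
      exact Ideal.mem_bot.2 ((mul_eq_zero.1 (h3.resolve_right (hr a))).resolve_left (hr a))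
    · ext t
      show θ ((1 : A) ⊗ₜ t) = 0 ↔ _
      rw [Algebra.TensorProduct.lift_tmul, map_one, one_mul]
      exact Ideal.algebraMap_residueField_eq_zero
  choose Q hQ0 hQS using hlift
  obtain ⟨P, hP, hPx⟩ : ∃ (P : PrimeSpectrum S) (hP : P ∈ Cand), (Q P hP).asIdeal ≤ x'.asIdeal := by
    by_contra hno
    push_neg at hno
    choose z hz hzx using fun (P : Cand) => SetLike.not_le_iff_exists.1 (hno P.1 P.2)
    choose T hT using fun (P : Cand) => exists_finset_mem_range (z P)
    haveI := hfin.fintype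
    let T₀ : Finset A := Finset.univ.biUnion T
    let R₁ := Algebra.adjoin R (T₀ : Set A)
    haveI : Module.Finite R R₁ :=
      Module.Finite.iff_fg.2 (fg_adjoin_of_finite T₀.finite_toSet fun a _ => Algebra.IsIntegral.isIntegral a)
    haveI : IsNoetherianRing R₁ := IsNoetherianRing.of_finite R R₁
    let ι : R₁ ⊗[R] S →ₐ[R] A ⊗[R] S := Algebra.TensorProduct.map R₁.val (AlgHom.id R S)
    let x₁ : Spec (CommRingCat.of (R₁ ⊗[R] S)) := PrimeSpectrum.comap ι.toRingHom x'
    have hinc : ι.toRingHom.comp (Algebra.TensorProduct.includeRight : S →ₐ[R] R₁ ⊗[R] S).toRingHom =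
        (Algebra.TensorProduct.includeRight : S →ₐ[R] A ⊗[R] S).toRingHom :=
      RingHom.ext fun t => by simp [ι]
    let a₁ := Spec.map (CommRingCat.ofHom (Algebra.TensorProduct.includeRight : S →ₐ[R] R₁ ⊗[R] S).toRingHom)
    let f₁ := Spec.map (CommRingCat.ofHom (algebraMap R₁ (R₁ ⊗[R] S)))
    let g₁ := Spec.map (CommRingCat.ofHom (algebraMap R R₁))
    have hsq : IsPullback a₁ f₁ φ g₁ := isPullback_specTensor R R₁ S
    haveI : LocallyOfFiniteType f₁ := MorphismProperty.of_isPullback hsq inferInstance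
    have hx₁ : a₁ x₁ = x := by
      rw [← hx']
      refine PrimeSpectrum.ext ?_
      show (x'.asIdeal.comap ι.toRingHom).comap _ = x'.asIdeal.comap _
      exact (Ideal.comap_comap _ _).trans
        (congrArg (fun ψ : S →+* A ⊗[R] S => Ideal.comap ψ x'.asIdeal) hinc)
    have hcomm : ∀ w, φ (a₁ w) = g₁ (f₁ w) := fun w => congr($(hsq.w) w)
    obtain ⟨m, n', hmx, hfm, hm, hn', hd⟩ := exists_fibreMax_eq f₁ x₁
    have ham : a₁ m = x := hx _ (hx₁ ▸ hmx.map a₁.continuous) (by rw [hcomm, hfm, ← hcomm, hx₁])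
    have hnn : n' = n := by
      have h1 := FibreDimChart.fibreDimAt_of_isPullback φ g₁ a₁ f₁ hsq x₁
      rw [hd, hx₁, fibreDimAt_of_fibreMax φ hx hn] at h1
      exact_mod_cast h1
    subst hnn
    let η₁ : Spec (CommRingCat.of R₁) := ⟨⊥, Ideal.isPrime_bot⟩
    obtain ⟨ξ₁, hξ₁, hfξ₁, hξmax, hξn⟩ := exists_over_generization f₁ m hm (H R₁ m ham) hn'
      (z := η₁) ((PrimeSpectrum.le_iff_specializes η₁ _).1 bot_le)
    obtain ⟨k, hk, hk', hPmax⟩ := mapTrdeg_baseChange_of_fibreMax φ hsq hξmax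
    obtain rfl : n' = k := Nat.cast_injective (R := Cardinal.{u}) (hξn.symm.trans hk)
    have hφP : (φ (a₁ ξ₁)).asIdeal = p := by
      rw [hcomm, hfξ₁]
      show Ideal.comap (algebraMap R R₁) ⊥ = p
      rw [← RingHom.ker_eq_comap_bot]
      ext r
      rw [RingHom.mem_ker, RingHom.mem_ker]
      exact ⟨fun h => congrArg Subtype.val h, fun h => Subtype.ext h⟩
    have hP : a₁ ξ₁ ∈ Cand := by
      refine ⟨⟨⟨(a₁ ξ₁).isPrime, bot_le⟩, fun q hq hle => ?_⟩, hφP, hk'⟩
      let qp : Spec (CommRingCat.of S) := ⟨q, hq.1⟩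
      have h1 : qp ⤳ a₁ ξ₁ := (PrimeSpectrum.le_iff_specializes qp (a₁ ξ₁)).1 hle
      have h2 : φ qp = φ (a₁ ξ₁) := by
        refine PrimeSpectrum.ext ?_
        rw [hφP]
        have h3 : (φ qp).asIdeal ≤ p :=
          hφP ▸ (PrimeSpectrum.le_iff_specializes (φ qp) (φ (a₁ ξ₁))).2 (h1.map φ.continuous)
        exact le_antisymm h3 (hp.2 ⟨(φ qp).isPrime, bot_le⟩ h3)
      exact (congrArg PrimeSpectrum.asIdeal (hPmax qp h1 h2)).ge
    obtain ⟨w, hw⟩ := hT ⟨_, hP⟩ R₁ (fun t ht => Algebra.subset_adjoin (by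
      exact Finset.mem_biUnion.2 ⟨_, Finset.mem_univ _, ht⟩))
    let Q₁ : PrimeSpectrum (R₁ ⊗[R] S) := PrimeSpectrum.comap ι.toRingHom (Q _ hP)
    have hQ₁ : Q₁ = ξ₁ := by
      refine prime_eq_of_birational (fun a => ?_) ?_ ?_ ?_
      · obtain ⟨r, s, hr, hrs⟩ := hbir a.1
        exact ⟨r, s, fun h => hr (congrArg Subtype.val h), Subtype.ext hrs⟩
      · refine le_bot_iff.1 fun a ha => ?_
        have h4 : (a : A) ∈ (Q _ hP).asIdeal.comap (algebraMap A (A ⊗[R] S)) := by
          have h5 : ι (algebraMap R₁ (R₁ ⊗[R] S) a) ∈ (Q _ hP).asIdeal := ha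
          simpa [ι, Algebra.TensorProduct.algebraMap_apply] using h5
        rw [hQ0] at h4
        exact Ideal.mem_bot.2 (Subtype.ext h4)
      · exact congrArg PrimeSpectrum.asIdeal hfξ₁
      · show ((Q _ hP).asIdeal.comap ι.toRingHom).comap _ = _
        exact ((Ideal.comap_comap _ _).trans
          (congrArg (fun ψ : S →+* A ⊗[R] S => Ideal.comap ψ (Q _ hP).asIdeal) hinc)).trans (hQS _ hP)
    have h6 : w ∈ ξ₁.asIdeal := by
      rw [← hQ₁]
      show ι w ∈ (Q _ hP).asIdeal
      rw [hw]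
      exact hz ⟨_, hP⟩
    have h7 : w ∈ x₁.asIdeal := (PrimeSpectrum.le_iff_specializes ξ₁ x₁).2 (hξ₁.trans hmx) h6
    exact hzx ⟨_, hP⟩ (hw ▸ (show ι w ∈ x'.asIdeal from h7))
  let ξ : Spec (CommRingCat.of (A ⊗[R] S)) := Q P hP
  let fA := Spec.map (CommRingCat.ofHom (algebraMap A (A ⊗[R] S)))
  let aA := Spec.map (CommRingCat.ofHom (Algebra.TensorProduct.includeRight : S →ₐ[R] A ⊗[R] S).toRingHom)
  have hξmax : FlatEquidim.IsFibreMax fA ξ := by
    intro w hw hfw
    refine prime_eq_of_birational hbir ?_ (hQ0 P hP) ?_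
    · exact (congrArg PrimeSpectrum.asIdeal hfw).trans (hQ0 P hP)
    · have h1 : (aA w).asIdeal ≤ P.asIdeal :=
        hQS P hP ▸ Ideal.comap_mono ((PrimeSpectrum.le_iff_specializes w ξ).2 hw)
      exact (le_antisymm h1 (hP.1.2 ⟨(aA w).isPrime, bot_le⟩ h1)).trans (hQS P hP).symm
  obtain ⟨k, hk, hk', -⟩ := mapTrdeg_baseChange_of_fibreMax φ (isPullback_specTensor R A S) hξmax
  have hPeq : aA ξ = P := PrimeSpectrum.ext (hQS P hP)
  rw [hPeq, hP.2.2] at hk'
  obtain rfl : n = k := Nat.cast_injective hk'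
  exact ⟨ξ, (PrimeSpectrum.le_iff_specializes ξ x').1 hPx, hQ0 P hP, hk⟩

/-- Universal openness after base change to the normalization of a component. -/
theorem isUnivOpenAt_normal (R S : Type u) [CommRing R] [CommRing S] [Algebra R S]
    [IsNoetherianRing R] [Algebra.FiniteType R S] (A : Type u) [CommRing A] [IsDomain A] [IsIntegrallyClosed A]
    [Algebra R A] [Algebra.IsIntegral R A]
    (hbir : ∀ a : A, ∃ r s : R, algebraMap R A r ≠ 0 ∧ algebraMap R A r * a = algebraMap R A s)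
    (hp : RingHom.ker (algebraMap R A) ∈ minimalPrimes R)
    (x : Spec (CommRingCat.of S)) (n : ℕ)
    (hx : FlatEquidim.IsFibreMax (Spec.map (CommRingCat.ofHom (algebraMap R S))) x)
    (hn : mapTrdeg (Spec.map (CommRingCat.ofHom (algebraMap R S))) x = n)
    (H : ∀ (R₁ : Type u) [CommRing R₁] [Algebra R R₁] [Module.Finite R R₁]
      (x₁ : Spec (CommRingCat.of (R₁ ⊗[R] S))),
      Spec.map (CommRingCat.ofHom (Algebra.TensorProduct.includeRight : S →ₐ[R] R₁ ⊗[R] S).toRingHom) x₁ = x →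
        EGA43.IsOpenAt (Spec.map (CommRingCat.ofHom (algebraMap R₁ (R₁ ⊗[R] S)))).base x₁)
    {P : Scheme.{u}} {fst' : P ⟶ Spec (CommRingCat.of S)} {f' : P ⟶ Spec (CommRingCat.of A)}
    (hpb : IsPullback fst' f' (Spec.map (CommRingCat.ofHom (algebraMap R S)))
      (Spec.map (CommRingCat.ofHom (algebraMap R A))))
    (x₁ : P) (hx₁ : fst' x₁ = x) : EGA43.IsUnivOpenAt f' x₁ := by
  let φ := Spec.map (CommRingCat.ofHom (algebraMap R S))
  haveI : LocallyOfFiniteType φ :=
    (HasRingHomProperty.Spec_iff (P := @LocallyOfFiniteType)).2 (RingHom.finiteType_algebraMap.2 inferInstance)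
  have hsq := isPullback_specTensor R A S
  let e := hpb.isoIsPullback _ _ hsq
  have he1 : e.hom ≫ Spec.map (CommRingCat.ofHom (Algebra.TensorProduct.includeRight : S →ₐ[R] A ⊗[R] S).toRingHom) = fst' :=
    hpb.isoIsPullback_hom_fst _ _ hsq
  have he2 : e.hom ≫ Spec.map (CommRingCat.ofHom (algebraMap A (A ⊗[R] S))) =
      f' := hpb.isoIsPullback_hom_snd _ _ hsq
  have hwx : Spec.map (CommRingCat.ofHom (Algebra.TensorProduct.includeRight : S →ₐ[R] A ⊗[R] S).toRingHom)
      (e.hom x₁) = x := by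
    rw [← Scheme.Hom.comp_apply, he1]
    exact hx₁
  refine UnivOpenAt.isUnivOpenAt_of_isPullback (g := 𝟙 _) ?_
    (IsPullback.of_horiz_isIso ⟨by rw [he2, Category.comp_id]⟩ : IsPullback e.hom _
      (Spec.map (CommRingCat.ofHom (algebraMap A (A ⊗[R] S)))) (𝟙 _)) x₁ rfl
  let fA := Spec.map (CommRingCat.ofHom (algebraMap A (A ⊗[R] S)))
  haveI : LocallyOfFiniteType fA := MorphismProperty.of_isPullback hsq inferInstance
  obtain ⟨ξ, hξ, hξ0, hξn⟩ := exists_generic_normalization R S A hbir hp x n hx hn H (e.hom x₁) hwx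
  have hη : ∀ w : Spec (CommRingCat.of A), w ⤳ fA ξ → w = fA ξ := fun w hw => PrimeSpectrum.ext
    (le_antisymm ((PrimeSpectrum.le_iff_specializes w _).2 hw) (hξ0.le.trans bot_le))
  refine isUnivOpenAt_of_generic fA _ ξ hξ hη ?_ n hξn ?_ ?_
  · refine Filter.mem_of_superset Filter.univ_mem fun w _ => specializes_iff_mem_closure.1 ?_
    exact (PrimeSpectrum.le_iff_specializes _ w).1 (hξ0.le.trans bot_le)
  · rw [FibreDimChart.fibreDimAt_of_isPullback φ _ _ fA hsq, hwx, fibreDimAt_of_fibreMax φ hx hn]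
  · let q : PrimeSpectrum A := fA (e.hom x₁)
    letI : Algebra A ((Spec (CommRingCat.of A)).presheaf.stalk q) :=
      inferInstanceAs (Algebra A ((Spec.structureSheaf A).presheaf.stalk q))
    haveI : IsLocalization.AtPrime ((Spec (CommRingCat.of A)).presheaf.stalk q) q.asIdeal :=
      inferInstanceAs (IsLocalization.AtPrime ((Spec.structureSheaf A).presheaf.stalk q) q.asIdeal)
    haveI : IsDomain ((Spec (CommRingCat.of A)).presheaf.stalk q) :=
      IsLocalization.isDomain_of_le_nonZeroDivisors (M := q.asIdeal.primeCompl) _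
        (Ideal.primeCompl_le_nonZeroDivisors q.asIdeal)
    haveI : IsIntegrallyClosed ((Spec (CommRingCat.of A)).presheaf.stalk q) :=
      isIntegrallyClosed_of_isLocalization _ q.asIdeal.primeCompl (Ideal.primeCompl_le_nonZeroDivisors q.asIdeal)
    exact S9812.result _

/-- Finite base changes detect universal openness, affine form. -/
theorem isUnivOpenAt_spec_of_finite (R S : Type u) [CommRing R] [CommRing S] [Algebra R S]
    [IsNoetherianRing R] [Algebra.FiniteType R S] (x : Spec (CommRingCat.of S))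
    (hx : FlatEquidim.IsFibreMax (Spec.map (CommRingCat.ofHom (algebraMap R S))) x)
    (H : ∀ (R₁ : Type u) [CommRing R₁] [Algebra R R₁] [Module.Finite R R₁]
      (x₁ : Spec (CommRingCat.of (R₁ ⊗[R] S))),
      Spec.map (CommRingCat.ofHom (Algebra.TensorProduct.includeRight : S →ₐ[R] R₁ ⊗[R] S).toRingHom) x₁ = x →
        EGA43.IsOpenAt (Spec.map (CommRingCat.ofHom (algebraMap R₁ (R₁ ⊗[R] S)))).base x₁) :
    EGA43.IsUnivOpenAt (Spec.map (CommRingCat.ofHom (algebraMap R S))) x := by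
  haveI := (minimalPrimes.finite_of_isNoetherianRing R).to_subtype
  let φ := Spec.map (CommRingCat.ofHom (algebraMap R S))
  haveI : LocallyOfFiniteType φ :=
    (HasRingHomProperty.Spec_iff (P := @LocallyOfFiniteType)).2 (RingHom.finiteType_algebraMap.2 inferInstance)
  obtain ⟨n, hn, -⟩ := height_asFiber φ x
  let g : ∀ p : minimalPrimes R, Spec (CommRingCat.of (R ⧸ p.1)) ⟶ Spec (CommRingCat.of R) :=
    fun p => Spec.map (CommRingCat.ofHom (Ideal.Quotient.mk p.1))
  haveI : ∀ p, IsClosedImmersion (g p) := fun p =>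
    IsClosedImmersion.spec_of_surjective _ Ideal.Quotient.mk_surjective
  refine UnivOpenAt.isUnivOpenAt_of_finite_closed_cover _ g (Set.eq_univ_of_forall fun q => ?_) φ x
    fun p x' hx' => ?_
  · obtain ⟨p, hp, hpq⟩ := Ideal.exists_minimalPrimes_le (I := (⊥ : Ideal R))
      (J := (q : PrimeSpectrum R).asIdeal) bot_le
    refine Set.mem_iUnion.2 ⟨⟨p, hp⟩, ?_⟩
    show q ∈ Set.range (PrimeSpectrum.comap (Ideal.Quotient.mk p))
    rw [range_comap_of_surjective _ _ Ideal.Quotient.mk_surjective, Ideal.mk_ker]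
    exact hpq
  obtain ⟨p, hp⟩ := p
  haveI : p.IsPrime := hp.1.1
  let K := p.ResidueField
  let A := integralClosure (R ⧸ p) K
  haveI : IsIntegrallyClosed A := integralClosure.isIntegrallyClosedOfFiniteExtension K
  let v : Spec (CommRingCat.of A) ⟶ Spec (CommRingCat.of (R ⧸ p)) :=
    Spec.map (CommRingCat.ofHom (algebraMap (R ⧸ p) A))
  haveI : Algebra.IsIntegral (R ⧸ p) A := inferInstance
  haveI : Algebra.IsIntegral R A := Algebra.IsIntegral.trans (R ⧸ p)
  haveI : IsIntegralHom v := IsIntegralHom.SpecMap_iff.2 Algebra.IsIntegral.isIntegral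
  have hinj : Function.Injective (algebraMap (R ⧸ p) A) := fun a b h =>
    IsFractionRing.injective (R ⧸ p) K (congrArg Subtype.val h)
  haveI : Surjective v := ⟨fun q => by
    obtain ⟨J, -, hJ, hJc⟩ := Ideal.exists_ideal_over_prime_of_isIntegral (q : PrimeSpectrum (R ⧸ p)).asIdeal
      (⊥ : Ideal A) (by rw [← RingHom.ker_eq_comap_bot, (RingHom.injective_iff_ker_eq_bot _).1 hinj]; exact bot_le)
    exact ⟨⟨J, hJ⟩, PrimeSpectrum.ext hJc⟩⟩
  refine UnivOpenAt.isUnivOpenAt_of_universallyClosed_surjective v _ x' fun x₁ hx₁ => ?_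
  have hker : RingHom.ker (algebraMap R A) = p := by
    ext r
    rw [RingHom.mem_ker, IsScalarTower.algebraMap_apply R (R ⧸ p) A, map_eq_zero_iff _ hinj]
    exact Ideal.Quotient.eq_zero_iff_mem
  have hbir : ∀ a : A, ∃ r s : R, algebraMap R A r ≠ 0 ∧ algebraMap R A r * a = algebraMap R A s := by
    intro a
    obtain ⟨s, r, hr, hrs⟩ := IsFractionRing.div_surjective (R ⧸ p) (a : K)
    obtain ⟨r, rfl⟩ := Ideal.Quotient.mk_surjective r
    obtain ⟨s, rfl⟩ := Ideal.Quotient.mk_surjective s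
    have hr0 : algebraMap (R ⧸ p) K (Ideal.Quotient.mk p r) ≠ 0 :=
      IsFractionRing.to_map_ne_zero_of_mem_nonZeroDivisors hr
    refine ⟨r, s, fun h => ?_, Subtype.ext ?_⟩
    · rw [← RingHom.mem_ker, hker, ← Ideal.Quotient.eq_zero_iff_mem] at h
      exact hr0 (by rw [h, map_zero])
    · show algebraMap (R ⧸ p) K (Ideal.Quotient.mk p r) * (a : K) = algebraMap (R ⧸ p) K (Ideal.Quotient.mk p s)
      rw [← hrs, mul_div_cancel₀ _ hr0]
  have hvg : v ≫ g ⟨p, hp⟩ = Spec.map (CommRingCat.ofHom (algebraMap R A)) := by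
    show Spec.map _ ≫ Spec.map _ = _
    rw [← Spec.map_comp]
    rfl
  let fst' := pullback.fst (pullback.snd φ (g ⟨p, hp⟩)) v ≫ pullback.fst φ (g ⟨p, hp⟩)
  have hpb : IsPullback fst' (pullback.snd (pullback.snd φ (g ⟨p, hp⟩)) v) φ
      (Spec.map (CommRingCat.ofHom (algebraMap R A))) := by
    rw [← hvg]
    exact (IsPullback.of_hasPullback _ v).paste_horiz (IsPullback.of_hasPullback φ (g ⟨p, hp⟩))
  exact isUnivOpenAt_normal R S A hbir (hker.symm ▸ hp) x n hx hn H hpb x₁ ((congrArg _ hx₁).trans hx')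

/-- The tensor chart inside a pullback. -/
theorem exists_chart_square {X Y : Scheme.{u}} (f : X ⟶ Y) {V : Y.Opens} (hV : IsAffineOpen V) {U : X.Opens}
    (hU : IsAffineOpen U) (hUV : U ≤ f ⁻¹ᵁ V) (R₁ : Type u) [CommRing R₁] [Algebra Γ(Y, V) R₁] :
    letI := (f.appLE V U hUV).hom.toAlgebra
    ∃ c : Spec (CommRingCat.of (R₁ ⊗[Γ(Y, V)] Γ(X, U))) ⟶
        pullback f (Spec.map (CommRingCat.ofHom (algebraMap Γ(Y, V) R₁)) ≫ hV.fromSpec),
      IsOpenImmersion c ∧
      c ≫ pullback.fst _ _ = Spec.map (CommRingCat.ofHom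
        (Algebra.TensorProduct.includeRight : Γ(X, U) →ₐ[Γ(Y, V)] R₁ ⊗[Γ(Y, V)] Γ(X, U)).toRingHom) ≫ hU.fromSpec ∧
      c ≫ pullback.snd _ _ = Spec.map (CommRingCat.ofHom (algebraMap R₁ (R₁ ⊗[Γ(Y, V)] Γ(X, U)))) := by
  letI := (f.appLE V U hUV).hom.toAlgebra
  let φf := f.appLE V U hUV
  let ψ := CommRingCat.ofHom (algebraMap Γ(Y, V) R₁)
  have hsq := isPullback_specTensor Γ(Y, V) R₁ Γ(X, U)
  let m : pullback (Spec.map φf) (Spec.map ψ) ⟶ pullback f (Spec.map ψ ≫ hV.fromSpec) :=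
    pullback.map _ _ _ _ hU.fromSpec (𝟙 _) hV.fromSpec (IsAffineOpen.SpecMap_appLE_fromSpec ..)
      (by rw [Category.id_comp])
  haveI : IsOpenImmersion m := by dsimp only [m]; infer_instance
  refine ⟨hsq.isoPullback.hom ≫ m, inferInstance, ?_, ?_⟩
  · rw [Category.assoc, pullback.lift_fst]
    exact (Category.assoc _ _ _).symm.trans (congrArg (· ≫ hU.fromSpec) hsq.isoPullback_hom_fst)
  · rw [Category.assoc, pullback.lift_snd]
    exact (congrArg (hsq.isoPullback.hom ≫ ·) (Category.comp_id _)).trans hsq.isoPullback_hom_snd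

/-- Finite base changes detect universal openness at a maximal point of a fibre. -/
theorem isUnivOpenAt_of_finite {X Y : Scheme.{u}} [IsNoetherian Y] (f : X ⟶ Y) [LocallyOfFiniteType f] (x : X)
    (hmax : FlatEquidim.IsFibreMax f x)
    (H : ∀ (Y' : Scheme.{u}) (g : Y' ⟶ Y) [IsFinite g], ∀ x' : ↥(pullback f g), (pullback.fst f g).base x' = x →
      EGA43.IsOpenAt (pullback.snd f g).base x') : EGA43.IsUnivOpenAt f x := by
  obtain ⟨V, hV, hyV, -⟩ := exists_isAffineOpen_mem_and_subset (X := Y) (x := f x) (U := ⊤) trivial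
  obtain ⟨U, hU, hxU, hUV⟩ := exists_isAffineOpen_mem_and_subset (X := X) (x := x) (U := f ⁻¹ᵁ V) hyV
  refine isUnivOpenAt_of_affine f x V hV U hU hUV hxU ?_
  letI : Algebra Γ(Y, V) Γ(X, U) := (f.appLE V U hUV).hom.toAlgebra
  haveI : Algebra.FiniteType Γ(Y, V) Γ(X, U) := f.finiteType_appLE hV hU hUV
  haveI : IsNoetherianRing Γ(Y, V) := IsLocallyNoetherian.component_noetherian ⟨V, hV⟩
  let φ := Spec.map (CommRingCat.ofHom (algebraMap Γ(Y, V) Γ(X, U)))
  let x₀ : Spec (CommRingCat.of Γ(X, U)) := hU.primeIdealOf ⟨x, hxU⟩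
  have hsq : φ ≫ hV.fromSpec = hU.fromSpec ≫ f := IsAffineOpen.SpecMap_appLE_fromSpec f hV hU hUV
  have hsq' : ∀ z, hV.fromSpec (φ z) = f (hU.fromSpec z) := fun z => congr($hsq z)
  have hx₀ : hU.fromSpec x₀ = x := hU.fromSpec_primeIdealOf _
  have hx₀max : FlatEquidim.IsFibreMax φ x₀ := fun z hz hfz => by
    refine hU.fromSpec.isOpenEmbedding.injective ((hmax _ (hx₀ ▸ hz.map hU.fromSpec.continuous) ?_).trans hx₀.symm)
    rw [← hsq', hfz, hsq', hx₀]
  have hopen := isUnivOpenAt_spec_of_finite Γ(Y, V) Γ(X, U) x₀ hx₀max (by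
    intro R₁ _ _ _ x₁ hx₁
    obtain ⟨c, hc, hc1, hc2⟩ := exists_chart_square f hV hU hUV R₁
    rw [← hc2]
    let g := Spec.map (CommRingCat.ofHom (algebraMap Γ(Y, V) R₁))
    haveI : IsFinite g := (IsFinite.SpecMap_iff _).2 (RingHom.finite_algebraMap.2 inferInstance)
    refine isOpenAt_openImm_comp c _ x₁ (isOpenAt_of_finite_hyp f x H
      (IsPullback.of_hasPullback f (g ≫ hV.fromSpec)) (c x₁) ?_)
    rw [← Scheme.Hom.comp_apply, hc1, Scheme.Hom.comp_apply, hx₁]
    exact hx₀)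
  intro R' _ _ q hq b hb
  have hs := isPullback_specTensor Γ(Y, V) R' Γ(X, U)
  have h1 := UnivOpenAt.isOpenAt_of_isPullback hopen hs q (PrimeSpectrum.ext hq)
  exact h1 _ (((PrimeSpectrum.basicOpen b).2).mem_nhds hb)

end Groth.Agent.Chevalley
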