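import Mathlib.RingTheory.Invariant.Basic
import Mathlib.FieldTheory.IsAlgClosed.AlgebraicClosure
import Mathlib.RingTheory.Spectrum.Prime.Topology
import Mathlib.RingTheory.Ideal.GoingUp
import Mathlib.RingTheory.TensorProduct.Basic
import Mathlib.RingTheory.Finiteness.Basic
import Mathlib.LinearAlgebra.TensorProduct.Finiteness

/-!
# Universal openness for invariants of finite groups over a radicial base

If `G` is a finite group acting on `B`, `Q` is the fixed ring and two geometric points of `Q` over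
the prime `p` of `P` coincide, then every base change of `Spec B → Spec P` is open at the points
over `p`.
-/

set_option autoImplicit false

universe u

open TensorProduct PrimeSpectrum Topology

namespace Groth.Agent.Chevalley

/-- At most one geometric point of `Q` over the prime `p`. -/
def RadAt (P Q : Type u) [CommRing P] [CommRing Q] [Algebra P Q] (p : Ideal P) : Prop :=
  ∀ (k : Type u) [Field k] [IsAlgClosed k] (φ ψ : Q →+* k),
    φ.comp (algebraMap P Q) = ψ.comp (algebraMap P Q) →
      RingHom.ker (φ.comp (algebraMap P Q)) = p → φ = ψ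

/-- Geometric points extend along injective integral extensions. -/
theorem exists_hom_extend {P Q k : Type u} [CommRing P] [CommRing Q] [Algebra P Q]
    [Algebra.IsIntegral P Q] (hinj : Function.Injective (algebraMap P Q)) [Field k] [IsAlgClosed k]
    (φ : P →+* k) : ∃ ψ : Q →+* k, ψ.comp (algebraMap P Q) = φ := by
  have : (RingHom.ker φ).IsPrime := RingHom.ker_isPrime φ
  obtain ⟨J, -, hJp, hJ⟩ := Ideal.exists_ideal_over_prime_of_isIntegral (RingHom.ker φ) (⊥ : Ideal Q)
    (by rw [show (⊥ : Ideal Q).comap (algebraMap P Q) = ⊥ from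
      (RingHom.ker_eq_comap_bot _).symm.trans ((RingHom.injective_iff_ker_eq_bot _).1 hinj)]
        exact bot_le)
  have : J.LiesOver (RingHom.ker φ) := ⟨hJ.symm⟩
  have : (RingHom.ker φ).IsPrime := RingHom.ker_isPrime φ
  let e : P ⧸ RingHom.ker φ →+* k := Ideal.Quotient.lift _ φ (fun _ h ↦ h)
  let _ := e.toAlgebra
  let K := FractionRing (Q ⧸ J)
  let F := FractionRing (P ⧸ RingHom.ker φ)
  have : Algebra.IsIntegral (P ⧸ RingHom.ker φ) (Q ⧸ J) :=
    Algebra.IsIntegral.tower_top (R := P) (S := P ⧸ RingHom.ker φ)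
  have hinj' : Function.Injective (algebraMap (P ⧸ RingHom.ker φ) k) :=
    (injective_iff_map_eq_zero _).mpr fun z hz ↦ by
      obtain ⟨z, rfl⟩ := Ideal.Quotient.mk_surjective z
      exact Ideal.Quotient.eq_zero_iff_mem.mpr (show φ z = 0 from hz)
  have : FaithfulSMul (P ⧸ RingHom.ker φ) k := (faithfulSMul_iff_algebraMap_injective _ _).mpr hinj'
  have halg : Algebra.IsAlgebraic (P ⧸ RingHom.ker φ) (Q ⧸ J) := inferInstance
  let l : (Q ⧸ J) →ₐ[P ⧸ RingHom.ker φ] k := IsAlgClosed.lift
  refine ⟨l.toRingHom.comp (Ideal.Quotient.mk J), RingHom.ext fun a ↦ ?_⟩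
  exact (l.commutes (Ideal.Quotient.mk _ a)).trans (Ideal.Quotient.lift_mk _ _ _)

/-- A geometric point at a prime. -/
theorem exists_hom_ker {R : Type u} [CommRing R] (q : Ideal R) [q.IsPrime] :
    ∃ (k : Type u) (_ : Field k) (_ : IsAlgClosed k) (θ : R →+* k), RingHom.ker θ = q :=
  ⟨AlgebraicClosure q.ResidueField, inferInstance, inferInstance,
    (algebraMap q.ResidueField _).comp (algebraMap R q.ResidueField), by
      rw [RingHom.ker_comp_of_injective _ (RingHom.injective _)]
      exact Ideal.ker_algebraMap_residueField _⟩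

open Polynomial in
/-- Invariant coefficients of the universal characteristic polynomial. -/
theorem exists_invariant_charpoly (Q B G : Type u) [CommRing Q] [CommRing B] [Algebra Q B] [Group G]
    [Fintype G] [MulSemiringAction G B] [Algebra.IsInvariant Q B G] {ι : Type*} [Fintype ι]
    (a : ι → B) (j : ℕ) :
    ∃ H : MvPolynomial ι Q, H.map (algebraMap Q B) =
      (∏ σ : G, (X - C (∑ i, MvPolynomial.C (σ • a i) * MvPolynomial.X i))).coeff j := by
  set F : G → (MvPolynomial ι B)[X] :=
    fun σ ↦ X - C (∑ i, MvPolynomial.C (σ • a i) * MvPolynomial.X i)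
  have hF : ∀ τ : G, (∏ σ, F σ).map (MvPolynomial.map (MulSemiringAction.toRingHom G B τ)) =
      ∏ σ, F σ := by
    intro τ
    rw [Polynomial.map_prod]
    refine Fintype.prod_equiv (Equiv.mulLeft τ) _ _ fun σ ↦ ?_
    simp [F, mul_smul, Polynomial.map_sum]
  rw [← Set.mem_range, MvPolynomial.mem_range_map_iff_coeffs_subset]
  intro c hc
  obtain ⟨m, -, rfl⟩ := MvPolynomial.mem_coeffs_iff.mp hc
  obtain ⟨x, hx⟩ := Algebra.IsInvariant.isInvariant (A := Q) (G := G)
    (((∏ σ, F σ).coeff j).coeff m) fun τ ↦ by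
      conv_rhs => rw [← hF τ]
      rw [Polynomial.coeff_map, MvPolynomial.coeff_map]
      rfl
  exact ⟨x, hx⟩

/-- Base changes of `Spec B → Spec P` are open at the points over a radicial prime. -/
theorem image_mem_nhds (P Q B R G : Type u) [CommRing P] [CommRing Q] [CommRing B] [CommRing R]
    [Algebra P Q] [Algebra Q B] [Algebra P B] [IsScalarTower P Q B] [Algebra P R]
    [Group G] [Finite G] [MulSemiringAction G B] [SMulCommClass G P B]
    [Algebra.IsInvariant Q B G] [Algebra.IsIntegral P B]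
    (hinj : Function.Injective (algebraMap P Q)) (hQB : Function.Injective (algebraMap Q B))
    (q : PrimeSpectrum (R ⊗[P] B))
    (hrad : RadAt P Q (q.asIdeal.comap (algebraMap P (R ⊗[P] B))))
    (b : R ⊗[P] B) (hb : b ∉ q.asIdeal) :
    PrimeSpectrum.comap (algebraMap R (R ⊗[P] B)) '' (basicOpen b : Set (PrimeSpectrum (R ⊗[P] B))) ∈
      𝓝 (PrimeSpectrum.comap (algebraMap R (R ⊗[P] B)) q) := by
  classical
  let := Fintype.ofFinite G
  have : Algebra.IsIntegral P Q := ⟨fun x ↦
    (isIntegral_algHom_iff (IsScalarTower.toAlgHom P Q B) hQB).mp (Algebra.IsIntegral.isIntegral _)⟩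
  have : Algebra.IsIntegral Q B := Algebra.IsIntegral.tower_top (R := P)
  obtain ⟨S, hS⟩ := TensorProduct.exists_finset b
  let a : S → B := fun i ↦ i.1.2
  let r : S → R := fun i ↦ i.1.1
  have hbsum : b = ∑ i, r i ⊗ₜ[P] a i := by
    rw [hS, ← Finset.sum_coe_sort]
  choose H hH using exists_invariant_charpoly Q B G a
  let ρ : R ⊗[P] Q →ₐ[R] R ⊗[P] B :=
    Algebra.TensorProduct.map (AlgHom.id R R) (IsScalarTower.toAlgHom P Q B)
  let s : ℕ → R ⊗[P] Q := fun j ↦ MvPolynomial.eval₂
    (Algebra.TensorProduct.includeRight : Q →ₐ[P] R ⊗[P] Q).toRingHom (fun i ↦ r i ⊗ₜ 1) (H j)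
  let act : G → (R ⊗[P] B →ₐ[R] R ⊗[P] B) := fun σ ↦
    Algebra.TensorProduct.map (AlgHom.id R R) (MulSemiringAction.toAlgHom P B σ)
  have hact1 : act 1 b = b := by
    rw [hbsum, map_sum]
    refine Finset.sum_congr rfl fun i _ ↦ ?_
    simp [act]
  -- the characteristic polynomial
  have hchar : ∀ j, ρ (s j) =
      (∏ σ : G, (Polynomial.X - Polynomial.C (act σ b))).coeff j := by
    intro j
    let θ : MvPolynomial S B →+* R ⊗[P] B := MvPolynomial.eval₂Hom
      (Algebra.TensorProduct.includeRight : B →ₐ[P] R ⊗[P] B).toRingHom (fun i ↦ r i ⊗ₜ 1)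
    have h1 : ρ (s j) = θ ((H j).map (algebraMap Q B)) := by
      simp only [s, θ, MvPolynomial.coe_eval₂Hom, MvPolynomial.eval₂_map]
      rw [← AlgHom.coe_toRingHom ρ, MvPolynomial.eval₂_comp_left]
      congr 1
      · ext x; simp [ρ]
    rw [h1, hH, ← Polynomial.coeff_map, Polynomial.map_prod]
    congr 1
    refine Finset.prod_congr rfl fun σ _ ↦ ?_
    rw [Polynomial.map_sub, Polynomial.map_X, Polynomial.map_C]
    congr 2
    rw [hbsum, map_sum, map_sum]
    refine Finset.sum_congr rfl fun i _ ↦ ?_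
    simp [θ, act, Algebra.TensorProduct.tmul_mul_tmul]
  -- some coefficient does not vanish at the point
  obtain ⟨j, hj, hjq⟩ : ∃ j, j < Fintype.card G ∧ ρ (s j) ∉ q.asIdeal := by
    by_contra hall
    push Not at hall
    set F := ∏ σ : G, (Polynomial.X - Polynomial.C (act σ b)) with hFdef
    have hmonic : F.Monic := Polynomial.monic_prod_of_monic _ _ fun σ _ ↦ Polynomial.monic_X_sub_C _
    have hdeg : F.natDegree ≤ Fintype.card G := by
      refine (Polynomial.natDegree_prod_le _ _).trans ?_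
      refine (Finset.sum_le_sum fun σ _ ↦ Polynomial.natDegree_X_sub_C_le _).trans ?_
      simp
    have hev : F.eval b = 0 := by
      rw [hFdef, Polynomial.eval_prod]
      exact Finset.prod_eq_zero (Finset.mem_univ 1) (by simp [hact1])
    by_cases hnt : Nontrivial (R ⊗[P] B)
    swap
    · exact hb (by rw [not_nontrivial_iff_subsingleton] at hnt; simp [Subsingleton.elim b 0])
    have hdeg' : F.natDegree = Fintype.card G := by
      rw [hFdef, Polynomial.natDegree_prod_of_monic _ _ fun σ _ ↦ Polynomial.monic_X_sub_C _]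
      simp
    rw [Polynomial.eval_eq_sum_range, Finset.sum_range_succ, Polynomial.coeff_natDegree,
      hmonic.leadingCoeff, one_mul, hdeg'] at hev
    refine hb (q.2.mem_of_pow_mem (Fintype.card G) ?_)
    rw [eq_neg_of_add_eq_zero_right hev]
    refine neg_mem (sum_mem fun i hi ↦ Ideal.mul_mem_right _ _ ?_)
    rw [← hchar]
    exact hall i (Finset.mem_range.mp hi)
  -- the complement of the image of the vanishing locus
  have hint : (algebraMap R (R ⊗[P] Q)).IsIntegral := by
    have : Algebra.IsIntegral R (R ⊗[P] Q) := inferInstance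
    exact this.isIntegral
  let N := (PrimeSpectrum.comap (algebraMap R (R ⊗[P] Q)) '' zeroLocus {s j})ᶜ
  have hN : IsOpen N := ((PrimeSpectrum.isClosedMap_comap_of_isIntegral _ hint)
    _ (isClosed_zeroLocus _)).isOpen_compl
  have htN : PrimeSpectrum.comap (algebraMap R (R ⊗[P] B)) q ∈ N := by
    rintro ⟨q', hq', hqq⟩
    obtain ⟨k, _, _, θ, hkθ⟩ := exists_hom_ker q.asIdeal
    let t : Ideal R := q'.asIdeal.comap (algebraMap R (R ⊗[P] Q))
    have ht : t = RingHom.ker (θ.comp (algebraMap R (R ⊗[P] B))) := by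
      rw [← RingHom.comap_ker, hkθ]
      exact congrArg PrimeSpectrum.asIdeal hqq
    -- extend the point of `R` to the residue field of `q'`
    let π := Ideal.Quotient.mk q'.asIdeal
    let _ := ((θ.comp (algebraMap R (R ⊗[P] B)))).toAlgebra
    let j0 : R ⧸ t →+* (R ⊗[P] Q) ⧸ q'.asIdeal := Ideal.quotientMap _ (algebraMap R (R ⊗[P] Q)) le_rfl
    let _ := j0.toAlgebra
    have : Algebra.IsIntegral (R ⧸ t) ((R ⊗[P] Q) ⧸ q'.asIdeal) := ⟨fun z ↦ by
      obtain ⟨z, rfl⟩ := Ideal.Quotient.mk_surjective z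
      obtain ⟨f, hf, hfz⟩ := hint z
      refine ⟨f.map (Ideal.Quotient.mk t), hf.map _, ?_⟩
      have e : (algebraMap (R ⧸ t) ((R ⊗[P] Q) ⧸ q'.asIdeal)).comp (Ideal.Quotient.mk t) =
          π.comp (algebraMap R (R ⊗[P] Q)) := Ideal.quotientMap_comp_mk _
      rw [Polynomial.eval₂_map, e, show (Ideal.Quotient.mk q'.asIdeal) z = π z from rfl,
        ← Polynomial.hom_eval₂, hfz, map_zero]⟩
    let φ0 : R ⧸ t →+* k := Ideal.Quotient.lift t (θ.comp (algebraMap R (R ⊗[P] B)))
      (fun x hx ↦ by rw [ht] at hx; exact hx)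
    obtain ⟨ψ, hψ⟩ := exists_hom_extend (Q := (R ⊗[P] Q) ⧸ q'.asIdeal)
      (Ideal.quotientMap_injective (I := q'.asIdeal) (f := algebraMap R (R ⊗[P] Q))) φ0
    let χ : R ⊗[P] Q →+* k := ψ.comp π
    have hχR : χ.comp (algebraMap R (R ⊗[P] Q)) = (θ.comp ρ.toRingHom).comp (algebraMap R _) := by
      ext x
      have := congr($hψ (Ideal.Quotient.mk t x))
      simp only [χ, π, RingHom.comp_apply] at this ⊢
      rw [AlgHom.toRingHom_eq_coe, RingHom.coe_coe, AlgHom.commutes]
      exact this
    have hP : ∀ (h : R ⊗[P] Q →+* k) (x : P), h (1 ⊗ₜ algebraMap P Q x) =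
        h.comp (algebraMap R (R ⊗[P] Q)) (algebraMap P R x) := fun h x ↦ by
      rw [RingHom.comp_apply]
      congr 1
      rw [Algebra.algebraMap_eq_smul_one, Algebra.algebraMap_eq_smul_one (A := R),
        TensorProduct.tmul_smul, Algebra.TensorProduct.algebraMap_apply, Algebra.algebraMap_self,
        RingHom.id_apply, TensorProduct.smul_tmul']
    have hχQ : χ.comp (Algebra.TensorProduct.includeRight : Q →ₐ[P] R ⊗[P] Q).toRingHom =
        (θ.comp ρ.toRingHom).comp
          (Algebra.TensorProduct.includeRight : Q →ₐ[P] R ⊗[P] Q).toRingHom := by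
      refine hrad k _ _ (RingHom.ext fun x ↦ ?_) ?_
      · simp only [RingHom.comp_apply, AlgHom.toRingHom_eq_coe, RingHom.coe_coe,
          Algebra.TensorProduct.includeRight_apply]
        exact (hP χ x).trans ((RingHom.congr_fun hχR _).trans (hP (θ.comp ρ.toRingHom) x).symm)
      · ext x
        simp only [RingHom.mem_ker, RingHom.comp_apply, Ideal.mem_comap,
          AlgHom.toRingHom_eq_coe, RingHom.coe_coe, Algebra.TensorProduct.includeRight_apply]
        rw [hP χ x, hχR, RingHom.comp_apply, RingHom.comp_apply, AlgHom.toRingHom_eq_coe,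
          RingHom.coe_coe, AlgHom.commutes, ← IsScalarTower.algebraMap_apply, ← RingHom.mem_ker,
          hkθ]
    have hχ : χ = θ.comp ρ.toRingHom := by
      refine RingHom.ext fun z ↦ ?_
      induction z using TensorProduct.induction_on with
      | zero => simp
      | add x y hx hy => rw [map_add, map_add, hx, hy]
      | tmul x y =>
        rw [show x ⊗ₜ[P] y = algebraMap R (R ⊗[P] Q) x * (1 ⊗ₜ y) by simp, map_mul, map_mul]
        exact congr_arg₂ (· * ·) (RingHom.congr_fun hχR x) (RingHom.congr_fun hχQ y)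
    have : s j ∈ RingHom.ker χ := by
      show ψ (π (s j)) = 0
      rw [Ideal.Quotient.eq_zero_iff_mem.mpr (by simpa using hq' : s j ∈ q'.asIdeal), map_zero]
    rw [hχ, RingHom.mem_ker, RingHom.comp_apply, ← RingHom.mem_ker, hkθ] at this
    exact hjq this
  refine Filter.mem_of_superset (hN.mem_nhds htN) fun t' ht' ↦ ?_
  -- a point over `t'` in `D(b)`
  obtain ⟨k, _, _, φR, hkR⟩ := exists_hom_ker t'.asIdeal
  obtain ⟨ψQ, hψQ⟩ := exists_hom_extend hinj (φR.comp (algebraMap P R))
  obtain ⟨ψB, hψB⟩ := exists_hom_extend hQB ψQ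
  let _ := φR.toAlgebra
  let _ := (φR.comp (algebraMap P R)).toAlgebra
  have : IsScalarTower P R k := IsScalarTower.of_algebraMap_eq' rfl
  let ψB' : B →ₐ[P] k := ⟨ψB, fun x ↦ by
    show ψB (algebraMap P B x) = φR (algebraMap P R x)
    rw [IsScalarTower.algebraMap_apply P Q B, ← RingHom.comp_apply ψB, hψB, ← RingHom.comp_apply ψQ,
      hψQ]; rfl⟩
  let Θ : R ⊗[P] B →ₐ[R] k := Algebra.TensorProduct.lift (Algebra.ofId R k) ψB' fun _ _ ↦ .all _ _
  have hsj : Θ (ρ (s j)) ≠ 0 := by
    intro h0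
    let q1 : PrimeSpectrum (R ⊗[P] Q) := ⟨RingHom.ker (Θ.comp ρ).toRingHom, RingHom.ker_isPrime _⟩
    refine ht' ⟨q1, by simpa [q1, zeroLocus] using h0, PrimeSpectrum.ext ?_⟩
    show (RingHom.ker (Θ.comp ρ).toRingHom).comap (algebraMap R _) = t'.asIdeal
    rw [RingHom.comap_ker, ← hkR]
    exact congrArg RingHom.ker (Θ.comp ρ).comp_algebraMap
  rw [hchar, ← AlgHom.coe_toRingHom Θ, ← Polynomial.coeff_map, Polynomial.map_prod] at hsj
  obtain ⟨σ, hσ⟩ : ∃ σ : G, Θ (act σ b) ≠ 0 := by
    by_contra hall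
    push Not at hall
    refine hsj ?_
    rw [Finset.prod_congr rfl fun σ _ ↦ (show (Polynomial.X - Polynomial.C (act σ b)).map
      (Θ : R ⊗[P] B →+* k) = Polynomial.X by simp [hall σ])]
    simp [Polynomial.coeff_X_pow, hj.ne]
  refine ⟨⟨RingHom.ker (Θ.comp (act σ)).toRingHom, RingHom.ker_isPrime _⟩, by simpa using hσ,
    PrimeSpectrum.ext ?_⟩
  show (RingHom.ker (Θ.comp (act σ)).toRingHom).comap (algebraMap R _) = t'.asIdeal
  rw [RingHom.comap_ker, ← hkR]
  exact congrArg RingHom.ker (Θ.comp (act σ)).comp_algebraMap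

end Groth.Agent.Chevalley
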