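import Groth.Agent.Chevalley.FiniteBaseChange
import Groth.Agent.ConstrFib.Closure

/-!
# Universal openness of finitely presented morphisms by lifting generizations
-/

set_option autoImplicit false
set_option linter.style.haveILetI false
set_option backward.isDefEq.respectTransparency.types false

universe u

open CategoryTheory CategoryTheory.Limits AlgebraicGeometry TopologicalSpace Topology TensorProduct
open Groth.Agent.DimTheory Groth.Agent.EquidimChart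

noncomputable section

namespace Groth.Agent.Chevalley

variable {X Y : Scheme.{u}}

/-- Lifting of generic points after irreducible base changes of finite type. -/
def FTLift (f : X ⟶ Y) (x : X) : Prop :=
  ∀ (Y₁ : Scheme.{u}) (g : Y₁ ⟶ Y) [IrreducibleSpace Y₁] [LocallyOfFiniteType g] [QuasiCompact g],
    ∀ x' : ↥(pullback f g), pullback.fst f g x' = x →
      ∃ z' : ↥(pullback f g), z' ⤳ x' ∧ pullback.snd f g z' = genericPoint Y₁

/-- Lifting on affine finite type base changes. -/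
theorem exists_lift_affine (f : X ⟶ Y) {x : X} (h : FTLift f x) {V : Y.Opens} (hV : IsAffineOpen V) {U : X.Opens}
    (hU : IsAffineOpen U) (hUV : U ≤ f ⁻¹ᵁ V) :
    letI := (f.appLE V U hUV).hom.toAlgebra
    ∀ (R₁ : Type u) [CommRing R₁] [Algebra Γ(Y, V) R₁] [Algebra.FiniteType Γ(Y, V) R₁]
      (x₁ : Spec (CommRingCat.of (R₁ ⊗[Γ(Y, V)] Γ(X, U)))),
      hU.fromSpec (Spec.map (CommRingCat.ofHom (Algebra.TensorProduct.includeRight :
        Γ(X, U) →ₐ[Γ(Y, V)] R₁ ⊗[Γ(Y, V)] Γ(X, U)).toRingHom) x₁) = x →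
      ∀ P : Spec (CommRingCat.of R₁), P ⤳ Spec.map (CommRingCat.ofHom (algebraMap R₁ (R₁ ⊗[Γ(Y, V)] Γ(X, U)))) x₁ →
        ∃ w, w ⤳ x₁ ∧ Spec.map (CommRingCat.ofHom (algebraMap R₁ (R₁ ⊗[Γ(Y, V)] Γ(X, U)))) w = P := by
  letI := (f.appLE V U hUV).hom.toAlgebra
  intro R₁ _ _ _ x₁ hx₁ P hP
  obtain ⟨n, π, hπ⟩ := Algebra.FiniteType.iff_quotient_mvPolynomial''.1 ‹Algebra.FiniteType Γ(Y, V) R₁›
  let σ := ULift.{u} (Fin n)
  let π' : MvPolynomial σ Γ(Y, V) →ₐ[Γ(Y, V)] R₁ := π.comp (MvPolynomial.rename ULift.down)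
  have hπ' : Function.Surjective π' := by
    intro r
    obtain ⟨p, rfl⟩ := hπ r
    obtain ⟨q, rfl⟩ := MvPolynomial.rename_surjective (R := Γ(Y, V)) (ULift.down : σ → Fin n)
      (fun a => ⟨⟨a⟩, rfl⟩) p
    exact ⟨q, rfl⟩
  let i := Spec.map (CommRingCat.ofHom π'.toRingHom)
  haveI : IsClosedImmersion i := IsClosedImmersion.spec_of_surjective _ hπ'
  haveI : IsOpenImmersion (AffineSpace.map σ hV.fromSpec) :=
    MorphismProperty.of_isPullback (AffineSpace.isPullback_map hV.fromSpec).flip hV.isOpenImmersion_fromSpec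
  let j : Spec (CommRingCat.of R₁) ⟶ 𝔸(σ; Y) :=
    i ≫ (AffineSpace.SpecIso σ Γ(Y, V)).inv ≫ AffineSpace.map σ hV.fromSpec
  have hj : j ≫ (𝔸(σ; Y) ↘ Y) = Spec.map (CommRingCat.ofHom (algebraMap Γ(Y, V) R₁)) ≫ hV.fromSpec := by
    simp only [j, Category.assoc, AffineSpace.map_over]
    rw [AffineSpace.SpecIso_inv_over_assoc, ← Category.assoc, ← Spec.map_comp]
    congr 2
    exact CommRingCat.hom_ext (RingHom.ext fun a => π'.commutes a)
  let p := j P
  let W : Closeds 𝔸(σ; Y) := ⟨closure {p}, isClosed_closure⟩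
  obtain ⟨hWirr, hWg, hWr⟩ := component_subscheme p W rfl
  let ιW := (Scheme.IdealSheafData.vanishingIdeal W).subschemeι
  let q : Ideal R₁ := (P : PrimeSpectrum R₁).asIdeal
  let k₀ : Spec (CommRingCat.of (R₁ ⧸ q)) ⟶ Spec (CommRingCat.of R₁) :=
    Spec.map (CommRingCat.ofHom (Ideal.Quotient.mk q))
  haveI : IsClosedImmersion k₀ := IsClosedImmersion.spec_of_surjective _ Ideal.Quotient.mk_surjective
  haveI : _root_.IsReduced (R₁ ⧸ q) := (Ideal.isRadical_iff_quotient_reduced q).1 (P : PrimeSpectrum R₁).isPrime.isRadical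
  have hk₀ : ∀ a, P ⤳ k₀ a := fun a => (PrimeSpectrum.le_iff_specializes P (k₀ a)).1 fun r hr => by
    show Ideal.Quotient.mk q r ∈ (a : PrimeSpectrum (R₁ ⧸ q)).asIdeal
    rw [Ideal.Quotient.eq_zero_iff_mem.2 hr]
    exact Ideal.zero_mem _
  let k₂ := IsClosedImmersion.lift ιW (k₀ ≫ j) (by
    rw [Scheme.IdealSheafData.ker_subschemeι]
    refine vanishingIdeal_le_ker _ _ fun a => ?_
    rw [Scheme.Hom.comp_apply]
    exact specializes_iff_mem_closure.1 ((hk₀ a).map j.continuous))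
  have hk₂ : k₂ ≫ ιW = k₀ ≫ j := IsClosedImmersion.lift_fac _ _ _
  haveI : IsPreimmersion (k₂ ≫ ιW) := by rw [hk₂]; infer_instance
  haveI : IsPreimmersion k₂ := IsPreimmersion.of_comp k₂ ιW
  let g : (Scheme.IdealSheafData.vanishingIdeal W).subscheme ⟶ Y := ιW ≫ (𝔸(σ; Y) ↘ Y)
  obtain ⟨P₀, hP₀⟩ : P ∈ Set.range k₀ := by
    show P ∈ Set.range (PrimeSpectrum.comap (Ideal.Quotient.mk q))
    rw [range_comap_of_surjective _ _ Ideal.Quotient.mk_surjective, Ideal.mk_ker]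
    exact le_refl q
  let f₁ := Spec.map (CommRingCat.ofHom (algebraMap R₁ (R₁ ⊗[Γ(Y, V)] Γ(X, U))))
  obtain ⟨b₀, hb₀⟩ : f₁ x₁ ∈ Set.range k₀ := by
    show f₁ x₁ ∈ Set.range (PrimeSpectrum.comap (Ideal.Quotient.mk q))
    rw [range_comap_of_surjective _ _ Ideal.Quotient.mk_surjective, Ideal.mk_ker]
    exact (PrimeSpectrum.le_iff_specializes P (f₁ x₁)).2 hP
  obtain ⟨c, hc, hc1, hc2⟩ := exists_chart_square f hV hU hUV R₁
  let g₁ := Spec.map (CommRingCat.ofHom (algebraMap Γ(Y, V) R₁)) ≫ hV.fromSpec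
  have hg : k₂ ≫ g = k₀ ≫ g₁ := by
    simp only [g, g₁, ← Category.assoc]
    rw [hk₂, Category.assoc, hj, Category.assoc]
  -- move `x₁` to the integral base
  let l₁ : pullback f (k₂ ≫ g) ⟶ pullback f g₁ :=
    pullback.lift (pullback.fst _ _) (pullback.snd _ _ ≫ k₀) (by rw [pullback.condition, Category.assoc, hg])
  have hl₁ : IsPullback l₁ (pullback.snd f (k₂ ≫ g)) (pullback.snd f g₁) k₀ := by
    refine IsPullback.of_right ?_ (pullback.lift_snd _ _ _) (IsPullback.of_hasPullback f g₁)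
    rw [pullback.lift_fst, ← hg]
    exact IsPullback.of_hasPullback f (k₂ ≫ g)
  obtain ⟨v, hv, hvb⟩ := Scheme.exists_preimage_of_isPullback hl₁ (c x₁) b₀ (by
    rw [hb₀, ← Scheme.Hom.comp_apply, hc2])
  let l₂ : pullback f (k₂ ≫ g) ⟶ pullback f g :=
    pullback.lift (pullback.fst _ _) (pullback.snd _ _ ≫ k₂) (by rw [pullback.condition, Category.assoc])
  have hl₂ : IsPullback l₂ (pullback.snd f (k₂ ≫ g)) (pullback.snd f g) k₂ := by
    refine IsPullback.of_right ?_ (pullback.lift_snd _ _ _) (IsPullback.of_hasPullback f g)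
    rw [pullback.lift_fst]
    exact IsPullback.of_hasPullback f (k₂ ≫ g)
  haveI : IsPreimmersion l₂ := MorphismProperty.of_isPullback (P := @IsPreimmersion) hl₂.flip inferInstance
  have hfst : pullback.fst f g (l₂ v) = x := by
    rw [← Scheme.Hom.comp_apply, pullback.lift_fst]
    have h1 : pullback.fst f g₁ (l₁ v) = pullback.fst f (k₂ ≫ g) v := by
      rw [← Scheme.Hom.comp_apply, pullback.lift_fst]
    rw [← h1, hv, ← Scheme.Hom.comp_apply, hc1, Scheme.Hom.comp_apply]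
    exact hx₁
  obtain ⟨z', hz', hz'g⟩ := h _ g (l₂ v) hfst
  have hgen : k₂ P₀ = genericPoint (Scheme.IdealSheafData.vanishingIdeal W).subscheme := by
    refine ιW.isEmbedding.injective ?_
    rw [← Scheme.Hom.comp_apply, hk₂, Scheme.Hom.comp_apply, hP₀, hWg]
  obtain ⟨u, hu, huP⟩ := Scheme.exists_preimage_of_isPullback hl₂ z' P₀ (hz'g.trans hgen.symm)
  have huv : u ⤳ v := l₂.isEmbedding.isInducing.specializes_iff.1 (hu.symm ▸ hz')
  have h1 : l₁ u ⤳ c x₁ := hv ▸ huv.map l₁.continuous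
  obtain ⟨w, hw⟩ : l₁ u ∈ Set.range c := h1.mem_open c.isOpenEmbedding.isOpen_range ⟨x₁, rfl⟩
  refine ⟨w, c.isOpenEmbedding.isInducing.specializes_iff.1 (hw.symm ▸ h1), ?_⟩
  rw [← hc2, Scheme.Hom.comp_apply, hw, ← Scheme.Hom.comp_apply, hl₁.w, Scheme.Hom.comp_apply, huP, hP₀]

/-- Lifting after finite type base changes gives universal openness. -/
theorem isUnivOpenAt_of_ftLift (f : X ⟶ Y) [LocallyOfFinitePresentation f] (x : X) (h : FTLift f x) :
    EGA43.IsUnivOpenAt f x := by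
  obtain ⟨V, hV, hyV, -⟩ := exists_isAffineOpen_mem_and_subset (X := Y) (x := f x) (U := ⊤) trivial
  obtain ⟨U, hU, hxU, hUV⟩ := exists_isAffineOpen_mem_and_subset (X := X) (x := x) (U := f ⁻¹ᵁ V) hyV
  refine isUnivOpenAt_of_affine f x V hV U hU hUV hxU ?_
  letI : Algebra Γ(Y, V) Γ(X, U) := (f.appLE V U hUV).hom.toAlgebra
  haveI : Algebra.FinitePresentation Γ(Y, V) Γ(X, U) := f.finitePresentation_appLE hV hU hUV
  intro R' _ _ q hq b hb
  have hcons : IsConstructible (PrimeSpectrum.comap (algebraMap R' (R' ⊗[Γ(Y, V)] Γ(X, U))) ''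
      (PrimeSpectrum.basicOpen b : Set (PrimeSpectrum (R' ⊗[Γ(Y, V)] Γ(X, U))))) :=
    PrimeSpectrum.isConstructible_comap_image
      (RingHom.finitePresentation_algebraMap.2 inferInstance) PrimeSpectrum.isConstructible_basicOpen
  rw [mem_nhds_iff]
  refine ⟨(closure (PrimeSpectrum.comap (algebraMap R' (R' ⊗[Γ(Y, V)] Γ(X, U))) ''
      (PrimeSpectrum.basicOpen b : Set (PrimeSpectrum (R' ⊗[Γ(Y, V)] Γ(X, U)))))ᶜ)ᶜ,
    fun z hz => by_contra fun hn => hz (subset_closure hn), isClosed_closure.isOpen_compl, fun hmem => ?_⟩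
  obtain ⟨P, hP, hPt⟩ := Groth.Agent.ConstrFib.exists_specializes_of_mem_closure hcons.compl hmem
  refine hP ?_
  obtain ⟨T, hT⟩ := exists_finset_mem_range b
  let R₁ := Algebra.adjoin Γ(Y, V) (T : Set R')
  haveI : Algebra.FiniteType Γ(Y, V) R₁ := R₁.fg_iff_finiteType.1 ⟨T, rfl⟩
  obtain ⟨b₁, hb₁⟩ := hT R₁ Algebra.subset_adjoin
  let ι : R₁ ⊗[Γ(Y, V)] Γ(X, U) →ₐ[Γ(Y, V)] R' ⊗[Γ(Y, V)] Γ(X, U) :=
    Algebra.TensorProduct.map R₁.val (AlgHom.id _ _)
  let m := Spec.map (CommRingCat.ofHom ι.toRingHom)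
  let k := Spec.map (CommRingCat.ofHom R₁.val.toRingHom)
  let f' := Spec.map (CommRingCat.ofHom (algebraMap R' (R' ⊗[Γ(Y, V)] Γ(X, U))))
  let f₁ := Spec.map (CommRingCat.ofHom (algebraMap R₁ (R₁ ⊗[Γ(Y, V)] Γ(X, U))))
  let a₁ := Spec.map (CommRingCat.ofHom (Algebra.TensorProduct.includeRight :
    Γ(X, U) →ₐ[Γ(Y, V)] R₁ ⊗[Γ(Y, V)] Γ(X, U)).toRingHom)
  have hma : m ≫ a₁ = Spec.map (CommRingCat.ofHom (Algebra.TensorProduct.includeRight :
      Γ(X, U) →ₐ[Γ(Y, V)] R' ⊗[Γ(Y, V)] Γ(X, U)).toRingHom) := by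
    rw [← Spec.map_comp]
    congr 1
  have hm : IsPullback m f' f₁ k := by
    refine IsPullback.of_right ?_ ?_ (isPullback_specTensor Γ(Y, V) R₁ Γ(X, U))
    · rw [hma]
      have : k ≫ Spec.map (CommRingCat.ofHom (algebraMap Γ(Y, V) R₁)) =
          Spec.map (CommRingCat.ofHom (algebraMap Γ(Y, V) R')) := by
        rw [← Spec.map_comp]; rfl
      rw [this]
      exact isPullback_specTensor Γ(Y, V) R' Γ(X, U)
    · rw [← Spec.map_comp, ← Spec.map_comp]
      congr 1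
  have hq₁ : hU.fromSpec (a₁ (m q)) = x := by
    rw [← Scheme.Hom.comp_apply m, hma]
    exact (congrArg hU.fromSpec (PrimeSpectrum.ext hq)).trans (hU.fromSpec_primeIdealOf ⟨x, hxU⟩)
  obtain ⟨w, hw, hwP⟩ := exists_lift_affine f h hV hU hUV R₁ (m q) hq₁ (k P) (by
    rw [show f₁ (m q) = k (f' q) from congr($(hm.w) q)]
    exact hPt.map k.continuous)
  obtain ⟨v, hv, hvP⟩ := Scheme.exists_preimage_of_isPullback hm w P hwP
  refine ⟨v, fun hbv => ?_, hvP⟩
  refine hb (hb₁ ▸ (PrimeSpectrum.le_iff_specializes w (m q)).2 hw ?_)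
  rw [← hv]
  show ι b₁ ∈ (v : PrimeSpectrum (R' ⊗[Γ(Y, V)] Γ(X, U))).asIdeal
  exact hb₁.symm ▸ hbv

end Groth.Agent.Chevalley
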