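import Groth.Agent.Chevalley.Invariant
import Mathlib.RingTheory.ZariskisMainTheorem
import Mathlib.FieldTheory.Normal.Closure
import Mathlib.FieldTheory.PurelyInseparable.Basic
import Mathlib.RingTheory.Invariant.Galois

/-!
# Universal openness of quasi-finite dominant extensions over a radicial base point
-/

set_option autoImplicit false

universe u

open TensorProduct PrimeSpectrum Topology

namespace Groth.Agent.Chevalley

variable {P : Type u} [CommRing P] [IsDomain P] {K N : Type u} [Field K] [Field N] [Algebra P K]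
  [IsFractionRing P K] [Algebra K N] [Algebra P N] [IsScalarTower P K N]

/-- Elements fixed by all automorphisms of a normal extension have a `p`-power in the base. -/
theorem exists_pow_mem_of_fixed [FiniteDimensional K N] [Normal K N] (q : ℕ) [ExpChar K q] (z : N)
    (hz : ∀ σ : N ≃ₐ[K] N, σ z = z) : ∃ n : ℕ, z ^ q ^ n ∈ (algebraMap K N).range := by
  classical
  have hint : IsIntegral K z := IsIntegral.of_finite K z
  have hdeg : (minpoly K z).natSepDegree = 1 := by
    rw [Polynomial.natSepDegree_eq_of_splits (E := N) (minpoly K z) (Normal.splits inferInstance z),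
      Finset.card_eq_one]
    refine ⟨z, Finset.eq_singleton_iff_unique_mem.mpr ⟨?_, fun w hw ↦ ?_⟩⟩
    · rw [Multiset.mem_toFinset, Polynomial.mem_aroots]
      exact ⟨minpoly.ne_zero hint, minpoly.aeval K z⟩
    · rw [Multiset.mem_toFinset, Polynomial.mem_aroots] at hw
      obtain ⟨σ, rfl⟩ := minpoly.exists_algEquiv_of_root' hint.isAlgebraic hw.2
      exact hz σ
  exact (minpoly.natSepDegree_eq_one_iff_pow_mem q).mp hdeg

/-- Radiciality passes from the normalisation to the fixed ring in a normal extension. -/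
theorem radAt_fixed [FiniteDimensional K N] [Normal K N] (p : Ideal P)
    (hp : RadAt P (integralClosure P K) p) :
    RadAt P (FixedPoints.subalgebra P (integralClosure P N) (N ≃ₐ[K] N)) p := by
  intro k _ _ φ ψ heq hker
  let Q := FixedPoints.subalgebra P (integralClosure P N) (N ≃ₐ[K] N)
  obtain ⟨e, he⟩ := ExpChar.exists P
  have : ExpChar K e := expChar_of_injective_ringHom (IsFractionRing.injective P K) e
  let inc : integralClosure P K →ₐ[P] Q :=
    AlgHom.codRestrict (AlgHom.codRestrict ((IsScalarTower.toAlgHom P K N).comp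
      (integralClosure P K).val) (integralClosure P N) fun x ↦ x.2.map (IsScalarTower.toAlgHom P K N))
      Q fun x σ ↦ Subtype.ext (σ.commutes (x : K))
  have hinc : φ.comp inc.toRingHom = ψ.comp inc.toRingHom := by
    refine hp k _ _ ?_ ?_
    · rw [RingHom.comp_assoc, RingHom.comp_assoc, AlgHom.toRingHom_eq_coe, inc.comp_algebraMap]
      exact heq
    · rw [RingHom.comp_assoc, AlgHom.toRingHom_eq_coe, inc.comp_algebraMap]
      exact hker
  refine RingHom.ext fun z ↦ ?_
  obtain ⟨n, c, hc⟩ := exists_pow_mem_of_fixed e ((z : integralClosure P N) : N)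
    fun σ ↦ congrArg Subtype.val (z.2 σ)
  have hcint : IsIntegral P c := by
    rw [← isIntegral_algHom_iff (IsScalarTower.toAlgHom P K N) (RingHom.injective _)]
    show IsIntegral P (algebraMap K N c)
    rw [hc]
    exact (z : integralClosure P N).2.pow _
  have hz : z ^ e ^ n = inc ⟨c, hcint⟩ := Subtype.ext (Subtype.ext hc.symm)
  have heq' : φ z ^ e ^ n = ψ z ^ e ^ n := by
    rw [← map_pow, ← map_pow, hz]
    exact RingHom.congr_fun hinc _
  rcases he with _ | h
  · simpa using heq'
  · have := Fact.mk h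
    have : CharP k e := (CharP.charP_iff_prime_eq_zero h).mpr (by
      rw [← map_natCast (φ.comp (algebraMap P Q)), CharP.cast_eq_zero, map_zero])
    exact iterateFrobenius_inj k e n (by simpa only [iterateFrobenius_def] using heq')

/-- Base changes of a quasi-finite dominant extension of domains are open at points over a prime
with radicial normalisation. -/
theorem image_mem_nhds_quasiFinite (B R : Type u) [CommRing B] [IsDomain B] [Algebra P B]
    [Algebra.FiniteType P B] (hinj : Function.Injective (algebraMap P B)) [CommRing R] [Algebra P R]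
    (q : PrimeSpectrum (R ⊗[P] B))
    (hqf : Algebra.QuasiFiniteAt P
      (q.asIdeal.comap (Algebra.TensorProduct.includeRight : B →ₐ[P] R ⊗[P] B).toRingHom))
    (hrad : RadAt P (integralClosure P K) (q.asIdeal.comap (algebraMap P (R ⊗[P] B))))
    (b : R ⊗[P] B) (hb : b ∉ q.asIdeal) :
    PrimeSpectrum.comap (algebraMap R (R ⊗[P] B)) '' (basicOpen b : Set (PrimeSpectrum (R ⊗[P] B))) ∈
      𝓝 (PrimeSpectrum.comap (algebraMap R (R ⊗[P] B)) q) := by
  classical
  let inclB : B →ₐ[P] R ⊗[P] B := Algebra.TensorProduct.includeRight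
  obtain ⟨r, hr, hrint, hrB⟩ :=
    Algebra.zariskisMainProperty_iff.mp
      (Algebra.ZariskisMainProperty.of_finiteType (R := P) (q.asIdeal.comap inclB.toRingHom))
  have hr0 : r ≠ 0 := fun h ↦ hr (h ▸ Ideal.zero_mem _)
  -- the normal closure of the fraction field
  let L := FractionRing B
  have hPL : Function.Injective (algebraMap P L) := by
    rw [IsScalarTower.algebraMap_eq P B L]; exact (IsFractionRing.injective B L).comp hinj
  let _ : Algebra K L := (IsFractionRing.lift hPL).toAlgebra
  have : IsScalarTower P K L :=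
    IsScalarTower.of_algebraMap_eq fun x ↦ (IsFractionRing.lift_algebraMap hPL x).symm
  obtain ⟨gens, hgens⟩ := (inferInstance : Algebra.FiniteType P B).out
  have hintL : ∀ x : B, IsIntegral K (algebraMap B L x) := fun x ↦ by
    obtain ⟨m, hm⟩ := hrB x
    have h1 : IsIntegral K (algebraMap B L (r ^ m * x)) :=
      (hm.map (IsScalarTower.toAlgHom P B L)).tower_top
    have h2 : IsIntegral K (algebraMap B L r) :=
      (hrint.map (IsScalarTower.toAlgHom P B L)).tower_top
    have h3 : algebraMap B L r ≠ 0 := (map_ne_zero_iff _ (IsFractionRing.injective B L)).mpr hr0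
    have : algebraMap B L x = algebraMap B L (r ^ m * x) * ((algebraMap B L r)⁻¹) ^ m := by
      rw [map_mul, map_pow, inv_pow, mul_comm, ← mul_assoc, inv_mul_cancel₀ (pow_ne_zero _ h3),
        one_mul]
    rw [this]
    exact h1.mul (h2.inv.pow m)
  let F : IntermediateField K L := IntermediateField.adjoin K (algebraMap B L '' (gens : Set B))
  have : FiniteDimensional K F := by
    have : Finite ↥(algebraMap B L '' (gens : Set B)) := (gens.finite_toSet.image _).to_subtype
    exact IntermediateField.finiteDimensional_adjoin fun x ⟨y, _, hy⟩ ↦ hy ▸ hintL y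
  have hFtop : F = ⊤ := by
    refine eq_top_iff.mpr fun z _ ↦ ?_
    have hB : ∀ x : B, algebraMap B L x ∈ F := fun x ↦ by
      have hx : x ∈ Algebra.adjoin P (gens : Set B) := hgens ▸ Algebra.mem_top
      induction hx using Algebra.adjoin_induction with
      | mem y hy => exact IntermediateField.subset_adjoin _ _ ⟨y, hy, rfl⟩
      | algebraMap c =>
        rw [← IsScalarTower.algebraMap_apply, IsScalarTower.algebraMap_apply P K L]
        exact F.algebraMap_mem _
      | add a b _ _ ha hb => rw [map_add]; exact add_mem ha hb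
      | mul a b _ _ ha hb => rw [map_mul]; exact mul_mem ha hb
    obtain ⟨a, c, -, rfl⟩ := IsFractionRing.div_surjective B z
    exact div_mem (hB a) (hB c)
  have : FiniteDimensional K L :=
    Module.Finite.equiv ((IntermediateField.equivOfEq hFtop).trans IntermediateField.topEquiv).toLinearEquiv
  let Ω := AlgebraicClosure L
  let N : IntermediateField K Ω := IntermediateField.normalClosure K L Ω
  let jL : L →ₐ[K] N :=
    (IsScalarTower.toAlgHom K L Ω).codRestrict N.toSubalgebra fun x ↦
      AlgHom.fieldRange_le_normalClosure (IsScalarTower.toAlgHom K L Ω) ⟨x, rfl⟩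
  have : Normal K N := inferInstance
  have : FiniteDimensional K N := inferInstance
  let G := N ≃ₐ[K] N
  let C := integralClosure P N
  let Q := FixedPoints.subalgebra P C G
  let B0 := integralClosure P B
  let j0 : B0 →ₐ[P] C :=
    AlgHom.codRestrict (((jL.restrictScalars P).comp (IsScalarTower.toAlgHom P B L)).comp B0.val) C
      fun x ↦ x.2.map ((jL.restrictScalars P).comp (IsScalarTower.toAlgHom P B L))
  have hj0 : Function.Injective j0 := fun x y h ↦ Subtype.ext
    (IsFractionRing.injective B L (jL.toRingHom.injective (congrArg Subtype.val h)))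
  have hPQ : Function.Injective (algebraMap P Q) := fun x y h ↦ by
    apply IsFractionRing.injective P K
    apply (algebraMap K N).injective
    rw [← IsScalarTower.algebraMap_apply, ← IsScalarTower.algebraMap_apply]
    exact congrArg (fun z : Q ↦ ((z : C) : N)) h
  have hradQ : RadAt P Q (q.asIdeal.comap (algebraMap P (R ⊗[P] B))) := radAt_fixed _ hrad
  have : Algebra.IsInvariant Q C G := ⟨fun x hx ↦ ⟨⟨x, hx⟩, rfl⟩⟩
  -- transfer along `B0`
  let κB : R ⊗[P] B0 →ₐ[R] R ⊗[P] B := Algebra.TensorProduct.map (AlgHom.id R R) B0.val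
  let κC : R ⊗[P] B0 →ₐ[R] R ⊗[P] C := Algebra.TensorProduct.map (AlgHom.id R R) j0
  let r0 : B0 := ⟨r, hrint⟩
  obtain ⟨M, c, hcM⟩ : ∃ (M : ℕ) (c : R ⊗[P] B0), κB c = ((1 : R) ⊗ₜ[P] r) ^ M * b := by
    clear hb
    induction b using TensorProduct.induction_on with
    | zero => exact ⟨0, 0, by simp⟩
    | tmul s x =>
      obtain ⟨m, hm⟩ := hrB x
      exact ⟨m, s ⊗ₜ ⟨r ^ m * x, hm⟩, by simp [κB]⟩
    | add x y hx hy =>
      obtain ⟨m, c, hc⟩ := hx
      obtain ⟨m', c', hc'⟩ := hy
      refine ⟨m + m', (1 ⊗ₜ r0) ^ m' * c + (1 ⊗ₜ r0) ^ m * c', ?_⟩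
      rw [map_add, map_mul, map_mul, hc, hc', map_pow, map_pow]
      simp only [κB, Algebra.TensorProduct.map_tmul, AlgHom.coe_id, id_eq, Subalgebra.coe_val, r0]
      ring
  let c' : R ⊗[P] B0 := c * (1 ⊗ₜ r0)
  have hc' : κB c' = ((1 : R) ⊗ₜ[P] r) ^ (M + 1) * b := by
    rw [map_mul, hcM, pow_succ]
    simp only [κB, Algebra.TensorProduct.map_tmul, AlgHom.coe_id, id_eq, Subalgebra.coe_val, r0]
    ring
  have hrq : (1 : R) ⊗ₜ[P] r ∉ q.asIdeal := hr
  have hc'q : κB c' ∉ q.asIdeal := by
    rw [hc']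
    exact q.2.mul_notMem (fun h ↦ hrq (q.2.mem_of_pow_mem _ h)) hb
  -- a point of `R ⊗ C` over `q`
  obtain ⟨k, _, _, θ, hkθ⟩ := exists_hom_ker q.asIdeal
  let := j0.toRingHom.toAlgebra
  have : IsScalarTower P B0 C := IsScalarTower.of_algebraMap_eq fun x ↦ (j0.commutes x).symm
  have : Algebra.IsIntegral B0 C := Algebra.IsIntegral.tower_top (R := P)
  obtain ⟨ψ, hψ⟩ := exists_hom_extend (P := B0) (Q := C) hj0
    ((θ.comp inclB.toRingHom).comp B0.val.toRingHom)
  let _ := (θ.comp (algebraMap R (R ⊗[P] B))).toAlgebra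
  let _ := (θ.comp (algebraMap P (R ⊗[P] B))).toAlgebra
  have : IsScalarTower P R k := IsScalarTower.of_algebraMap_eq fun x ↦ by
    show θ (algebraMap P (R ⊗[P] B) x) = θ (algebraMap R (R ⊗[P] B) (algebraMap P R x))
    rw [← IsScalarTower.algebraMap_apply]
  let ψ' : C →ₐ[P] k := ⟨ψ, fun x ↦ by
    rw [IsScalarTower.algebraMap_apply P B0 C, RingHom.toFun_eq_coe, ← RingHom.comp_apply ψ, hψ]
    show θ (inclB (B0.val (algebraMap P B0 x))) = θ (algebraMap P (R ⊗[P] B) x)
    rw [AlgHom.commutes, AlgHom.commutes]⟩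
  let Θ : R ⊗[P] C →ₐ[R] k := Algebra.TensorProduct.lift (Algebra.ofId R k) ψ' fun _ _ ↦ .all _ _
  have hΘ : ∀ z, Θ (κC z) = θ (κB z) := fun z ↦ by
    induction z using TensorProduct.induction_on with
    | zero => simp
    | add x y hx hy => simp [map_add, hx, hy]
    | tmul s x =>
      have h1 : ψ (j0 x) = θ (inclB x.1) := RingHom.congr_fun hψ x
      rw [show s ⊗ₜ[P] (x : B0) = algebraMap R _ s * (1 ⊗ₜ x) by simp, map_mul, map_mul, map_mul,
        map_mul, AlgHom.commutes, AlgHom.commutes, AlgHom.commutes]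
      congr 1
      show Θ (κC (1 ⊗ₜ x)) = _
      simp only [κC, κB, Θ, Algebra.TensorProduct.map_tmul, AlgHom.coe_id, id_eq,
        Algebra.TensorProduct.lift_tmul, map_one, one_mul]
      exact h1
  let qC : PrimeSpectrum (R ⊗[P] C) := ⟨RingHom.ker Θ.toRingHom, RingHom.ker_isPrime _⟩
  have hP0 : qC.asIdeal.comap (algebraMap P (R ⊗[P] C)) = q.asIdeal.comap (algebraMap P (R ⊗[P] B)) := by
    rw [← hkθ, RingHom.comap_ker, RingHom.comap_ker]
    exact congrArg RingHom.ker (Θ.restrictScalars P).comp_algebraMap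
  have hmain := image_mem_nhds P Q C R G hPQ Subtype.val_injective qC (hP0.symm ▸ hradQ) (κC c')
    (fun h ↦ hc'q (by
      rw [← hkθ]
      exact (hΘ c').symm.trans h))
  have ht : PrimeSpectrum.comap (algebraMap R (R ⊗[P] C)) qC =
      PrimeSpectrum.comap (algebraMap R (R ⊗[P] B)) q := by
    refine PrimeSpectrum.ext ?_
    show (RingHom.ker Θ.toRingHom).comap _ = q.asIdeal.comap _
    rw [← hkθ, RingHom.comap_ker, RingHom.comap_ker]
    exact congrArg RingHom.ker Θ.comp_algebraMap
  rw [ht] at hmain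
  refine Filter.mem_of_superset hmain ?_
  rintro _ ⟨w, hw, rfl⟩
  -- back to `R ⊗ B`
  obtain ⟨k', _, _, χ, hkχ⟩ := exists_hom_ker w.asIdeal
  let χ0 : R ⊗[P] B0 →+* k' := χ.comp κC.toRingHom
  have hχc : χ0 c' ≠ 0 := fun h ↦ hw (by rw [← hkχ]; exact h)
  let φ0 : B0 →+* k' := χ0.comp (Algebra.TensorProduct.includeRight : B0 →ₐ[P] R ⊗[P] B0).toRingHom
  have hφr : φ0 r0 ≠ 0 := fun h ↦ hχc (by
    show χ0 (c * (1 ⊗ₜ r0)) = 0
    rw [map_mul, show χ0 (1 ⊗ₜ r0) = 0 from h, mul_zero])
  choose m hm using hrB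
  have hval : ∀ (x : B) (n : ℕ) (hn : IsIntegral P (r ^ n * x)),
      φ0 ⟨_, hn⟩ * (φ0 r0)⁻¹ ^ n = φ0 ⟨_, hm x⟩ * (φ0 r0)⁻¹ ^ (m x) := by
    intro x n hn
    have h1 : r0 ^ (m x) * ⟨_, hn⟩ = r0 ^ n * (⟨_, hm x⟩ : B0) := Subtype.ext (by
      show r ^ m x * (r ^ n * x) = r ^ n * (r ^ m x * x)
      ring)
    have h2 := congrArg φ0 h1
    rw [map_mul, map_mul, map_pow, map_pow] at h2
    rw [inv_pow, inv_pow, ← div_eq_mul_inv, ← div_eq_mul_inv,
      div_eq_div_iff (pow_ne_zero _ hφr) (pow_ne_zero _ hφr)]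
    linear_combination h2
  let φB : B →+* k' := RingHom.mk' ⟨⟨fun x ↦ φ0 ⟨_, hm x⟩ * (φ0 r0)⁻¹ ^ (m x), by
      rw [← hval 1 0 (by simpa using isIntegral_one)]
      simp only [pow_zero, mul_one]
      exact (congrArg φ0 (Subtype.ext (by simp) : (⟨_, _⟩ : B0) = 1)).trans (map_one φ0)⟩,
    fun x y ↦ by
      have hn : IsIntegral P (r ^ (m x + m y) * (x * y)) := by
        rw [show r ^ (m x + m y) * (x * y) = (r ^ m x * x) * (r ^ m y * y) by ring]
        exact (hm x).mul (hm y)
      show φ0 ⟨_, hm (x * y)⟩ * _ = _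
      rw [← hval (x * y) _ hn, show (⟨_, hn⟩ : B0) = ⟨_, hm x⟩ * ⟨_, hm y⟩ from Subtype.ext
        (by show r ^ (m x + m y) * (x * y) = (r ^ m x * x) * (r ^ m y * y); ring), map_mul, pow_add]
      ring⟩ fun x y ↦ by
      have hx : IsIntegral P (r ^ (m x + m y) * x) := by
        rw [show r ^ (m x + m y) * x = r ^ m y * (r ^ m x * x) by ring]
        exact (hrint.pow _).mul (hm x)
      have hy : IsIntegral P (r ^ (m x + m y) * y) := by
        rw [show r ^ (m x + m y) * y = r ^ m x * (r ^ m y * y) by ring]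
        exact (hrint.pow _).mul (hm y)
      have hn : IsIntegral P (r ^ (m x + m y) * (x + y)) := by
        rw [mul_add]; exact hx.add hy
      show φ0 ⟨_, hm (x + y)⟩ * _ = φ0 ⟨_, hm x⟩ * _ + φ0 ⟨_, hm y⟩ * _
      rw [← hval (x + y) _ hn, ← hval x _ hx, ← hval y _ hy, ← add_mul, ← map_add]
      congr 2
      exact Subtype.ext (mul_add _ _ _)
  have hφB : ∀ y : B0, φB y.1 = φ0 y := fun y ↦ by
    show φ0 ⟨_, hm y.1⟩ * _ = _
    have hn : IsIntegral P (r ^ 0 * y.1) := by
      have h := y.2
      simp only [pow_zero, one_mul]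
      exact h
    rw [← hval y.1 0 hn]
    refine (congrArg (φ0 ⟨_, hn⟩ * ·) (pow_zero _)).trans ((mul_one _).trans ?_)
    congr 1
    exact Subtype.ext (by simp)
  let _ := (χ.comp (algebraMap R (R ⊗[P] C))).toAlgebra
  let _ := (χ.comp (algebraMap P (R ⊗[P] C))).toAlgebra
  have : IsScalarTower P R k' := IsScalarTower.of_algebraMap_eq fun x ↦ by
    show χ (algebraMap P (R ⊗[P] C) x) = χ (algebraMap R (R ⊗[P] C) (algebraMap P R x))
    rw [← IsScalarTower.algebraMap_apply]
  let φB' : B →ₐ[P] k' := ⟨φB, fun x ↦ by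
    rw [RingHom.toFun_eq_coe, show algebraMap P B x = (algebraMap P B0 x : B0).1 from rfl, hφB]
    show χ (κC ((Algebra.TensorProduct.includeRight : B0 →ₐ[P] R ⊗[P] B0) (algebraMap P B0 x))) = _
    rw [AlgHom.commutes]
    exact congrArg χ ((κC.restrictScalars P).commutes x)⟩
  let X : R ⊗[P] B →ₐ[R] k' := Algebra.TensorProduct.lift (Algebra.ofId R k') φB' fun _ _ ↦ .all _ _
  have hX : ∀ z, X (κB z) = χ0 z := fun z ↦ by
    induction z using TensorProduct.induction_on with
    | zero => simp
    | add x y hx hy => simp [map_add, hx, hy]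
    | tmul s x =>
      rw [show s ⊗ₜ[P] (x : B0) = algebraMap R _ s * (1 ⊗ₜ x) by simp, map_mul, map_mul, map_mul]
      congr 1
      · rw [AlgHom.commutes, AlgHom.commutes]
        show _ = χ (κC (algebraMap R _ s))
        rw [AlgHom.commutes]
        rfl
      · show X (κB (1 ⊗ₜ x)) = _
        simp only [κB, X, Algebra.TensorProduct.map_tmul, AlgHom.coe_id, id_eq,
          Algebra.TensorProduct.lift_tmul, map_one, one_mul]
        exact hφB x
  refine ⟨⟨RingHom.ker X.toRingHom, RingHom.ker_isPrime _⟩, fun h ↦ hχc ?_, PrimeSpectrum.ext ?_⟩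
  · rw [← hX, hc', map_mul, show X b = 0 from h, mul_zero]
  · show (RingHom.ker X.toRingHom).comap _ = w.asIdeal.comap _
    rw [← hkχ, RingHom.comap_ker, RingHom.comap_ker]
    exact congrArg RingHom.ker X.comp_algebraMap

end Groth.Agent.Chevalley
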