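import Groth.Agent.Chevalley.Component
import Groth.Agent.EquidimChart.Crit
import Groth.Prelude.Def_EGA43

/-!
# Chevalley's openness criterion
-/

set_option autoImplicit false
set_option linter.style.haveILetI false

universe u

open CategoryTheory CategoryTheory.Limits AlgebraicGeometry TopologicalSpace Topology TensorProduct
open Groth.Agent.DimTheory

namespace Groth.Agent.Chevalley

set_option backward.isDefEq.respectTransparency false in
/-- Universal openness at a point can be tested on affine charts. -/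
theorem isUnivOpenAt_of_affine {X Y : Scheme.{u}} (f : X ⟶ Y) (x : X) (V : Y.Opens)
    (hV : IsAffineOpen V) (U : X.Opens) (hU : IsAffineOpen U) (hUV : U ≤ f ⁻¹ᵁ V) (hxU : x ∈ U)
    (H : letI := (f.appLE V U hUV).hom.toAlgebra
      ∀ (R' : Type u) [CommRing R'] [Algebra Γ(Y, V) R']
        (q : PrimeSpectrum (R' ⊗[Γ(Y, V)] Γ(X, U))),
        q.asIdeal.comap (Algebra.TensorProduct.includeRight :
            Γ(X, U) →ₐ[Γ(Y, V)] R' ⊗[Γ(Y, V)] Γ(X, U)).toRingHom =
          (hU.primeIdealOf ⟨x, hxU⟩).asIdeal →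
        ∀ b ∉ q.asIdeal, PrimeSpectrum.comap (algebraMap R' (R' ⊗[Γ(Y, V)] Γ(X, U))) ''
          (PrimeSpectrum.basicOpen b : Set (PrimeSpectrum (R' ⊗[Γ(Y, V)] Γ(X, U)))) ∈
            𝓝 (PrimeSpectrum.comap (algebraMap R' (R' ⊗[Γ(Y, V)] Γ(X, U))) q)) :
    EGA43.IsUnivOpenAt f x := by
  let φf := f.appLE V U hUV
  let _ := φf.hom.toAlgebra
  intro Y' g x' hx' N hN
  set y' := pullback.snd f g x' with hy'
  have hgy : g y' ∈ V := by
    rw [hy', ← Scheme.Hom.comp_apply, ← pullback.condition, Scheme.Hom.comp_apply, hx']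
    exact hUV hxU
  obtain ⟨W, hW, hy'W, hWle⟩ := exists_isAffineOpen_mem_and_subset (X := Y') (U := g ⁻¹ᵁ V) hgy
  let φg := g.appLE V W hWle
  let R' := Γ(Y', W)
  let _ := φg.hom.toAlgebra
  let T : CommRingCat.{u} := .of (R' ⊗[Γ(Y, V)] Γ(X, U))
  let e₁ : Spec T ≅ pullback (Spec.map φf) (Spec.map φg) :=
    (pullbackSpecIso _ _ _).symm ≪≫ pullbackSymmetry _ _
  have he₁ : e₁.hom ≫ pullback.fst _ _ =
      Spec.map (CommRingCat.ofHom Algebra.TensorProduct.includeRight.toRingHom) := by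
    dsimp [e₁, T, R', RingHom.algebraMap_toAlgebra]
    rw [Category.assoc, pullbackSymmetry_hom_comp_fst]
    exact pullbackSpecIso_inv_snd ..
  have he₂ : e₁.hom ≫ pullback.snd _ _ =
      Spec.map (CommRingCat.ofHom (algebraMap R' (R' ⊗[Γ(Y, V)] Γ(X, U)))) := by
    dsimp [e₁, T, R', RingHom.algebraMap_toAlgebra]
    rw [Category.assoc, pullbackSymmetry_hom_comp_snd]
    exact pullbackSpecIso_inv_fst ..
  let m : Spec T ⟶ pullback f g :=
    e₁.hom ≫ pullback.map _ _ _ _ hU.fromSpec hW.fromSpec hV.fromSpec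
      (IsAffineOpen.SpecMap_appLE_fromSpec ..) (IsAffineOpen.SpecMap_appLE_fromSpec ..)
  have hm₁ : m ≫ pullback.fst _ _ =
      Spec.map (CommRingCat.ofHom Algebra.TensorProduct.includeRight.toRingHom) ≫ hU.fromSpec := by
    simp [m, reassoc_of% he₁]
  have hm₂ : m ≫ pullback.snd _ _ =
      Spec.map (CommRingCat.ofHom (algebraMap R' (R' ⊗[Γ(Y, V)] Γ(X, U)))) ≫ hW.fromSpec := by
    simp [m, reassoc_of% he₂]
  have : IsOpenImmersion m := by dsimp only [m]; infer_instance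
  obtain ⟨p, hp⟩ : x' ∈ Set.range m := by
    obtain ⟨u, hu⟩ : x ∈ Set.range hU.fromSpec := by rw [hU.range_fromSpec]; exact hxU
    obtain ⟨w, hw⟩ : y' ∈ Set.range hW.fromSpec := by rw [hW.range_fromSpec]; exact hy'W
    have hr : Set.range m = Set.range (pullback.map (Spec.map φf) (Spec.map φg) f g hU.fromSpec
        hW.fromSpec hV.fromSpec (IsAffineOpen.SpecMap_appLE_fromSpec ..)
        (IsAffineOpen.SpecMap_appLE_fromSpec ..)) := by
      show Set.range (e₁.hom ≫ _).base = _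
      rw [Scheme.Hom.comp_base, TopCat.coe_comp,
        Set.range_comp, Set.range_eq_univ.mpr e₁.hom.surjective, Set.image_univ]
    rw [hr, Scheme.Pullback.range_map]
    exact ⟨⟨u, hu.trans hx'.symm⟩, ⟨w, hw⟩⟩
  have hq : (p : PrimeSpectrum (R' ⊗[Γ(Y, V)] Γ(X, U))).asIdeal.comap
      (Algebra.TensorProduct.includeRight :
        Γ(X, U) →ₐ[Γ(Y, V)] R' ⊗[Γ(Y, V)] Γ(X, U)).toRingHom =
      (hU.primeIdealOf ⟨x, hxU⟩).asIdeal := by
    refine congrArg PrimeSpectrum.asIdeal (hU.fromSpec.isOpenEmbedding.injective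
      (a₁ := (Spec.map (CommRingCat.ofHom
        (Algebra.TensorProduct.includeRight : Γ(X, U) →ₐ[Γ(Y, V)] R' ⊗[Γ(Y, V)] Γ(X, U)).toRingHom)) p) ?_)
    rw [hU.fromSpec_primeIdealOf]
    refine ((Scheme.Hom.comp_apply _ _ _).symm.trans (congrArg (fun h ↦ h p) hm₁.symm)).trans ?_
    show pullback.fst f g (m p) = x
    rw [hp]; exact hx'
  obtain ⟨O, ⟨b, rfl⟩, hpO, hON⟩ := PrimeSpectrum.isTopologicalBasis_basic_opens.mem_nhds_iff.mp
    (m.continuous.continuousAt.preimage_mem_nhds (by rw [hp]; exact hN) :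
      m ⁻¹' N ∈ 𝓝 (p : PrimeSpectrum (R' ⊗[Γ(Y, V)] Γ(X, U))))
  have h1 := H R' p hq b hpO
  have h2 := hW.fromSpec.isOpenEmbedding.isOpenMap.image_mem_nhds h1
  have hsnd : ∀ w : PrimeSpectrum (R' ⊗[Γ(Y, V)] Γ(X, U)),
      hW.fromSpec (PrimeSpectrum.comap (algebraMap R' _) w) = pullback.snd f g (m w) := fun w ↦ by
    rw [← Scheme.Hom.comp_apply, hm₂, Scheme.Hom.comp_apply]
    rfl
  erw [hsnd p, hp] at h2
  refine Filter.mem_of_superset h2 ?_
  rintro _ ⟨_, ⟨w, hw, rfl⟩, rfl⟩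
  exact ⟨m w, hON hw, (hsnd w).symm⟩

/-- A geometrically unibranch point gives radiciality of the component through it. -/
theorem exists_radAt_of_stalk {Y : Scheme.{u}} {V : Y.Opens} (hV : IsAffineOpen V) {y η : Y}
    (hyV : y ∈ V) (hηV : η ∈ V) (hηy : η ⤳ y) (hη : ∀ w : Y, w ⤳ η → w = η)
    (hgeom : CAlg2.IsGeomUnibranch (Y.presheaf.stalk y)) :
    let p0 := (hV.primeIdealOf ⟨η, hηV⟩).asIdeal
    ∃ (K0 : Type u) (_ : Field K0) (_ : Algebra (Γ(Y, V) ⧸ p0) K0)
      (_ : IsFractionRing (Γ(Y, V) ⧸ p0) K0),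
      RadAt (Γ(Y, V) ⧸ p0) (integralClosure (Γ(Y, V) ⧸ p0) K0)
        ((hV.primeIdealOf ⟨y, hyV⟩).asIdeal.map (Ideal.Quotient.mk p0)) := by
  intro p0
  let p := (hV.primeIdealOf ⟨y, hyV⟩).asIdeal
  let A := Y.presheaf.stalk y
  let _ : Algebra Γ(Y, V) A := Y.presheaf.algebra_section_stalk ⟨y, hyV⟩
  have : IsLocalization.AtPrime A p := hV.isLocalization_stalk ⟨y, hyV⟩
  have hdom : IsDomain (CAlg2.red A) := hgeom.1.1
  have hnp : (nilradical A).IsPrime := (Ideal.Quotient.isDomain_iff_prime _).mp hdom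
  have hle : p0 ≤ p := by
    refine (PrimeSpectrum.le_iff_specializes (hV.primeIdealOf ⟨η, hηV⟩)
      (hV.primeIdealOf ⟨y, hyV⟩)).mpr (hV.fromSpec.isOpenEmbedding.isInducing.specializes_iff.mp ?_)
    rw [hV.fromSpec_primeIdealOf, hV.fromSpec_primeIdealOf]
    exact hηy
  have hmin : ∀ P : Ideal Γ(Y, V), P.IsPrime → P ≤ p0 → P = p0 := by
    intro P hP hPle
    have h1 : (⟨P, hP⟩ : PrimeSpectrum Γ(Y, V)) ⤳ hV.primeIdealOf ⟨η, hηV⟩ :=
      (PrimeSpectrum.le_iff_specializes _ _).mp hPle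
    have h2 := hη _ (hV.fromSpec_primeIdealOf ⟨η, hηV⟩ ▸ h1.map hV.fromSpec.continuous)
    exact congrArg PrimeSpectrum.asIdeal (hV.fromSpec.isOpenEmbedding.injective
      (h2.trans (hV.fromSpec_primeIdealOf ⟨η, hηV⟩).symm))
  have hdisj : Disjoint (p.primeCompl : Set Γ(Y, V)) (p0 : Set Γ(Y, V)) :=
    Set.disjoint_left.mpr fun a ha ha' ↦ ha (hle ha')
  have hker : (nilradical A).comap (algebraMap Γ(Y, V) A) = p0 := by
    refine hmin _ inferInstance ?_
    have hprime : (p0.map (algebraMap Γ(Y, V) A)).IsPrime :=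
      IsLocalization.isPrime_of_isPrime_disjoint p.primeCompl A p0 inferInstance hdisj
    refine (Ideal.comap_mono (nilradical_le_prime (p0.map (algebraMap Γ(Y, V) A)))).trans_eq ?_
    exact IsLocalization.comap_map_of_isPrime_disjoint p.primeCompl A inferInstance hdisj
  let R0 := Γ(Y, V) ⧸ p0
  let ι : R0 →+* CAlg2.red A :=
    Ideal.quotientMap (nilradical A) (algebraMap Γ(Y, V) A) hker.ge
  have hι : Function.Injective ι := Ideal.quotientMap_injective' hker.le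
  let _ := ι.toAlgebra
  let M : Submonoid R0 := p.primeCompl.map (Ideal.Quotient.mk p0).toMonoidHom
  have : IsLocalization M (CAlg2.red A) := by
    refine ⟨⟨?_, ?_, ?_⟩⟩
    · rintro ⟨_, s, hs, rfl⟩
      exact ((IsLocalization.map_units A (⟨s, hs⟩ : p.primeCompl)).map
        (Ideal.Quotient.mk (nilradical A)) :)
    · intro z
      obtain ⟨z, rfl⟩ := Ideal.Quotient.mk_surjective z
      obtain ⟨⟨r, s⟩, hrs⟩ := IsLocalization.surj p.primeCompl z
      exact ⟨⟨Ideal.Quotient.mk p0 r, ⟨_, s, s.2, rfl⟩⟩,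
        (map_mul (Ideal.Quotient.mk (nilradical A)) _ _).symm.trans
          (congrArg (Ideal.Quotient.mk (nilradical A)) hrs)⟩
    · intro a b hab
      exact ⟨1, by rw [hι hab]⟩
  let K0 := FractionRing (CAlg2.red A)
  have hK0 : Function.Injective (algebraMap R0 K0) := by
    rw [IsScalarTower.algebraMap_eq R0 (CAlg2.red A) K0]
    exact (IsFractionRing.injective (CAlg2.red A) K0).comp hι
  have : FaithfulSMul R0 K0 := (faithfulSMul_iff_algebraMap_injective _ _).mpr hK0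
  have hfr : IsFractionRing R0 K0 := IsFractionRing.of_field _ _ fun z ↦ by
    obtain ⟨a, b, hb, rfl⟩ := IsFractionRing.div_surjective (CAlg2.red A) z
    have hb0 : algebraMap (CAlg2.red A) K0 b ≠ 0 :=
      (map_ne_zero_iff _ (IsFractionRing.injective (CAlg2.red A) K0)).mpr
        (nonZeroDivisors.ne_zero hb)
    obtain ⟨⟨r, s⟩, hr⟩ := IsLocalization.surj M a
    obtain ⟨⟨r', s'⟩, hr'⟩ := IsLocalization.surj M b
    have hs : algebraMap R0 K0 (s : R0) ≠ 0 :=
      (((IsLocalization.map_units (CAlg2.red A) s)).map (algebraMap _ K0)).ne_zero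
    have hs' : algebraMap R0 K0 (s' : R0) ≠ 0 :=
      (((IsLocalization.map_units (CAlg2.red A) s')).map (algebraMap _ K0)).ne_zero
    refine ⟨r * (s' : R0), r' * (s : R0), ?_⟩
    have e1 := congrArg (algebraMap (CAlg2.red A) K0) hr
    have e2 := congrArg (algebraMap (CAlg2.red A) K0) hr'
    simp only [map_mul, ← IsScalarTower.algebraMap_apply] at e1 e2
    rw [map_mul, map_mul, ← e1, ← e2, div_eq_div_iff hb0 (mul_ne_zero (mul_ne_zero hb0 hs') hs)]
    ring
  refine ⟨K0, inferInstance, inferInstance, hfr, ?_⟩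
  have hmax : ((IsLocalRing.maximalIdeal A).map (Ideal.Quotient.mk (nilradical A))).IsMaximal :=
    (IsLocalRing.maximalIdeal.isMaximal A).map_of_surjective_of_ker_le Ideal.Quotient.mk_surjective
      (by rw [Ideal.mk_ker]; exact nilradical_le_prime _)
  have hnorm : CAlg2.normRed A = integralClosure (CAlg2.red A) K0 := rfl
  refine radAt_of_localization M _
    ((IsLocalRing.maximalIdeal A).map (Ideal.Quotient.mk (nilradical A))) ?_ ?_ ?_
    (radAt_of_isGeomUnibranch A hgeom _ hmax)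
  · have hne : (p.map (Ideal.Quotient.mk p0)).IsPrime :=
      Ideal.map_isPrime_of_surjective Ideal.Quotient.mk_surjective (by rw [Ideal.mk_ker]; exact hle)
    refine Ideal.comap_injective_of_surjective (Ideal.Quotient.mk p0) Ideal.Quotient.mk_surjective ?_
    rw [Ideal.comap_comap, Ideal.comap_map_of_surjective' _ Ideal.Quotient.mk_surjective,
      Ideal.mk_ker, sup_eq_left.mpr hle,
      show (algebraMap R0 (CAlg2.red A)).comp (Ideal.Quotient.mk p0) =
        (Ideal.Quotient.mk (nilradical A)).comp (algebraMap Γ(Y, V) A) from rfl,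
      ← Ideal.comap_comap, Ideal.comap_map_of_surjective' _ Ideal.Quotient.mk_surjective,
      Ideal.mk_ker, sup_eq_left.mpr (nilradical_le_prime _)]
    exact IsLocalization.AtPrime.comap_maximalIdeal A p
  · rw [Set.disjoint_left]
    rintro _ ⟨a, ha, rfl⟩ hmem
    refine ha ?_
    have : a ∈ (p.map (Ideal.Quotient.mk p0)).comap (Ideal.Quotient.mk p0) := hmem
    rwa [Ideal.comap_map_of_surjective' _ Ideal.Quotient.mk_surjective, Ideal.mk_ker,
      sup_eq_left.mpr hle] at this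
  · rw [Ideal.map_map,
      show (algebraMap R0 (CAlg2.red A)).comp (Ideal.Quotient.mk p0) =
        (Ideal.Quotient.mk (nilradical A)).comp (algebraMap Γ(Y, V) A) from rfl,
      ← Ideal.map_map, IsLocalization.AtPrime.map_eq_maximalIdeal p A]

open EquidimChart in
set_option backward.isDefEq.respectTransparency false in
/-- **Chevalley's criterion**: a component dominating a component of the base with the same fibre
dimension makes the morphism universally open at geometrically unibranch points. -/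
theorem isUnivOpenAt_of_generic {X Y : Scheme.{u}} (f : X ⟶ Y) [LocallyOfFiniteType f] (x ξ : X)
    (hξ : ξ ⤳ x) (hη : ∀ w : Y, w ⤳ f ξ → w = f ξ) (hnhd : closure {f ξ} ∈ 𝓝 (f x)) (e : ℕ)
    (he : mapTrdeg f ξ = e) (hx : FlatMor.fibreDimAt f x ≤ (e : WithBot ℕ∞))
    (hgeom : CAlg2.IsGeomUnibranch (Y.presheaf.stalk (f x))) :
    EGA43.IsUnivOpenAt f x := by
  obtain ⟨W0, hW0, hW0o, hyW0⟩ := mem_nhds_iff.mp hnhd
  obtain ⟨V, hV, hyV, hVW⟩ :=
    exists_isAffineOpen_mem_and_subset (X := Y) (U := ⟨W0, hW0o⟩) (x := f x) hyW0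
  obtain ⟨-, n, -, -, -, hn⟩ := exists_fibreMax f x
  obtain ⟨U0, g0, hxU0, hU0V, hg0, hqf0⟩ := exists_chart f x (f ⁻¹ᵁ V) hyV n hn
  obtain ⟨U, hU, hxU, hUle⟩ := exists_isAffineOpen_mem_and_subset (X := X) (U := U0) hxU0
  have hUV : U ≤ f ⁻¹ᵁ V := fun w hw ↦ hU0V (hUle hw)
  let σ := ULift.{u} (Fin n)
  let φf := f.appLE V U hUV
  let _ := φf.hom.toAlgebra
  have hξU : ξ ∈ U := hξ.mem_open U.2 hxU
  have hηV : f ξ ∈ V := hUV hξU
  -- the chart on rings
  let gS : Spec Γ(X, U) ⟶ 𝔸(σ; Y) := hU.isoSpec.inv ≫ X.homOfLE hUle ≫ g0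
  have hgS : gS ≫ (𝔸(σ; Y) ↘ Y) = Spec.map φf ≫ hV.fromSpec := by
    simp only [gS, Category.assoc]
    rw [hg0, ← Category.assoc (X.homOfLE hUle), Scheme.homOfLE_ι,
      IsAffineOpen.SpecMap_appLE_fromSpec f hV hU hUV, ← hU.isoSpec_inv_ι, Category.assoc]
  let j : Spec Γ(X, U) ⟶ Spec (.of (MvPolynomial σ Γ(Y, V))) :=
    (AffineSpace.isPullback_map (n := σ) hV.fromSpec).lift gS (Spec.map φf) hgS ≫
      (AffineSpace.SpecIso σ Γ(Y, V)).hom
  obtain ⟨ψ0, hψ0⟩ := Spec.map_surjective j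
  have hjY : j ≫ (AffineSpace.SpecIso σ Γ(Y, V)).inv ≫ AffineSpace.map σ hV.fromSpec = gS := by
    simp [j]
  have hψC : CommRingCat.ofHom MvPolynomial.C ≫ ψ0 = φf := by
    apply Spec.map_injective
    rw [Spec.map_comp, hψ0]
    simp only [j, Category.assoc]
    rw [← AffineSpace.SpecIso_inv_over, Iso.hom_inv_id_assoc, IsPullback.lift_snd]
  let ψ : MvPolynomial σ Γ(Y, V) →ₐ[Γ(Y, V)] Γ(X, U) :=
    ⟨ψ0.hom, fun r ↦ ConcreteCategory.congr_hom hψC r⟩
  have hqf : ψ.toRingHom.QuasiFinite := by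
    have h1 : LocallyQuasiFinite gS := by
      have : LocallyQuasiFinite g0 := hqf0
      dsimp only [gS]; infer_instance
    have h2 : LocallyQuasiFinite (j ≫ (AffineSpace.SpecIso σ Γ(Y, V)).inv ≫
        AffineSpace.map σ hV.fromSpec) := by rw [hjY]; exact h1
    have h3 : LocallyQuasiFinite j := LocallyQuasiFinite.of_comp j
      ((AffineSpace.SpecIso σ Γ(Y, V)).inv ≫ AffineSpace.map σ hV.fromSpec)
    rw [← hψ0] at h3
    exact (HasRingHomProperty.Spec_iff (P := @LocallyQuasiFinite)).1 h3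
  have : Algebra.FiniteType Γ(Y, V) Γ(X, U) := f.finiteType_appLE hV hU hUV
  let q0 := hU.primeIdealOf ⟨ξ, hξU⟩
  let qx := hU.primeIdealOf ⟨x, hxU⟩
  let p0 := (hV.primeIdealOf ⟨f ξ, hηV⟩).asIdeal
  have hcomap : ∀ (w : X) (hw : w ∈ U) (hfw : f w ∈ V),
      (hU.primeIdealOf ⟨w, hw⟩).asIdeal.comap (algebraMap Γ(Y, V) Γ(X, U)) =
        (hV.primeIdealOf ⟨f w, hfw⟩).asIdeal := fun w hw hfw ↦ by
    refine congrArg PrimeSpectrum.asIdeal (hV.fromSpec.isOpenEmbedding.injective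
      (a₁ := (Spec.map φf) (hU.primeIdealOf ⟨w, hw⟩)) ?_)
    rw [hV.fromSpec_primeIdealOf, ← Scheme.Hom.comp_apply,
      IsAffineOpen.SpecMap_appLE_fromSpec f hV hU hUV, Scheme.Hom.comp_apply,
      hU.fromSpec_primeIdealOf]
  -- the generic point of the chart is maximal
  let ζ : (U0 : Scheme.{u}) := ⟨ξ, hUle hξU⟩
  have hgSq : gS q0 = g0 ζ := by
    show (hU.isoSpec.inv ≫ X.homOfLE hUle ≫ g0) q0 = _
    rw [Scheme.Hom.comp_apply, Scheme.Hom.comp_apply]
    congr 1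
    apply U0.ι.isOpenEmbedding.injective
    rw [← Scheme.Hom.comp_apply, Scheme.homOfLE_ι, ← Scheme.Hom.comp_apply, hU.isoSpec_inv_ι,
      hU.fromSpec_primeIdealOf]
    rfl
  have hover : (𝔸(σ; Y) ↘ Y) (g0 ζ) = f ξ := congr($hg0 ζ)
  have hzmax : ∀ w, w ⤳ g0 ζ → w = g0 ζ := by
    have : LocallyOfFiniteType (g0 ≫ (𝔸(σ; Y) ↘ Y)) := by rw [hg0]; infer_instance
    have : LocallyOfFiniteType g0 := locallyOfFiniteType_of_comp g0 (𝔸(σ; Y) ↘ Y)
    have : LocallyQuasiFinite g0 := hqf0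
    have h1 := FlatEquidim.mapTrdeg_comp g0 (𝔸(σ; Y) ↘ Y) ζ
    rw [hg0, mapTrdeg_restrict, show mapTrdeg g0 ζ = 0 from AlgSpDesc.resTrdeg_eq_zero_of_lqf g0 ζ,
      add_zero] at h1
    obtain ⟨k, hk, hkn⟩ := mapTrdeg_le Y n (g0 ζ)
    obtain rfl : e = k := Nat.cast_injective (R := Cardinal.{u}) ((he.symm.trans h1).trans hk)
    have hne : n ≤ e := by rw [hn] at hx; exact_mod_cast hx
    refine (isMax_iff Y n (g0 ζ)).2 ⟨by rw [hover]; exact hη, ?_⟩
    rw [hk, le_antisymm hkn hne]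
  have h0 : q0.asIdeal.comap ψ.toRingHom = p0.map MvPolynomial.C := by
    have : p0.IsPrime := inferInstanceAs (hV.primeIdealOf _).asIdeal.IsPrime
    have hp : (p0.map (MvPolynomial.C (R := Γ(Y, V)) (σ := σ))).IsPrime :=
      by
        have := RingHom.ker_isPrime (MvPolynomial.map (σ := σ) (Ideal.Quotient.mk p0))
        rwa [MvPolynomial.ker_map, Ideal.mk_ker] at this
    have hle : p0.map MvPolynomial.C ≤ q0.asIdeal.comap ψ.toRingHom := by
      refine Ideal.map_le_iff_le_comap.mpr fun a ha ↦ ?_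
      show ψ (MvPolynomial.C a) ∈ q0.asIdeal
      rw [← MvPolynomial.algebraMap_eq, ψ.commutes]
      rw [show p0 = _ from (hcomap ξ hξU hηV).symm] at ha
      exact ha
    have hspec : (⟨_, hp⟩ : PrimeSpectrum (MvPolynomial σ Γ(Y, V))) ⤳ j q0 := by
      refine (PrimeSpectrum.le_iff_specializes _ _).mp ?_
      rw [← hψ0]
      exact hle
    let j' := (AffineSpace.SpecIso σ Γ(Y, V)).inv ≫ AffineSpace.map σ hV.fromSpec
    have : IsOpenImmersion (AffineSpace.map σ hV.fromSpec) :=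
      MorphismProperty.of_isPullback (AffineSpace.isPullback_map hV.fromSpec).flip hV.isOpenImmersion_fromSpec
    have hj' : j' (j q0) = g0 ζ := by
      rw [← hgSq, ← hjY]
      rfl
    have h2 := hzmax _ (hj' ▸ hspec.map j'.continuous)
    have h3 := j'.isOpenEmbedding.injective (h2.trans hj'.symm)
    rw [← hψ0] at h3
    exact (congrArg PrimeSpectrum.asIdeal h3).symm
  obtain ⟨s, hs, hsV⟩ : ∃ s : Γ(Y, V), s ∉ (hV.primeIdealOf ⟨f x, hyV⟩).asIdeal ∧
      ∀ p : Ideal Γ(Y, V), p.IsPrime → s ∉ p → p0 ≤ p := by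
    refine ⟨1, fun h ↦ (hV.primeIdealOf ⟨f x, hyV⟩).2.ne_top ((Ideal.eq_top_iff_one _).mpr h),
      fun p hp _ ↦ ?_⟩
    refine (PrimeSpectrum.le_iff_specializes (hV.primeIdealOf ⟨f ξ, hηV⟩) ⟨p, hp⟩).mpr
      (hV.fromSpec.isOpenEmbedding.isInducing.specializes_iff.mp ?_)
    rw [hV.fromSpec_primeIdealOf]
    exact specializes_iff_mem_closure.mpr (hW0 (hVW (hV.range_fromSpec.le ⟨_, rfl⟩)))
  obtain ⟨K0, _, _, _, hK0⟩ := exists_radAt_of_stalk hV hyV hηV (hξ.map f.continuous) hη hgeom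
  refine isUnivOpenAt_of_affine f x V hV U hU hUV hxU ?_
  intro R' _ _ q hq b hb
  have : p0.IsPrime := inferInstanceAs (hV.primeIdealOf _).asIdeal.IsPrime
  refine image_mem_nhds_chart (K0 := K0) ψ hqf p0 q0.asIdeal h0 qx.asIdeal ?_ ?_ s ?_ hsV R' q hq b hb
  · refine (PrimeSpectrum.le_iff_specializes q0 qx).mpr
      (hU.fromSpec.isOpenEmbedding.isInducing.specializes_iff.mp ?_)
    rw [hU.fromSpec_primeIdealOf, hU.fromSpec_primeIdealOf]
    exact hξ
  · rw [hcomap x hxU hyV]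
    exact hK0
  · rw [hcomap x hxU hyV]
    exact hs

end Groth.Agent.Chevalley
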