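import Groth.Agent.Chevalley.Equiv
import Groth.Agent.EquidimChart.Section
import Groth.Prelude.Def_FDesc

/-!
# Dimension of the connected components of the fibres along a section
-/

set_option autoImplicit false
set_option linter.style.haveILetI false
set_option backward.isDefEq.respectTransparency.types false

universe u

open CategoryTheory CategoryTheory.Limits AlgebraicGeometry TopologicalSpace Topology
open Groth.Agent.DimTheory Groth.Agent.EquidimChart

namespace Groth.Agent.Chevalley

variable {X Y : Scheme.{u}}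

theorem exists_mapTrdeg (f : X ⟶ Y) [LocallyOfFiniteType f] (z : X) : ∃ n : ℕ, mapTrdeg f z = n := by
  obtain ⟨n, hn, -⟩ := height_asFiber f z
  exact ⟨n, hn⟩

theorem topologicalKrullDim_mono {S T : Set X} (h : S ⊆ T) :
    topologicalKrullDim ↥S ≤ topologicalKrullDim ↥T :=
  (IsEmbedding.inclusion h).isInducing.topologicalKrullDim_le

/-- A specialization inside a fibre between points of the same transcendence degree is trivial. -/
theorem eq_of_specializes_of_trdeg (f : X ⟶ Y) [LocallyOfFiniteType f] {a b : X} (h : a ⤳ b) (hf : f a = f b)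
    {n : ℕ} (ha : mapTrdeg f a = n) (hb : mapTrdeg f b = n) : a = b := by
  haveI : LocallyOfFiniteType (f.fiberToSpecResidueField (f b)) := MorphismProperty.pullback_snd _ _ ‹_›
  obtain ⟨a', ha'⟩ : a ∈ Set.range (f.fiberι (f b)) := by rw [f.range_fiberι]; exact hf
  obtain ⟨b', hb'⟩ : b ∈ Set.range (f.fiberι (f b)) := by rw [f.range_fiberι]; rfl
  obtain ⟨p, hp, hp'⟩ := exists_height_eq (k := Y.residueField (f b)) (f.fiberToSpecResidueField (f b)) a'
  obtain ⟨q, hq, hq'⟩ := exists_height_eq (k := Y.residueField (f b)) (f.fiberToSpecResidueField (f b)) b'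
  rw [FlatEquidim.resTrdeg_fiber_eq, ha', ha] at hp
  rw [FlatEquidim.resTrdeg_fiber_eq, hb', hb] at hq
  obtain rfl : n = p := Nat.cast_injective (R := Cardinal.{u}) hp
  obtain rfl : n = q := Nat.cast_injective (R := Cardinal.{u}) hq
  have hle : a' ⤳ b' := by
    rw [← (f.fiberι (f b)).isEmbedding.isInducing.specializes_iff, ha', hb']
    exact h
  by_contra hne
  have hlt : b' < a' := lt_of_le_not_ge hle fun h' =>
    hne (ha'.symm.trans ((congrArg (f.fiberι (f b)) (hle.antisymm h').eq).trans hb'))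
  have := Order.height_strictMono hlt (by rw [hq']; exact ENat.natCast_lt_top n)
  rw [hp', hq'] at this
  exact lt_irrefl _ this

/-- The dimension of the closure of a point inside its fibre. -/
theorem dim_closure_inter (f : X ⟶ Y) [LocallyOfFiniteType f] (z : X) {n : ℕ} (hn : mapTrdeg f z = n) :
    topologicalKrullDim ↥(closure {z} ∩ f.base ⁻¹' {f z}) = (n : WithBot ℕ∞) := by
  let W : Closeds X := ⟨closure {z}, isClosed_closure⟩
  obtain ⟨hW, hgen, hr⟩ := component_subscheme z W rfl
  let ι := (Scheme.IdealSheafData.vanishingIdeal W).subschemeι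
  let w := genericPoint ↥(Scheme.IdealSheafData.vanishingIdeal W).subscheme
  have hfw : (ι ≫ f) w = f z := by rw [Scheme.Hom.comp_apply, hgen]
  have hwn : mapTrdeg (ι ≫ f) w = n := by rw [mapTrdeg_component, hgen, hn]
  have hmax : FlatEquidim.IsFibreMax (ι ≫ f) w := fun v hv _ => (hv.antisymm (genericPoint_specializes v)).eq
  rw [show closure {z} = (W : Set X) from rfl, dim_inter, ← fiber_dim_eq,
    ← Set.univ_inter ((ι ≫ f).base ⁻¹' {f z})]
  refine le_antisymm (dim_inter_le (ι ≫ f) (f z) ⊤ fun m _ hm hmm k hk => ?_) ?_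
  · obtain rfl := hmm w (genericPoint_specializes m) (hfw.trans hm.symm)
    exact le_of_eq (congrArg _ (Nat.cast_injective (R := Cardinal.{u}) (hk.symm.trans hwn)))
  · rw [← hfw]
    exact le_dim_inter_self (ι ≫ f) hmax hwn ⊤ trivial

theorem isIrreducible_closure_inter (f : X ⟶ Y) (z : X) :
    IsIrreducible (closure {z} ∩ f.base ⁻¹' {f z}) := by
  refine isIrreducible_iff_closure.1 ?_
  rw [show closure (closure {z} ∩ f.base ⁻¹' {f z}) = closure {z} from
    (closure_minimal Set.inter_subset_left isClosed_closure).antisymm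
      (closure_mono (Set.singleton_subset_iff.2 ⟨subset_closure rfl, rfl⟩))]
  exact isIrreducible_singleton.closure

theorem subset_component (f : X ⟶ Y) {z x : X} {y : Y} (hz : z ⤳ x) (hzy : f z = y) (hxy : f x = y) :
    closure {z} ∩ f.base ⁻¹' {y} ⊆ connectedComponentIn (f.base ⁻¹' {y}) x := by
  subst hzy
  exact (isIrreducible_closure_inter f z).2.isPreconnected.subset_connectedComponentIn
    ⟨hz.mem_closure, hxy⟩ Set.inter_subset_right

/-- A set between two subsets of the fibre. -/
theorem exists_generic_of_irreducible (f : X ⟶ Y) {y : Y} {Z : Set X} (hZ : Z ⊆ f.base ⁻¹' {y})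
    (hirr : IsIrreducible Z) :
    ∃ ζ : X, f ζ = y ∧ closure {ζ} = closure Z := by
  obtain ⟨ζ, hζ⟩ := QuasiSober.sober hirr.closure isClosed_closure
  refine ⟨ζ, ?_, hζ.def⟩
  obtain ⟨a, ha⟩ := hirr.1
  have h1 : f ζ ⤳ y := (hZ ha : f a = y) ▸ (hζ.specializes (subset_closure ha)).map f.continuous
  have h2 : f ζ ∈ closure {y} := closure_mono (show f.base '' Z ⊆ {y} by rintro _ ⟨b, hb, rfl⟩; exact hZ hb)
    (image_closure_subset_closure_image f.continuous ⟨ζ, hζ.mem, rfl⟩)
  exact (h1.antisymm (specializes_iff_mem_closure.2 h2)).eq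

/-- An irreducible connected component of a fibre. -/
theorem exists_generic_component (f : X ⟶ Y) {x : X} {y : Y} (hxy : f x = y)
    (hirr : IsIrreducible (connectedComponentIn (f.base ⁻¹' {y}) x)) :
    ∃ ν : X, f ν = y ∧ ν ⤳ x ∧
      connectedComponentIn (f.base ⁻¹' {y}) x = closure {ν} ∩ f.base ⁻¹' {y} := by
  obtain ⟨ν, hν, hcl⟩ := exists_generic_of_irreducible f (connectedComponentIn_subset _ _) hirr
  have hx : ν ⤳ x := specializes_iff_mem_closure.2
    (hcl ▸ subset_closure (mem_connectedComponentIn (show x ∈ f.base ⁻¹' {y} from hxy)))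
  refine ⟨ν, hν, hx, Set.Subset.antisymm (fun a ha => ⟨hcl ▸ subset_closure ha, connectedComponentIn_subset _ _ ha⟩) ?_⟩
  exact subset_component f hx hν hxy

/-- For an irreducible component of the section, its dimension is the dimension of the fibre at the point. -/
theorem dim_component_eq_fibreDimAt (f : X ⟶ Y) [LocallyOfFiniteType f] {x : X} {y : Y} (hxy : f x = y)
    (hirr : IsIrreducible (connectedComponentIn (f.base ⁻¹' {y}) x)) :
    topologicalKrullDim ↥(connectedComponentIn (f.base ⁻¹' {y}) x) = FlatMor.fibreDimAt f x := by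
  obtain ⟨ν, hν, hνx, hC⟩ := exists_generic_component f hxy hirr
  obtain ⟨z, n, hzx, hfz, hz, hn, hd⟩ := exists_fibreMax_eq f x
  have hzC : z ∈ connectedComponentIn (f.base ⁻¹' {y}) x :=
    subset_component f hzx (hfz.trans hxy) hxy ⟨subset_closure rfl, hfz.trans hxy⟩
  obtain rfl := hz ν (specializes_iff_mem_closure.2 (hC ▸ hzC).1) (hν.trans (hfz.trans hxy).symm)
  rw [hC, hd, ← hν]
  exact dim_closure_inter f _ hn

/-- Specialization of the dimension of components along a section. -/
theorem exists_specialized_component (f : X ⟶ Y) [LocallyOfFiniteType f] {x' x : X} (hx : x' ⤳ x) {Z : Set X}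
    (hZ : Z ⊆ f.base ⁻¹' {f x'}) (hirr : IsIrreducible Z)
    (hmaxZ : ∀ Z' : Set X, IsIrreducible Z' → Z' ⊆ f.base ⁻¹' {f x'} → Z ⊆ Z' → Z' = Z) (hxZ : x' ∈ Z) :
    ∃ (ζ z : X) (e n : ℕ), ζ ∈ Z ∧ topologicalKrullDim ↥Z = (e : WithBot ℕ∞) ∧ e ≤ n ∧ ζ ⤳ z ∧ z ⤳ x ∧
      f z = f x ∧ mapTrdeg f z = n := by
  obtain ⟨ζ, hζ, hcl⟩ := exists_generic_of_irreducible f hZ hirr
  have hsub : Z ⊆ closure {ζ} ∩ f.base ⁻¹' {f x'} := fun a ha => ⟨hcl ▸ subset_closure ha, hZ ha⟩
  have hZeq : Z = closure {ζ} ∩ f.base ⁻¹' {f x'} := by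
    refine (hmaxZ _ ?_ Set.inter_subset_right hsub).symm
    have := isIrreducible_closure_inter f ζ
    rwa [hζ] at this
  obtain ⟨e, he⟩ := exists_mapTrdeg f ζ
  let W : Closeds X := ⟨closure {ζ}, isClosed_closure⟩
  obtain ⟨hW, hgen, hr⟩ := component_subscheme ζ W rfl
  let ι := (Scheme.IdealSheafData.vanishingIdeal W).subschemeι
  let w := genericPoint ↥(Scheme.IdealSheafData.vanishingIdeal W).subscheme
  obtain ⟨a, ha⟩ : x ∈ Set.range ι := by
    rw [hr]
    exact specializes_iff_mem_closure.1 ((specializes_iff_mem_closure.2 (hZeq ▸ hxZ).1).trans hx)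
  obtain ⟨v, n, hv, hfv, hvmax, hvn, hd⟩ := exists_fibreMax_eq (ι ≫ f) a
  refine ⟨ζ, ι v, e, n, hZeq.symm ▸ ⟨subset_closure rfl, hζ⟩, ?_,
    le_of_specializes (ι ≫ f) (genericPoint_specializes a)
      (fun b hb _ => (hb.antisymm (genericPoint_specializes b)).eq) (by rw [mapTrdeg_component, hgen, he]) hd.le,
    hgen ▸ (genericPoint_specializes v).map ι.continuous, ha ▸ hv.map ι.continuous, ?_, ?_⟩
  · rw [hZeq, ← hζ]
    exact dim_closure_inter f ζ he
  · rw [← ha, ← Scheme.Hom.comp_apply, ← Scheme.Hom.comp_apply, hfv]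
  · rw [← mapTrdeg_component]; exact hvn

/-- Monotonicity of the dimension under specialization, and the case of equality. -/
theorem dim_component_le (f : X ⟶ Y) [LocallyOfFiniteType f] (g : Y ⟶ X) (hg : g ≫ f = 𝟙 Y) {y y' : Y}
    (hy : y' ⤳ y) {Z : Set X} (hZ : Z ⊆ f.base ⁻¹' {y'}) (hirr : IsIrreducible Z)
    (hmaxZ : ∀ Z' : Set X, IsIrreducible Z' → Z' ⊆ f.base ⁻¹' {y'} → Z ⊆ Z' → Z' = Z) (hxZ : g.base y' ∈ Z)
    (hdim : topologicalKrullDim ↥Z = topologicalKrullDim ↥(connectedComponentIn (f.base ⁻¹' {y'}) (g.base y'))) :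
    topologicalKrullDim ↥(connectedComponentIn (f.base ⁻¹' {y'}) (g.base y')) ≤
        topologicalKrullDim ↥(connectedComponentIn (f.base ⁻¹' {y}) (g.base y)) ∧
      (IsIrreducible (connectedComponentIn (f.base ⁻¹' {y}) (g.base y)) →
        topologicalKrullDim ↥(connectedComponentIn (f.base ⁻¹' {y}) (g.base y)) =
          topologicalKrullDim ↥(connectedComponentIn (f.base ⁻¹' {y'}) (g.base y')) →
        connectedComponentIn (f.base ⁻¹' {y}) (g.base y) ⊆
          closure (connectedComponentIn (f.base ⁻¹' {y'}) (g.base y'))) := by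
  have hfg : ∀ a : Y, f (g a) = a := fun a => by rw [← Scheme.Hom.comp_apply, hg]; rfl
  obtain ⟨ζ, z, e, n, hζ, he, hen, hζz, hz, hfz, hn⟩ :=
    exists_specialized_component f (hy.map g.continuous) (Z := Z) (by rwa [hfg]) hirr (by rwa [hfg]) hxZ
  rw [hfg] at hfz
  have hsub := subset_component f hz hfz (hfg y)
  have hle : (n : WithBot ℕ∞) ≤ topologicalKrullDim ↥(connectedComponentIn (f.base ⁻¹' {y}) (g.base y)) := by
    rw [← dim_closure_inter f z hn, hfz]
    exact topologicalKrullDim_mono hsub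
  refine ⟨hdim ▸ he ▸ (Nat.cast_le.2 hen).trans hle, fun hirrC heq => ?_⟩
  obtain ⟨ν, hν, hνx, hC⟩ := exists_generic_component f (hfg y) hirrC
  obtain ⟨c, hc⟩ := exists_mapTrdeg f ν
  have hdC : topologicalKrullDim ↥(connectedComponentIn (f.base ⁻¹' {y}) (g.base y)) = (c : WithBot ℕ∞) := by
    rw [hC, ← hν]; exact dim_closure_inter f ν hc
  have hce : c = e := Nat.cast_injective (R := WithBot ℕ∞) (hdC.symm.trans (heq.trans (hdim.symm.trans he)))
  have hnc : n = c := le_antisymm (by exact_mod_cast hle.trans hdC.le) (hce ▸ hen)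
  have hzν : ν = z := eq_of_specializes_of_trdeg f
    (specializes_iff_mem_closure.2 (hC ▸ hsub ⟨subset_closure rfl, hfz⟩).1) (hν.trans hfz.symm) hc (hnc ▸ hn)
  have hζC : ζ ∈ connectedComponentIn (f.base ⁻¹' {y'}) (g.base y') :=
    hirr.2.isPreconnected.subset_connectedComponentIn hxZ hZ hζ
  rw [hC]
  exact fun a ha => closure_mono (Set.singleton_subset_iff.2 hζC)
    (specializes_iff_mem_closure.1 ((hzν ▸ hζz).trans (specializes_iff_mem_closure.2 ha.1)))

/-- The same, when all components along the section are irreducible. -/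
theorem dim_component_le_of_irreducible (f : X ⟶ Y) [LocallyOfFiniteType f] (g : Y ⟶ X) (hg : g ≫ f = 𝟙 Y)
    (hirr : ∀ y : Y, IsIrreducible (connectedComponentIn (f.base ⁻¹' {y}) (g.base y))) {y y' : Y} (hy : y' ⤳ y) :
    topologicalKrullDim ↥(connectedComponentIn (f.base ⁻¹' {y'}) (g.base y')) ≤
        topologicalKrullDim ↥(connectedComponentIn (f.base ⁻¹' {y}) (g.base y)) ∧
      (topologicalKrullDim ↥(connectedComponentIn (f.base ⁻¹' {y}) (g.base y)) =
          topologicalKrullDim ↥(connectedComponentIn (f.base ⁻¹' {y'}) (g.base y')) →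
        connectedComponentIn (f.base ⁻¹' {y}) (g.base y) ⊆
          closure (connectedComponentIn (f.base ⁻¹' {y'}) (g.base y'))) := by
  have hmem : g.base y' ∈ f.base ⁻¹' {y'} := by
    show f (g y') = y'
    rw [← Scheme.Hom.comp_apply, hg]; rfl
  have h := dim_component_le f g hg hy (connectedComponentIn_subset _ _) (hirr y')
    (fun Z' h1 h2 h3 => (h1.2.isPreconnected.subset_connectedComponentIn (h3 (mem_connectedComponentIn hmem)) h2).antisymm h3)
    (mem_connectedComponentIn hmem) rfl
  exact ⟨h.1, h.2 (hirr y)⟩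

/-- Upper semicontinuity of the dimension of irreducible components along a section. -/
theorem upperSemicontinuous_dim_component (f : X ⟶ Y) [LocallyOfFiniteType f] (g : Y ⟶ X) (hg : g ≫ f = 𝟙 Y)
    (hirr : ∀ y : Y, IsIrreducible (connectedComponentIn (f.base ⁻¹' {y}) (g.base y))) :
    UpperSemicontinuous (fun y : Y => topologicalKrullDim ↥(connectedComponentIn (f.base ⁻¹' {y}) (g.base y))) := by
  have heq : ∀ y, topologicalKrullDim ↥(connectedComponentIn (f.base ⁻¹' {y}) (g.base y)) =
      FlatMor.fibreDimAt f (g y) := fun y =>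
    dim_component_eq_fibreDimAt f (by rw [← Scheme.Hom.comp_apply, hg]; rfl) (hirr y)
  intro y b hb
  simp only [heq] at hb ⊢
  obtain ⟨z, n, -, -, -, -, hn⟩ := exists_fibreMax_eq f (g y)
  filter_upwards [((FibreDimChart.isOpen_fibreDimAt_le f n).preimage g.continuous).mem_nhds hn.le] with v hv
  exact lt_of_le_of_lt hv (hn ▸ hb)

theorem isIrreducible_of_geom (f : X ⟶ Y) {y : Y} {C : Set X} (hC : C ⊆ f.base ⁻¹' {y})
    (h : ∀ (K : Type u) [Field K] [Algebra (IsLocalRing.ResidueField (Y.presheaf.stalk y)) K],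
      IsIrreducible ((FBase.bcπ (f.fiberToSpecResidueField y) K ≫ f.fiberι y).base ⁻¹' C)) :
    IsIrreducible C := by
  have hsurj : C ⊆ Set.range (FBase.bcπ (f.fiberToSpecResidueField y)
      (IsLocalRing.ResidueField (Y.presheaf.stalk y)) ≫ f.fiberι y).base := by
    intro a ha
    obtain ⟨a', rfl⟩ : a ∈ Set.range (f.fiberι y) := by rw [f.range_fiberι]; exact hC ha
    haveI : Surjective (Spec.map (CommRingCat.ofHom (algebraMap (IsLocalRing.ResidueField (Y.presheaf.stalk y))
        (IsLocalRing.ResidueField (Y.presheaf.stalk y))))) := by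
      rw [Algebra.algebraMap_self]; exact inferInstanceAs (Surjective (Spec.map (𝟙 _)))
    haveI : Surjective (FBase.bcπ (f.fiberToSpecResidueField y)
      (IsLocalRing.ResidueField (Y.presheaf.stalk y))) := MorphismProperty.pullback_fst _ _ ‹_›
    obtain ⟨b, hb⟩ := Surjective.surj (f := FBase.bcπ (f.fiberToSpecResidueField y)
      (IsLocalRing.ResidueField (Y.presheaf.stalk y))) a'
    exact ⟨b, congrArg (f.fiberι y) hb⟩
  have := (h (IsLocalRing.ResidueField (Y.presheaf.stalk y))).image
    (FBase.bcπ (f.fiberToSpecResidueField y) (IsLocalRing.ResidueField (Y.presheaf.stalk y)) ≫ f.fiberι y).base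
    (FBase.bcπ (f.fiberToSpecResidueField y) (IsLocalRing.ResidueField (Y.presheaf.stalk y)) ≫
      f.fiberι y).continuous.continuousOn
  rwa [Set.image_preimage_eq_of_subset hsurj] at this

end Groth.Agent.Chevalley
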