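import Groth.Agent.Chevalley.SectionUnique
import Groth.Agent.FibreDimChart.Constr
import Groth.Agent.EquidimChart.OpenAt
import Groth.Agent.LimSch.CurveTest
import Groth.Prelude.Def_MoreMor

/-!
# Constancy of the dimension along a section
-/

set_option autoImplicit false
set_option linter.style.haveILetI false
set_option backward.isDefEq.respectTransparency.types false

universe u

open CategoryTheory CategoryTheory.Limits AlgebraicGeometry TopologicalSpace Topology
open Groth.Agent.DimTheory Groth.Agent.EquidimChart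

namespace Groth.Agent.Chevalley

variable {X Y : Scheme.{u}}

/-- The base change of a section. -/
noncomputable def sectionBC {Y' : Scheme.{u}} (f : X ⟶ Y) (g : Y ⟶ X) (hg : g ≫ f = 𝟙 Y) (h : Y' ⟶ Y) :
    Y' ⟶ pullback f h :=
  pullback.lift (h ≫ g) (𝟙 Y') (by rw [Category.assoc, hg, Category.comp_id, Category.id_comp])

theorem sectionBC_snd {Y' : Scheme.{u}} (f : X ⟶ Y) (g : Y ⟶ X) (hg : g ≫ f = 𝟙 Y) (h : Y' ⟶ Y) :
    sectionBC f g hg h ≫ pullback.snd f h = 𝟙 Y' := pullback.lift_snd _ _ _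

theorem sectionBC_fst {Y' : Scheme.{u}} (f : X ⟶ Y) (g : Y ⟶ X) (hg : g ≫ f = 𝟙 Y) (h : Y' ⟶ Y) :
    sectionBC f g hg h ≫ pullback.fst f h = h ≫ g := pullback.lift_fst _ _ _

/-- A discrete valuation ring through a specialization. -/
theorem exists_dvr [IsLocallyNoetherian Y] {y y' : Y} (hy : y' ⤳ y) (hne : y' ≠ y) :
    ∃ (A : Type u) (_ : CommRing A) (_ : IsDomain A) (_ : IsDiscreteValuationRing A)
      (k : Spec (CommRingCat.of A) ⟶ Y), k (IsLocalRing.closedPoint A) = y ∧
        k (⟨⊥, Ideal.isPrime_bot⟩ : PrimeSpectrum A) = y' := by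
  obtain ⟨A, k, hA, hkc, hkg⟩ := DVRDom.exists_dvr_through_specialization (𝟙 Y) y' y hy (Ne.symm hne)
  haveI := hA
  refine ⟨A, inferInstance, inferInstance, hA, k, hkc, ?_⟩
  have h2 : Spec.map (CommRingCat.ofHom A.subtype) (IsLocalRing.closedPoint (Y.residueField y')) =
      (⟨⊥, Ideal.isPrime_bot⟩ : PrimeSpectrum A) := by
    refine PrimeSpectrum.ext ?_
    show (IsLocalRing.maximalIdeal (Y.residueField y')).comap A.subtype = ⊥
    rw [IsLocalRing.maximalIdeal_eq_bot, ← RingHom.ker_eq_comap_bot]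
    exact (RingHom.injective_iff_ker_eq_bot _).mp Subtype.val_injective
  refine (congrArg k h2.symm).trans ?_
  rw [← Scheme.Hom.comp_apply, hkg, Category.comp_id, Scheme.fromSpecResidueField_apply]

/-- The generic point of a component maps to a generic point of the component. -/
theorem subset_closure_fst_generic {Y' : Scheme.{u}} (f : X ⟶ Y) (g : Y ⟶ X) (hg : g ≫ f = 𝟙 Y) (h : Y' ⟶ Y)
    (c : Y') {ν : ↥(pullback f h)}
    (hνC : connectedComponentIn ((pullback.snd f h).base ⁻¹' {c}) ((sectionBC f g hg h).base c) =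
      closure {ν} ∩ (pullback.snd f h).base ⁻¹' {c}) :
    connectedComponentIn (f.base ⁻¹' {h c}) (g.base (h c)) ⊆ closure {pullback.fst f h ν} := by
  intro a ha
  obtain ⟨a', ha1, ha2⟩ := Scheme.Pullback.exists_preimage_pullback (f := f) (g := h) a c
    (connectedComponentIn_subset (f.base ⁻¹' {h c}) _ ha)
  have h1 : a' ∈ connectedComponentIn ((pullback.snd f h).base ⁻¹' {c}) ((sectionBC f g hg h).base c) := by
    rw [GeomConn.connectedComponentIn_fibre_bc f h g hg _ (sectionBC_snd f g hg h) (sectionBC_fst f g hg h) c]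
    exact ⟨ha2, show pullback.fst f h a' ∈ _ from ha1.symm ▸ ha⟩
  rw [hνC] at h1
  exact ha1 ▸ specializes_iff_mem_closure.1 ((specializes_iff_mem_closure.2 h1.1).map (pullback.fst f h).continuous)

/-- Geometric reducedness along the component of the section over a point. -/
def RedAlong (f : X ⟶ Y) (g : Y ⟶ X) (y : Y) (x : X) : Prop :=
  ∀ (K : Type u) [Field K] [Algebra (IsLocalRing.ResidueField (Y.presheaf.stalk y)) K],
    ∀ b : ↥(FBase.bc (f.fiberToSpecResidueField y) K),
      (FBase.bcπ (f.fiberToSpecResidueField y) K ≫ f.fiberι y).base b = x →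
      _root_.IsReduced ((FBase.bc (f.fiberToSpecResidueField y) K).presheaf.stalk b)

/-- Over a discrete valuation ring there is a unique component through a point of the closed component. -/
theorem exists_unique_component (f : X ⟶ Y) [LocallyOfFiniteType f] (g : Y ⟶ X) (hg : g ≫ f = 𝟙 Y)
    (hgi : ∀ (y : Y) (K : Type u) [Field K] [Algebra (IsLocalRing.ResidueField (Y.presheaf.stalk y)) K],
      IsIrreducible ((FBase.bcπ (f.fiberToSpecResidueField y) K ≫ f.fiberι y).base ⁻¹'
        connectedComponentIn (f.base ⁻¹' {y}) (g.base y)))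
    {A : Type u} [CommRing A] [IsDomain A] [IsDiscreteValuationRing A] (h : Spec (CommRingCat.of A) ⟶ Y)
    (c : Spec (CommRingCat.of A)) (hc : c = IsLocalRing.closedPoint A)
    (hopen : ∀ x ∈ connectedComponentIn (f.base ⁻¹' {h c}) (g.base (h c)),
      connectedComponentIn (f.base ⁻¹' {h c}) (g.base (h c)) ⊆ closure {x} → EGA43.IsUnivOpenAt f x)
    (x' : ↥(pullback f h)) (hx' : pullback.snd f h x' = c)
    (hxC : pullback.fst f h x' ∈ connectedComponentIn (f.base ⁻¹' {h c})
      (g.base (h c)))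
    (hred : RedAlong f g (h c) (pullback.fst f h x')) :
    ∃ ζ : ↥(pullback f h), ∀ w, w ⤳ x' → ζ ⤳ w := by
  haveI : LocallyOfFiniteType (pullback.snd f h) := MorphismProperty.pullback_snd _ _ inferInstance
  haveI : IsLocallyNoetherian (pullback f h) := LocallyOfFiniteType.isLocallyNoetherian (pullback.snd f h)
  obtain ⟨t, ht⟩ := exists_maximalIdeal_stalk_closedPoint (pullback.snd f h x') (hx'.trans hc)
  have hC := GeomConn.connectedComponentIn_fibre_bc f h g hg _ (sectionBC_snd f g hg h) (sectionBC_fst f g hg h)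
    c
  have hirr := isIrreducible_component_bc f h g hg _ (sectionBC_snd f g hg h) (sectionBC_fst f g hg h)
    c (hgi _)
  have hsec : pullback.snd f h (sectionBC f g hg h c) = c := by
    rw [← Scheme.Hom.comp_apply, sectionBC_snd]; rfl
  obtain ⟨ν, hν, -, hνC⟩ := exists_generic_component (pullback.snd f h) hsec hirr
  have hxC' : x' ∈ closure {ν} ∩ (pullback.snd f h).base ⁻¹' {c} := by
    rw [← hνC, hC]; exact ⟨hx', hxC⟩
  have hνfst : pullback.fst f h ν ∈ connectedComponentIn (f.base ⁻¹' {h c})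
      (g.base (h c)) := by
    have h1 : ν ∈ connectedComponentIn ((pullback.snd f h).base ⁻¹' {c})
        ((sectionBC f g hg h).base c) := hνC ▸ ⟨subset_closure rfl, hν⟩
    rw [hC] at h1
    exact h1.2
  obtain ⟨z, hz, hzne⟩ := exists_ne_closedPoint (pullback.snd f h) ν (hopen _ hνfst (subset_closure_fst_generic f g hg h c hνC) _ h ν rfl) (hν.trans hc)
  refine exists_unique_generization (pullback.snd f h) x' ht ?_ (specializes_iff_mem_closure.2 hxC'.1)
    (hν.trans hx'.symm) (fun w hw hfw => ?_) hz (by rw [hx', hc]; exact hzne)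
  · refine isReduced_fibre_stalk f h x' {pullback.fst f h x'} rfl ?_
    rw [hx']
    exact fun K _ _ b hb => hred K b hb
  · suffices h' : w ∈ connectedComponentIn ((pullback.snd f h).base ⁻¹' {c}) ((sectionBC f g hg h).base c) by
      rw [hνC] at h'
      exact specializes_iff_mem_closure.2 h'.1
    rw [connectedComponentIn_eq (show x' ∈ connectedComponentIn ((pullback.snd f h).base ⁻¹' {c})
        ((sectionBC f g hg h).base c) from hνC ▸ hxC')]
    exact subset_component (pullback.snd f h) hw (hfw.trans hx') hx' ⟨subset_closure rfl, hfw.trans hx'⟩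

/-- Under universal openness and reducedness at the section the dimension does not drop over a DVR. -/
theorem dim_component_le_of_dvr (f : X ⟶ Y) [LocallyOfFiniteType f] (g : Y ⟶ X)
    (hg : g ≫ f = 𝟙 Y)
    (hgi : ∀ (y : Y) (K : Type u) [Field K] [Algebra (IsLocalRing.ResidueField (Y.presheaf.stalk y)) K],
      IsIrreducible ((FBase.bcπ (f.fiberToSpecResidueField y) K ≫ f.fiberι y).base ⁻¹'
        connectedComponentIn (f.base ⁻¹' {y}) (g.base y)))
    {A : Type u} [CommRing A] [IsDomain A] [IsDiscreteValuationRing A] (h : Spec (CommRingCat.of A) ⟶ Y)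
    (c η : Spec (CommRingCat.of A)) (hc : c = IsLocalRing.closedPoint A) (hbot : ∀ r : Spec (CommRingCat.of A), η ⤳ r)
    (hopen : ∀ x ∈ connectedComponentIn (f.base ⁻¹' {h c}) (g.base (h c)),
      connectedComponentIn (f.base ⁻¹' {h c}) (g.base (h c)) ⊆ closure {x} → EGA43.IsUnivOpenAt f x)
    (hred : RedAlong f g (h c) (g.base (h c))) :
    topologicalKrullDim ↥(connectedComponentIn (f.base ⁻¹' {h c}) (g.base (h c))) ≤
      topologicalKrullDim ↥(connectedComponentIn (f.base ⁻¹' {h η}) (g.base (h η))) := by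
  let f' := pullback.snd f h
  let g' := sectionBC f g hg h
  haveI : LocallyOfFiniteType f' := MorphismProperty.pullback_snd _ _ inferInstance
  have hirr := fun r => isIrreducible_component_bc f h g hg g' (sectionBC_snd f g hg h) (sectionBC_fst f g hg h) r (hgi (h r))
  have hsec : ∀ r, f' (g' r) = r := fun r => by rw [← Scheme.Hom.comp_apply, sectionBC_snd]; rfl
  have hfst : ∀ r, pullback.fst f h (g' r) = g (h r) := fun r => by
    rw [← Scheme.Hom.comp_apply, sectionBC_fst, Scheme.Hom.comp_apply]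
  have hfg : ∀ a : Y, f (g a) = a := fun a => by rw [← Scheme.Hom.comp_apply, hg]; rfl
  have hd : ∀ r, topologicalKrullDim ↥(connectedComponentIn (f'.base ⁻¹' {r}) (g'.base r)) =
      topologicalKrullDim ↥(connectedComponentIn (f.base ⁻¹' {h r}) (g.base (h r))) := fun r => by
    rw [dim_component_eq_fibreDimAt f' (hsec r) (hirr r),
      dim_component_eq_fibreDimAt f (hfg (h r)) (isIrreducible_of_geom f (connectedComponentIn_subset _ _) (hgi (h r))),
      FibreDimChart.fibreDimAt_of_isPullback f h _ _ (IsPullback.of_hasPullback f h) (g' r), hfst]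
  rw [← hd, ← hd]
  obtain ⟨ν, hν, hνg, hνC⟩ := exists_generic_component f' (hsec c) (hirr c)
  obtain ⟨n, hn⟩ := exists_mapTrdeg f' ν
  have hmax : FlatEquidim.IsFibreMax f' ν := fun w hw hfw =>
    (hw.antisymm (specializes_iff_mem_closure.2 (hνC ▸ subset_component f' (hw.trans hνg) (hfw.trans hν) (hsec c)
      ⟨subset_closure rfl, hfw.trans hν⟩ : w ∈ closure {ν} ∩ _).1)).eq
  have hνfst : pullback.fst f h ν ∈ connectedComponentIn (f.base ⁻¹' {h c}) (g.base (h c)) := by
    have h1 : ν ∈ connectedComponentIn (f'.base ⁻¹' {c}) (g'.base c) := hνC ▸ ⟨subset_closure rfl, hν⟩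
    rw [GeomConn.connectedComponentIn_fibre_bc f h g hg g' (sectionBC_snd f g hg h) (sectionBC_fst f g hg h) c] at h1
    exact h1.2
  obtain ⟨ξ, hξν, hξ, -, hξn⟩ := exists_over_generization f' ν hmax (hopen _ hνfst (subset_closure_fst_generic f g hg h c hνC) _ h ν rfl) hn
    (z := η) (hbot _)
  obtain ⟨ζ, hζ⟩ := exists_unique_component f g hg hgi h c hc hopen (g' c) (hsec c)
    (by rw [hfst]; exact mem_connectedComponentIn (hfg (h c)))
    (by rw [hfst]; exact hred)
  have h1 := hζ ξ (hξν.trans hνg)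
  have h2 := hζ (g' η) ((hbot c).map g'.continuous)
  have h3 : f' ζ = η := ((hsec η ▸ h2.map f'.continuous).antisymm (hbot (f' ζ))).eq
  have h4 := subset_component f' h2 h3 (hsec η) (show ξ ∈ closure {ζ} ∩ f'.base ⁻¹' {η} from ⟨h1.mem_closure, hξ⟩)
  obtain ⟨μ, hμ, -, hμC⟩ := exists_generic_component f' (hsec η) (hirr η)
  rw [hνC, hμC, show f'.base ⁻¹' {c} = f'.base ⁻¹' {f' ν} by rw [hν], dim_closure_inter f' ν hn,
    ← dim_closure_inter f' ξ hξn, hξ]
  refine topologicalKrullDim_mono fun w hw => ?_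
  rw [hμC] at h4
  exact ⟨closure_minimal (Set.singleton_subset_iff.2 h4.1) isClosed_closure hw.1, hw.2⟩

/-- Under universal openness and reducedness at the section the dimension does not drop under generization. -/
theorem dim_component_le_generization [IsLocallyNoetherian Y] (f : X ⟶ Y) [LocallyOfFiniteType f] (g : Y ⟶ X)
    (hg : g ≫ f = 𝟙 Y)
    (hgi : ∀ (y : Y) (K : Type u) [Field K] [Algebra (IsLocalRing.ResidueField (Y.presheaf.stalk y)) K],
      IsIrreducible ((FBase.bcπ (f.fiberToSpecResidueField y) K ≫ f.fiberι y).base ⁻¹'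
        connectedComponentIn (f.base ⁻¹' {y}) (g.base y)))
    {y : Y} (hopen : ∀ x ∈ connectedComponentIn (f.base ⁻¹' {y}) (g.base y),
      connectedComponentIn (f.base ⁻¹' {y}) (g.base y) ⊆ closure {x} → EGA43.IsUnivOpenAt f x)
    (hred : RedAlong f g y (g.base y)) {y' : Y} (hy : y' ⤳ y) :
    topologicalKrullDim ↥(connectedComponentIn (f.base ⁻¹' {y}) (g.base y)) ≤
      topologicalKrullDim ↥(connectedComponentIn (f.base ⁻¹' {y'}) (g.base y')) := by
  by_cases hne : y' = y
  · rw [hne]
  obtain ⟨A, _, _, _, h, hhc, hhb⟩ := exists_dvr hy hne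
  obtain ⟨c, hc⟩ : ∃ c : Spec (CommRingCat.of A), c = IsLocalRing.closedPoint A := ⟨_, rfl⟩
  obtain ⟨η, hη⟩ : ∃ η : Spec (CommRingCat.of A), η = (⟨⊥, Ideal.isPrime_bot⟩ : PrimeSpectrum A) := ⟨_, rfl⟩
  rw [← hc] at hhc
  rw [← hη] at hhb
  subst hhc hhb
  exact dim_component_le_of_dvr f g hg hgi h c η hc (fun r => hη ▸ bot_specializes (A := A) r) hopen hred

/-- The reducedness condition at a point of the section. -/
theorem redAlong_of_isGeomReducedAt (f : X ⟶ Y) (g : Y ⟶ X) {y : Y} {x : X} (hx : f x = y)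
    (h : FBase.IsGeomReducedAt (f.fiberToSpecResidueField (f x)) (f.asFiber x)) : RedAlong f g y x := by
  subst hx
  intro K _ _ b hb
  exact h K b ((f.fiberι (f x)).isEmbedding.injective (hb.trans (f.fiberι_asFiber x).symm))

/-- Under universal openness the dimension at a maximal point of the base is large. -/
theorem dim_component_le_fibre [IsLocallyNoetherian Y] (f : X ⟶ Y) [LocallyOfFiniteType f] (g : Y ⟶ X)
    (hg : g ≫ f = 𝟙 Y) {y : Y} (hirr : IsIrreducible (connectedComponentIn (f.base ⁻¹' {y}) (g.base y)))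
    (hopen : ∀ x ∈ connectedComponentIn (f.base ⁻¹' {y}) (g.base y),
      connectedComponentIn (f.base ⁻¹' {y}) (g.base y) ⊆ closure {x} → EGA43.IsUnivOpenAt f x)
    {y' : Y} (hy : y' ⤳ y) :
    topologicalKrullDim ↥(connectedComponentIn (f.base ⁻¹' {y}) (g.base y)) ≤ topologicalKrullDim ↥(f.fiber y') := by
  have hsec : f (g y) = y := by rw [← Scheme.Hom.comp_apply, hg]; rfl
  obtain ⟨ν, hν, hνg, hνC⟩ := exists_generic_component f hsec hirr
  obtain ⟨n, hn⟩ := exists_mapTrdeg f ν
  have hmax : FlatEquidim.IsFibreMax f ν := fun w hw hfw =>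
    (hw.antisymm (specializes_iff_mem_closure.2 (hνC ▸ subset_component f (hw.trans hνg) (hfw.trans hν) hsec
      ⟨subset_closure rfl, hfw.trans hν⟩ : w ∈ closure {ν} ∩ _).1)).eq
  have hu := hopen ν (hνC ▸ ⟨subset_closure rfl, hν⟩) (hνC ▸ Set.inter_subset_left)
  have ho : EGA43.IsOpenAt f.base ν := by
    intro N hN
    obtain ⟨a, ha, ha'⟩ := Scheme.Pullback.exists_preimage_pullback (f := f) (g := 𝟙 Y) ν (f ν) rfl
    have h2 := hu Y (𝟙 Y) a ha ((pullback.fst f (𝟙 Y)).base ⁻¹' N)
      ((pullback.fst f (𝟙 Y)).continuous.continuousAt.preimage_mem_nhds (ha.symm ▸ hN))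
    rw [show (pullback.snd f (𝟙 Y)).base a = f ν from ha'] at h2
    refine Filter.mem_of_superset h2 ?_
    rintro _ ⟨w, hw, rfl⟩
    refine ⟨pullback.fst f (𝟙 Y) w, hw, ?_⟩
    rw [← Scheme.Hom.comp_apply, pullback.condition, Category.comp_id]
  obtain ⟨ξ, -, hξ, -, hξn⟩ := exists_over_generization f ν hmax ho hn (z := y') (hν.symm ▸ hy)
  rw [hνC, ← hν, dim_closure_inter f ν hn, ← dim_closure_inter f ξ hξn, hξ, ← fiber_dim_eq]
  exact topologicalKrullDim_mono Set.inter_subset_right

/-- Local constancy of the dimension along a section. -/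
theorem eventually_dim_eq [IsLocallyNoetherian Y] (f : X ⟶ Y) [LocallyOfFiniteType f] (g : Y ⟶ X)
    (hg : g ≫ f = 𝟙 Y)
    (hirr : ∀ y : Y, IsIrreducible (connectedComponentIn (f.base ⁻¹' {y}) (g.base y))) (y : Y)
    (hge : ∀ y' : Y, y' ⤳ y → topologicalKrullDim ↥(connectedComponentIn (f.base ⁻¹' {y}) (g.base y)) ≤
      topologicalKrullDim ↥(connectedComponentIn (f.base ⁻¹' {y'}) (g.base y'))) :
    ∃ V ∈ nhds y, ∀ z ∈ V, topologicalKrullDim ↥(connectedComponentIn (f.base ⁻¹' {z}) (g.base z)) =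
      topologicalKrullDim ↥(connectedComponentIn (f.base ⁻¹' {y}) (g.base y)) := by
  have heq : ∀ z, topologicalKrullDim ↥(connectedComponentIn (f.base ⁻¹' {z}) (g.base z)) =
      FlatMor.fibreDimAt f (g z) := fun z =>
    dim_component_eq_fibreDimAt f (by rw [← Scheme.Hom.comp_apply, hg]; rfl) (hirr z)
  simp only [heq] at hge ⊢
  obtain ⟨-, n, -, -, -, -, hn⟩ := exists_fibreMax_eq f (g y)
  have hcl : IsClosed {z : Y | (n : WithBot ℕ∞) ≤ FlatMor.fibreDimAt f (g z)} :=
    (isClosed_le_fibreDimAt f n).preimage g.continuous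
  have h1 := mem_nhds_of_generizations (LimSch.CurveTest.isLocallyConstructible_of_isClosed hcl) (y := y)
    fun z hz => hn ▸ hge z hz
  have h2 := ((FibreDimChart.isOpen_fibreDimAt_le f n).preimage g.continuous).mem_nhds (x := y) hn.le
  exact ⟨_, Filter.inter_mem h1 h2, fun z hz => (le_antisymm hz.2 hz.1).trans hn.symm⟩

end Groth.Agent.Chevalley
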