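import Groth.Agent.Chevalley.SectionConst
import Groth.Agent.GeomIrredStrata.GeomFibre
import Groth.Agent.IrredComp.Basic

/-!
# Openness of the union of geometrically irreducible components along a section
-/

set_option autoImplicit false
set_option linter.style.haveILetI false
set_option backward.isDefEq.respectTransparency.types false

universe u

open CategoryTheory CategoryTheory.Limits AlgebraicGeometry TopologicalSpace Topology
open Groth.Agent.DimTheory Groth.Agent.EquidimChart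

namespace Groth.Agent.Chevalley

variable {X Y : Scheme.{u}}

/-- Openness from stability under generization and closures of points. -/
theorem isOpen_of_generizations [IsLocallyNoetherian X] {S : Set X}
    (hgen : ∀ a b : X, a ⤳ b → b ∈ S → a ∈ S)
    (hloc : ∀ a ∈ S, ∃ O : Set X, IsOpen O ∧ a ∈ O ∧ O ∩ closure {a} ⊆ S) : IsOpen S := by
  rw [isOpen_iff_mem_nhds]
  intro a ha
  by_contra hn
  obtain ⟨U, hU, haU, -⟩ := exists_isAffineOpen_mem_and_subset (X := X) (x := a) (U := ⊤) trivial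
  haveI : IsAffine (U : Scheme.{u}) := hU
  haveI : IsLocallyNoetherian (U : Scheme.{u}) := LocallyOfFiniteType.isLocallyNoetherian U.ι
  haveI : IsNoetherian (U : Scheme.{u}) := { }
  let T : Set (U : Scheme.{u}) := U.ι ⁻¹' Sᶜ
  obtain ⟨a₁, ha₁⟩ : a ∈ Set.range U.ι := by rw [Scheme.Opens.range_ι]; exact haU
  have haT : a₁ ∈ closure T := by
    refine mem_closure_iff.2 fun O hO haO => ?_
    have h1 : U.ι '' O ∈ nhds a := (U.ι.isOpenEmbedding.isOpenMap O hO).mem_nhds ⟨_, haO, ha₁⟩
    by_contra hne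
    refine hn (Filter.mem_of_superset h1 ?_)
    rintro _ ⟨w, hw, rfl⟩
    by_contra hwS
    exact hne ⟨w, hw, hwS⟩
  obtain ⟨F, hF, hFc, hFi, hFT⟩ := NoetherianSpace.exists_finite_set_isClosed_irreducible (isClosed_closure (s := T))
  obtain ⟨Z₀, hZ₀, haZ₀⟩ := Set.mem_sUnion.1 (hFT ▸ haT)
  obtain ⟨Z, hle, hmax⟩ := hF.exists_le_maximal hZ₀
  obtain ⟨ζ, hζ⟩ := QuasiSober.sober (hFi Z hmax.1) (hFc Z hmax.1)
  have hζa : U.ι ζ ∈ S := hgen _ a (ha₁ ▸ (hζ.specializes (hle haZ₀)).map U.ι.continuous) ha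
  obtain ⟨O, hO, hζO, hOS⟩ := hloc _ hζa
  let R : Set (U : Scheme.{u}) := ⋃₀ {Z' ∈ F | ζ ∉ Z'}
  have hR : IsClosed R := by
    rw [show R = ⋃ Z' ∈ {Z' ∈ F | ζ ∉ Z'}, Z' from Set.sUnion_eq_biUnion]
    exact (hF.subset fun _ h => h.1).isClosed_biUnion fun Z' h => hFc Z' h.1
  have hζR : ζ ∉ R := by
    rintro ⟨Z', ⟨-, h⟩, hmem⟩
    exact h hmem
  have hζT : ζ ∈ closure T := by rw [hFT]; exact ⟨Z, hmax.1, hζ.mem⟩
  obtain ⟨b, ⟨hbO, hbR⟩, hbT⟩ := mem_closure_iff.1 hζT (U.ι ⁻¹' O ∩ Rᶜ)
    ((hO.preimage U.ι.continuous).inter hR.isOpen_compl) ⟨hζO, hζR⟩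
  obtain ⟨Z', hZ', hbZ'⟩ := Set.mem_sUnion.1 (hFT ▸ subset_closure hbT)
  have hζZ' : ζ ∈ Z' := by
    by_contra h
    exact hbR ⟨Z', ⟨hZ', h⟩, hbZ'⟩
  have hZZ' : Z ⊆ Z' := hζ.def ▸ closure_minimal (Set.singleton_subset_iff.2 hζZ') (hFc Z' hZ')
  have hbZ : b ∈ Z := hmax.2 hZ' hZZ' hbZ'
  exact hbT (hOS ⟨hbO, ((hζ.specializes hbZ).map U.ι.continuous).mem_closure⟩)

/-- A component of a fibre is open in the fibre. -/
theorem exists_open_inter_fibre_subset (f : X ⟶ Y) [LocallyOfFiniteType f] {y : Y} {x : X} (hx : f x = y) :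
    ∃ V : X.Opens, connectedComponentIn (f.base ⁻¹' {y}) x ⊆ V ∧
      (V : Set X) ∩ f.base ⁻¹' {y} ⊆ connectedComponentIn (f.base ⁻¹' {y}) x := by
  haveI : LocallyOfFiniteType (f.fiberToSpecResidueField y) := MorphismProperty.pullback_snd _ _ ‹_›
  haveI : IsLocallyNoetherian (Spec (Y.residueField y)) := inferInstance
  haveI : IsLocallyNoetherian (f.fiber y) := LocallyOfFiniteType.isLocallyNoetherian (f.fiberToSpecResidueField y)
  obtain ⟨x', rfl⟩ : x ∈ Set.range (f.fiberι y) := by rw [f.range_fiberι]; exact hx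
  have heq : f.fiberι y '' connectedComponent x' = connectedComponentIn (f.base ⁻¹' {y}) (f.fiberι y x') := by
    refine Set.Subset.antisymm ((isPreconnected_connectedComponent.image _ (f.fiberι y).continuous.continuousOn).subset_connectedComponentIn
      ⟨_, mem_connectedComponent, rfl⟩ ((Set.image_subset_range _ _).trans (f.range_fiberι y).subset)) ?_
    intro a ha
    obtain ⟨a', rfl⟩ : a ∈ Set.range (f.fiberι y) := by
      rw [f.range_fiberι]; exact connectedComponentIn_subset _ _ ha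
    refine ⟨a', ?_, rfl⟩
    have hC : _root_.IsPreconnected (f.fiberι y ⁻¹' connectedComponentIn (f.base ⁻¹' {y}) (f.fiberι y x')) := by
      rw [← (f.fiberι y).isEmbedding.isInducing.isPreconnected_image, Set.image_preimage_eq_of_subset
        ((connectedComponentIn_subset _ _).trans (f.range_fiberι y).symm.subset)]
      exact isPreconnected_connectedComponentIn
    exact hC.subset_connectedComponent (mem_connectedComponentIn hx) ha
  obtain ⟨O, hO, hO'⟩ := (f.fiberι y).isEmbedding.isInducing.isOpen_iff.1 (IrredComp.isOpen_connectedComponent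
    (fun p => IrredComp.exists_noetherian_nhd (f.fiber y) p) x')
  refine ⟨⟨O, hO⟩, ?_, ?_⟩
  · rw [← heq]
    rintro _ ⟨a, ha, rfl⟩
    rw [← hO'] at ha
    exact ha
  · rintro a ⟨haO, ha⟩
    obtain ⟨a', rfl⟩ : a ∈ Set.range (f.fiberι y) := by rw [f.range_fiberι]; exact ha
    rw [← heq]
    exact ⟨a', hO' ▸ haO, rfl⟩

/-- Points near a point of the union of components, inside its closure, belong to the union. -/
theorem exists_nhd_inter_closure [IsLocallyNoetherian Y] (f : X ⟶ Y) [LocallyOfFiniteType f] (g : Y ⟶ X)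
    (hg : g ≫ f = 𝟙 Y) (x : X) (hx : x ∈ MoreMor.sectionComponents f g)
    (hgi : ∀ (K : Type u) [Field K] [Algebra (IsLocalRing.ResidueField (Y.presheaf.stalk (f x))) K],
      IsIrreducible ((FBase.bcπ (f.fiberToSpecResidueField (f x)) K ≫ f.fiberι (f x)).base ⁻¹'
        connectedComponentIn (f.base ⁻¹' {f x}) (g.base (f x)))) :
    ∃ O : Set X, IsOpen O ∧ x ∈ O ∧ O ∩ closure {x} ⊆ MoreMor.sectionComponents f g := by
  have hfg : ∀ a : Y, f (g a) = a := fun a => by rw [← Scheme.Hom.comp_apply, hg]; rfl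
  haveI : IsLocallyNoetherian X := LocallyOfFiniteType.isLocallyNoetherian f
  obtain ⟨y, hy⟩ : ∃ y, y = f x := ⟨_, rfl⟩
  obtain ⟨V, hCV, hVC⟩ := exists_open_inter_fibre_subset f (hfg (f x))
  obtain ⟨U₁, hU₁, hxU₁, hU₁V⟩ := exists_isAffineOpen_mem_and_subset (X := X) (x := x) (U := V) (hCV hx)
  obtain ⟨U₂, hU₂, hgU₂, hU₂V⟩ := exists_isAffineOpen_mem_and_subset (X := X) (x := g (f x)) (U := V)
    (hCV (mem_connectedComponentIn (hfg (f x))))
  let U : X.Opens := U₁ ⊔ U₂
  have hUV : (U : Set X) ⊆ V := by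
    rw [TopologicalSpace.Opens.coe_sup]; exact Set.union_subset hU₁V hU₂V
  haveI : CompactSpace (U : Scheme.{u}) := by
    refine isCompact_iff_compactSpace.1 ?_
    rw [TopologicalSpace.Opens.coe_sup]
    exact hU₁.isCompact.union hU₂.isCompact
  let h := U.ι ≫ f
  haveI : QuasiCompact h := QuasiCompact.of_comp h Y.toSpecΓ
  let κ := IsLocalRing.ResidueField (Y.presheaf.stalk (f x))
  let a := Spec.map (CommRingCat.ofHom (algebraMap κ (SeparableClosure κ)))
  let π := FBase.bcπ (f.fiberToSpecResidueField (f x)) (SeparableClosure κ) ≫ f.fiberι (f x)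
  have hπ : IsPullback π (FBase.bcStr (f.fiberToSpecResidueField (f x)) (SeparableClosure κ)) f
      (a ≫ Y.fromSpecResidueField (f x)) :=
    (IsPullback.of_hasPullback (f.fiberToSpecResidueField (f x)) a).paste_horiz (IsPullback.of_hasPullback _ _)
  have hP : IsPullback (pullback.fst U.ι π) (pullback.snd U.ι π ≫ FBase.bcStr (f.fiberToSpecResidueField (f x))
      (SeparableClosure κ)) h (a ≫ Y.fromSpecResidueField (f x)) :=
    (IsPullback.of_hasPullback U.ι π).paste_vert hπ
  have hirr : IrreducibleSpace ↥(pullback U.ι π) := by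
    have hr : IsIrreducible (Set.range (pullback.snd U.ι π)) := by
      rw [Scheme.Pullback.range_snd, Scheme.Opens.range_ι]
      refine ⟨?_, (hgi (SeparableClosure κ)).2.open_subset (U.2.preimage π.continuous) fun b hb => ?_⟩
      · obtain ⟨b, hb, -⟩ := Scheme.exists_preimage_of_isPullback hπ (g (f x))
          (IsLocalRing.closedPoint (SeparableClosure κ)) (by
            rw [hfg, Scheme.Hom.comp_apply]; exact (Scheme.fromSpecResidueField_apply _ _).symm)
        exact ⟨b, show π b ∈ (U : Set X) by rw [hb, TopologicalSpace.Opens.coe_sup]; exact Or.inr hgU₂⟩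
      · refine hVC ⟨hUV hb, ?_⟩
        show f (π b) = f x
        rw [← Scheme.Hom.comp_apply, hπ.w, ← Category.assoc, Scheme.Hom.comp_apply]; exact Scheme.fromSpecResidueField_apply _ _
    exact (Homeomorph.irreducibleSpace_iff (pullback.snd U.ι π).isEmbedding.toHomeomorph).2
      (Subtype.irreducibleSpace hr)
  have hirr' : IrreducibleSpace ↥(MoreMor.geomFiber h (f x)) :=
    (Homeomorph.irreducibleSpace_iff (hP.isoPullback ≪≫ (pullbackLeftPullbackSndIso h
      (Y.fromSpecResidueField (f x)) a).symm).hom.homeomorph).1 hirr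
  have hone : (GeomIrredStrata.gc h (f x)).2 = 1 := GeomIrredStrata.connectedSpace_iff_card.1 inferInstance
  obtain ⟨W, hxW, hW⟩ := GeomIrredStrata.gc_near h (f x)
  refine ⟨(U : Set X) ∩ f.base ⁻¹' ((W : Set Y) ∩ g.base ⁻¹' (U : Set X)),
    U.2.inter ((W.2.inter (U.2.preimage g.continuous)).preimage f.continuous),
    ⟨Or.inl hxU₁ |> (fun h => by rw [TopologicalSpace.Opens.coe_sup]; exact h), hxW, ?_⟩, ?_⟩
  · show g (f x) ∈ (U : Set X)
    rw [TopologicalSpace.Opens.coe_sup]; exact Or.inr hgU₂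
  rintro z ⟨⟨hzU, hzW, hgz⟩, hxz⟩
  have hsp : f x ⤳ f z := (specializes_iff_mem_closure.2 hxz).map f.continuous
  haveI : ConnectedSpace ↥(MoreMor.geomFiber h (f z)) :=
    GeomIrredStrata.connectedSpace_iff_card.2 ((congrArg Prod.snd (hW _ hzW hsp)).trans hone)
  let q := pullback.fst (h.fiberToSpecResidueField (f z)) (Spec.map (CommRingCat.ofHom
    (algebraMap (Y.residueField (f z)) (SeparableClosure (Y.residueField (f z))))))
  have hq : Set.range (q ≫ h.fiberι (f z) ≫ U.ι) = (U : Set X) ∩ f.base ⁻¹' {f z} := by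
    ext w
    constructor
    · rintro ⟨v, rfl⟩
      simp only [Scheme.Hom.comp_apply]
      refine ⟨(h.fiberι (f z) (q v)).2, ?_⟩
      show f (U.ι _) = f z
      rw [← Scheme.Hom.comp_apply]
      exact FlatEquidim.fiberι_apply_eq h (f z) (q v)
    · rintro ⟨hwU, hw⟩
      obtain ⟨v, hv⟩ : (⟨w, hwU⟩ : U) ∈ Set.range (h.fiberι (f z)) := by rw [h.range_fiberι]; exact hw
      haveI : Surjective (Spec.map (CommRingCat.ofHom
          (algebraMap (Y.residueField (f z)) (SeparableClosure (Y.residueField (f z)))))) :=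
        ⟨fun p => ⟨(⊥ : PrimeSpectrum (SeparableClosure (Y.residueField (f z)))), Subsingleton.elim
          (α := PrimeSpectrum (Y.residueField (f z))) _ _⟩⟩
      haveI : Surjective q := MorphismProperty.pullback_fst _ _ ‹_›
      obtain ⟨b, hb⟩ := q.surjective v
      exact ⟨b, by simp only [Scheme.Hom.comp_apply, hb, hv]; rfl⟩
  haveI : PreconnectedSpace ↥(pullback (h.fiberToSpecResidueField (f z)) (Spec.map (CommRingCat.ofHom
      (algebraMap (Y.residueField (f z)) (SeparableClosure (Y.residueField (f z))))))) :=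
    (inferInstance : ConnectedSpace ↥(MoreMor.geomFiber h (f z))).toPreconnectedSpace
  have hpre : _root_.IsPreconnected ((U : Set X) ∩ f.base ⁻¹' {f z}) := hq ▸ isPreconnected_range
    (Scheme.Hom.continuous _)
  exact hpre.subset_connectedComponentIn ⟨hgz, hfg (f z)⟩ Set.inter_subset_right ⟨hzU, rfl⟩

/-- A discrete valuation ring through a specialization in the source. -/
theorem exists_dvr_source [IsLocallyNoetherian X] (f : X ⟶ Y) {a b : X} (hab : a ⤳ b) (hne : a ≠ b) :
    ∃ (A : Type u) (_ : CommRing A) (_ : IsDomain A) (_ : IsDiscreteValuationRing A)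
      (k : Spec (CommRingCat.of A) ⟶ X) (c η : Spec (CommRingCat.of A)),
      c = IsLocalRing.closedPoint A ∧ η ⤳ c ∧ (∀ r, η ⤳ r) ∧ k c = b ∧ k η = a := by
  obtain ⟨A, _, _, _, k, hkc, hkb⟩ := exists_dvr hab hne
  exact ⟨A, inferInstance, inferInstance, inferInstance, k, IsLocalRing.closedPoint A,
    (⟨⊥, Ideal.isPrime_bot⟩ : PrimeSpectrum A), rfl, bot_specializes (A := A) (IsLocalRing.closedPoint A),
    fun r => bot_specializes (A := A) r, hkc, hkb⟩

/-- Stability of the union of components under generization. -/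
theorem mem_sectionComponents_of_specializes [IsLocallyNoetherian Y] (f : X ⟶ Y) [LocallyOfFiniteType f]
    (g : Y ⟶ X) (hg : g ≫ f = 𝟙 Y)
    (hgi : ∀ (y : Y) (K : Type u) [Field K] [Algebra (IsLocalRing.ResidueField (Y.presheaf.stalk y)) K],
      IsIrreducible ((FBase.bcπ (f.fiberToSpecResidueField y) K ≫ f.fiberι y).base ⁻¹'
        connectedComponentIn (f.base ⁻¹' {y}) (g.base y)))
    {a b : X} (hab : a ⤳ b) (hb : b ∈ MoreMor.sectionComponents f g)
    (hdim : topologicalKrullDim ↥(connectedComponentIn (f.base ⁻¹' {f a}) (g.base (f a))) =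
      topologicalKrullDim ↥(connectedComponentIn (f.base ⁻¹' {f b}) (g.base (f b))))
    (hopen : ∀ x ∈ connectedComponentIn (f.base ⁻¹' {f b}) (g.base (f b)),
      connectedComponentIn (f.base ⁻¹' {f b}) (g.base (f b)) ⊆ closure {x} → EGA43.IsUnivOpenAt f x)
    (hred : RedAlong f g (f b) b) : a ∈ MoreMor.sectionComponents f g := by
  by_cases hne : a = b
  · exact hne ▸ hb
  haveI : IsLocallyNoetherian X := LocallyOfFiniteType.isLocallyNoetherian f
  obtain ⟨A, _, _, _, k, c, η, hc, hηc, hη, rfl, rfl⟩ := exists_dvr_source f hab hne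
  have hh : ∀ r, (k ≫ f) r = f (k r) := fun r => Scheme.Hom.comp_apply _ _ _
  let s : Spec (CommRingCat.of A) ⟶ pullback f (k ≫ f) := pullback.lift k (𝟙 _) (by rw [Category.id_comp])
  have hs1 : ∀ r, pullback.fst f (k ≫ f) (s r) = k r := fun r => by
    rw [← Scheme.Hom.comp_apply, pullback.lift_fst]
  have hs2 : ∀ r, pullback.snd f (k ≫ f) (s r) = r := fun r => by
    rw [← Scheme.Hom.comp_apply, pullback.lift_snd]; rfl
  obtain ⟨ζ, hζ⟩ := exists_unique_component f g hg hgi (k ≫ f) c hc (by rw [hh]; exact hopen) (s c) (hs2 c)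
    (by rw [hs1, hh]; exact hb) (by rw [hs1, hh]; exact hred)
  obtain ⟨z, hz, hzη, hzC⟩ := exists_lift_component f g hg hgi (k ≫ f) hηc (by rw [hh, hh]; exact hdim) (s c)
    (hs2 c) (by rw [hs1, hh]; exact hb)
  have h2 : ζ ⤳ s η := hζ _ (hηc.map s.continuous)
  have h3 : pullback.snd f (k ≫ f) ζ = η :=
    ((hs2 η ▸ h2.map (pullback.snd f (k ≫ f)).continuous).antisymm (hη _)).eq
  let g' := sectionBC f g hg (k ≫ f)
  have hsec : pullback.snd f (k ≫ f) (g' η) = η := by rw [← Scheme.Hom.comp_apply, sectionBC_snd]; rfl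
  have hbc := GeomConn.connectedComponentIn_fibre_bc f (k ≫ f) g hg g' (sectionBC_snd f g hg _)
    (sectionBC_fst f g hg _) η
  have h4 : z ∈ connectedComponentIn ((pullback.snd f (k ≫ f)).base ⁻¹' {η}) (g'.base η) := by
    rw [hbc]; exact ⟨hzη, hzC⟩
  have h5 := subset_component (pullback.snd f (k ≫ f)) (hζ z hz) h3 hzη
  rw [← connectedComponentIn_eq h4] at h5
  have h6 := h5 ⟨specializes_iff_mem_closure.1 h2, hs2 η⟩
  rw [hbc] at h6
  have h7 := h6.2
  rw [Set.mem_preimage, hs1, hh] at h7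
  exact h7

end Groth.Agent.Chevalley
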