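import Groth.Agent.Chevalley.SectionComp
import Groth.Agent.Chevalley.DVRCrit
import Groth.Agent.GeomConn.Fibre
import Groth.Agent.FibreDimChart.BaseChange

/-!
# Universal openness along geometrically irreducible components of constant dimension
-/

set_option autoImplicit false
set_option linter.style.haveILetI false
set_option backward.isDefEq.respectTransparency.types false

universe u

open CategoryTheory CategoryTheory.Limits AlgebraicGeometry TopologicalSpace Topology
open Groth.Agent.DimTheory Groth.Agent.EquidimChart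

namespace Groth.Agent.Chevalley

variable {X Y : Scheme.{u}}

/-- Geometric irreducibility of the components along a section gives irreducibility after base change. -/
theorem isIrreducible_component_bc {Y' : Scheme.{u}} (f : X ⟶ Y) (h : Y' ⟶ Y) (g : Y ⟶ X) (hg : g ≫ f = 𝟙 Y)
    (g' : Y' ⟶ pullback f h) (hg' : g' ≫ pullback.snd f h = 𝟙 Y') (hgg : g' ≫ pullback.fst f h = h ≫ g) (p : Y')
    (hgi : ∀ (K : Type u) [Field K] [Algebra (IsLocalRing.ResidueField (Y.presheaf.stalk (h p))) K],
      IsIrreducible ((FBase.bcπ (f.fiberToSpecResidueField (h p)) K ≫ f.fiberι (h p)).base ⁻¹'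
        connectedComponentIn (f.base ⁻¹' {h p}) (g.base (h p)))) :
    IsIrreducible (connectedComponentIn ((pullback.snd f h).base ⁻¹' {p}) (g'.base p)) := by
  rw [GeomConn.connectedComponentIn_fibre_bc f h g hg g' hg' hgg p]
  letI : Algebra (IsLocalRing.ResidueField (Y.presheaf.stalk (h p))) (Y'.residueField p) :=
    (h.residueFieldMap p).hom.toAlgebra
  let a := Spec.map (CommRingCat.ofHom
    (algebraMap (IsLocalRing.ResidueField (Y.presheaf.stalk (h p))) (Y'.residueField p)))
  have ha : a ≫ Y.fromSpecResidueField (h p) = Y'.fromSpecResidueField p ≫ h :=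
    Scheme.Hom.SpecMap_residueFieldMap_fromSpecResidueField h p
  let j : FBase.bc (f.fiberToSpecResidueField (h p)) (Y'.residueField p) ⟶ pullback f h :=
    pullback.lift (FBase.bcπ (f.fiberToSpecResidueField (h p)) (Y'.residueField p) ≫ f.fiberι (h p))
      (FBase.bcStr (f.fiberToSpecResidueField (h p)) (Y'.residueField p) ≫ Y'.fromSpecResidueField p) (by
        rw [Category.assoc, Category.assoc, ← ha]
        erw [f.fiber_fac (h p), pullback.condition_assoc]
        rfl)
  have hsq : IsPullback j (FBase.bcStr (f.fiberToSpecResidueField (h p)) (Y'.residueField p))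
      (pullback.snd f h) (Y'.fromSpecResidueField p) := by
    refine IsPullback.of_right ?_ (pullback.lift_snd _ _ _) (IsPullback.of_hasPullback f h)
    have h1 := (IsPullback.of_hasPullback (f.fiberToSpecResidueField (h p)) a).paste_horiz
      (show IsPullback (f.fiberι (h p)) (f.fiberToSpecResidueField (h p)) f (Y.fromSpecResidueField (h p)) from
        IsPullback.of_hasPullback _ _)
    erw [ha] at h1
    rw [show j ≫ pullback.fst f h = _ from pullback.lift_fst _ _ _]
    exact h1
  refine (congrArg IsIrreducible ?_).mp ((hgi (Y'.residueField p)).image j.base j.continuous.continuousOn)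
  have hjf : ∀ w, pullback.fst f h (j w) =
      (FBase.bcπ (f.fiberToSpecResidueField (h p)) (Y'.residueField p) ≫ f.fiberι (h p)) w := fun w => by
    rw [← Scheme.Hom.comp_apply, pullback.lift_fst]
  ext z
  constructor
  · rintro ⟨w, hw, rfl⟩
    refine ⟨?_, (show pullback.fst f h (j w) ∈ connectedComponentIn (f.base ⁻¹' {h p}) (g.base (h p)) by rw [hjf w]; exact hw)⟩
    show pullback.snd f h (j w) = p
    rw [← Scheme.Hom.comp_apply, pullback.lift_snd, Scheme.Hom.comp_apply, Scheme.fromSpecResidueField_apply]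
  · rintro ⟨hz1, hz2⟩
    obtain ⟨w, hw, -⟩ := Scheme.exists_preimage_of_isPullback hsq z (IsLocalRing.closedPoint (Y'.residueField p))
      ((show pullback.snd f h z = p from hz1).trans (Scheme.fromSpecResidueField_apply p _).symm)
    refine ⟨w, ?_, hw⟩
    show _ ∈ connectedComponentIn _ _
    rw [← hjf w, hw]
    exact hz2

/-- Lifting of generizations along components of constant dimension. -/
theorem exists_lift_component {Y' : Scheme.{u}} (f : X ⟶ Y) [LocallyOfFiniteType f] (g : Y ⟶ X) (hg : g ≫ f = 𝟙 Y)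
    (hgi : ∀ (y : Y) (K : Type u) [Field K] [Algebra (IsLocalRing.ResidueField (Y.presheaf.stalk y)) K],
      IsIrreducible ((FBase.bcπ (f.fiberToSpecResidueField y) K ≫ f.fiberι y).base ⁻¹'
        connectedComponentIn (f.base ⁻¹' {y}) (g.base y)))
    (h : Y' ⟶ Y) {p q : Y'} (hqp : q ⤳ p)
    (hdim : topologicalKrullDim ↥(connectedComponentIn (f.base ⁻¹' {h q}) (g.base (h q))) =
      topologicalKrullDim ↥(connectedComponentIn (f.base ⁻¹' {h p}) (g.base (h p))))
    (x' : ↥(pullback f h)) (hx' : pullback.snd f h x' = p)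
    (hxC : pullback.fst f h x' ∈ connectedComponentIn (f.base ⁻¹' {h p}) (g.base (h p))) :
    ∃ z : ↥(pullback f h), z ⤳ x' ∧ pullback.snd f h z = q ∧
      pullback.fst f h z ∈ connectedComponentIn (f.base ⁻¹' {h q}) (g.base (h q)) := by
  haveI : LocallyOfFiniteType (pullback.snd f h) := MorphismProperty.pullback_snd _ _ inferInstance
  let g' : Y' ⟶ pullback f h := pullback.lift (h ≫ g) (𝟙 Y') (by rw [Category.assoc, hg, Category.comp_id, Category.id_comp])
  have hg' : g' ≫ pullback.snd f h = 𝟙 Y' := pullback.lift_snd _ _ _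
  have hgg : g' ≫ pullback.fst f h = h ≫ g := pullback.lift_fst _ _ _
  have hirr := fun r => isIrreducible_component_bc f h g hg g' hg' hgg r (hgi (h r))
  have hfg : ∀ a : Y, f (g a) = a := fun a => by rw [← Scheme.Hom.comp_apply, hg]; rfl
  have hsec : ∀ r, pullback.snd f h (g' r) = r := fun r => by rw [← Scheme.Hom.comp_apply, hg']; rfl
  have hd : ∀ r, topologicalKrullDim ↥(connectedComponentIn ((pullback.snd f h).base ⁻¹' {r}) (g'.base r)) =
      topologicalKrullDim ↥(connectedComponentIn (f.base ⁻¹' {h r}) (g.base (h r))) := fun r => by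
    rw [dim_component_eq_fibreDimAt (pullback.snd f h) (hsec r) (hirr r),
      dim_component_eq_fibreDimAt f (hfg (h r)) (isIrreducible_of_geom f (connectedComponentIn_subset _ _) (hgi (h r))),
      FibreDimChart.fibreDimAt_of_isPullback f h _ _ (IsPullback.of_hasPullback f h) (g' r),
      ← Scheme.Hom.comp_apply, hgg, Scheme.Hom.comp_apply]
  have h1 := (dim_component_le_of_irreducible (pullback.snd f h) g' hg' hirr hqp).2
    ((hd p).trans (hdim.symm.trans (hd q).symm))
  obtain ⟨ν, hν, -, hC⟩ := exists_generic_component (pullback.snd f h) (hsec q) (hirr q)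
  have h2 : x' ∈ connectedComponentIn ((pullback.snd f h).base ⁻¹' {p}) (g'.base p) := by
    rw [GeomConn.connectedComponentIn_fibre_bc f h g hg g' hg' hgg p]; exact ⟨hx', hxC⟩
  have h3 : ν ∈ connectedComponentIn ((pullback.snd f h).base ⁻¹' {q}) (g'.base q) :=
    hC ▸ ⟨subset_closure rfl, hν⟩
  rw [GeomConn.connectedComponentIn_fibre_bc f h g hg g' hg' hgg q] at h3
  exact ⟨ν, specializes_iff_mem_closure.2
    (closure_minimal (hC ▸ Set.inter_subset_left) isClosed_closure (h1 h2)), hν, h3.2⟩

/-- Universal openness along a component of locally constant dimension. -/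
theorem isUnivOpenAt_component [IsLocallyNoetherian Y] (f : X ⟶ Y) [LocallyOfFiniteType f] (g : Y ⟶ X)
    (hg : g ≫ f = 𝟙 Y)
    (hgi : ∀ (y : Y) (K : Type u) [Field K] [Algebra (IsLocalRing.ResidueField (Y.presheaf.stalk y)) K],
      IsIrreducible ((FBase.bcπ (f.fiberToSpecResidueField y) K ≫ f.fiberι y).base ⁻¹'
        connectedComponentIn (f.base ⁻¹' {y}) (g.base y)))
    {y : Y}
    (hc : ∃ V ∈ nhds y, ∀ z ∈ V, topologicalKrullDim ↥(connectedComponentIn (f.base ⁻¹' {z}) (g.base z)) =
      topologicalKrullDim ↥(connectedComponentIn (f.base ⁻¹' {y}) (g.base y)))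
    {x : X} (hx : x ∈ connectedComponentIn (f.base ⁻¹' {y}) (g.base y)) : EGA43.IsUnivOpenAt f x := by
  obtain ⟨V, hV, hconst⟩ := hc
  obtain ⟨O, hOV, hO, hyO⟩ := mem_nhds_iff.1 hV
  have hfx : f x = y := connectedComponentIn_subset (f.base ⁻¹' {y}) _ hx
  refine isUnivOpenAt_of_dvrLift f x fun A _ _ _ h hh x' hx' hc' => ?_
  have hcp : h (IsLocalRing.closedPoint A) = y := hh.trans hfx
  have hb : h (⟨⊥, Ideal.isPrime_bot⟩ : PrimeSpectrum A) ∈ O :=
    ((bot_specializes (IsLocalRing.closedPoint A)).map h.continuous).mem_open hO (by rw [hcp]; exact hyO)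
  obtain ⟨z, hz, hz', -⟩ := exists_lift_component f g hg hgi h (bot_specializes (IsLocalRing.closedPoint A))
    (by rw [hcp]; exact hconst _ (hOV hb)) x' hc' (by rw [hcp, hx']; exact hx)
  exact ⟨z, hz, fun hc'' => closedPoint_ne_bot (hc''.symm.trans hz')⟩

end Groth.Agent.Chevalley
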