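import Groth.Agent.Chevalley.ConnectedGeneric
import Groth.Agent.Chevalley.SectionIsOpen

/-!
# Generization stability of the components along a section
-/

set_option autoImplicit false
set_option linter.style.haveILetI false
set_option backward.isDefEq.respectTransparency.types false

universe u

open CategoryTheory CategoryTheory.Limits AlgebraicGeometry TopologicalSpace Topology
open Groth.Agent.DimTheory Groth.Agent.EquidimChart

namespace Groth.Agent.Chevalley

/-- A connected part of a reduced special fibre cannot touch two separated pieces of the generic fibre. -/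
theorem false_of_separated {P : Scheme.{u}} {A : Type u} [CommRing A] [IsDomain A] [IsDiscreteValuationRing A]
    (p : P ⟶ Spec (CommRingCat.of A)) [LocallyOfFiniteType p] (c : Spec (CommRingCat.of A))
    (hc : c = IsLocalRing.closedPoint A) {C : Set P} (hCc : C ⊆ p.base ⁻¹' {c}) (hC : _root_.IsPreconnected C)
    (hred : ∀ w ∈ C, _root_.IsReduced ((p.fiber (p w)).presheaf.stalk (p.asFiber w)))
    (hmax : ∀ w ∈ C, ∀ ξ, ξ ⤳ w → (∀ z, z ⤳ ξ → z = ξ) → p ξ ≠ c)
    {U₁ U₂ : Set P} (h₁ : IsOpen U₁) (h₂ : IsOpen U₂) (hdis : Disjoint U₁ U₂) (hU : U₁ ∪ U₂ = (p.base ⁻¹' {c})ᶜ)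
    (hw₁ : (C ∩ closure U₁).Nonempty) (hw₂ : (C ∩ closure U₂).Nonempty) : False := by
  haveI : IsLocallyNoetherian P := LocallyOfFiniteType.isLocallyNoetherian p
  have hcov : C ⊆ closure U₁ ∪ closure U₂ := by
    intro w hw
    obtain ⟨ξ, hξ, hξmax⟩ := FlatMorLib.exists_maximal_generization w
    have : ξ ∈ U₁ ∪ U₂ := by rw [hU]; exact hmax w hw ξ hξ hξmax
    rcases this with h | h
    · exact Or.inl (closure_mono (Set.singleton_subset_iff.2 h) hξ.mem_closure)
    · exact Or.inr (closure_mono (Set.singleton_subset_iff.2 h) hξ.mem_closure)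
  obtain ⟨w, hw, hw1, hw2⟩ := isPreconnected_closed_iff.1 hC _ _ isClosed_closure isClosed_closure hcov hw₁ hw₂
  have hpw : p w = c := hCc hw
  have hmem : ∀ U : Set P, IsOpen U → U ⊆ U₁ ∪ U₂ → w ∈ closure U → ∃ ξ, ξ ∈ U ∧ ξ ⤳ w ∧ p ξ ≠ p w := by
    intro U hUo hUs hwU
    obtain ⟨U', hwU', -, hU'⟩ := exists_nbhd_max_specializes (x := w) (U := ⊤) trivial
    obtain ⟨v, hv, hvU⟩ := mem_closure_iff.1 hwU U' U'.2 hwU'
    obtain ⟨ξ, hξ, hξmax⟩ := FlatMorLib.exists_maximal_generization v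
    refine ⟨ξ, hξ.mem_open hUo hvU, hU' ξ (hξ.mem_open U'.2 hv) hξmax, ?_⟩
    have := hUs (hξ.mem_open hUo hvU)
    rw [hU] at this
    rw [hpw]
    exact this
  obtain ⟨ξ₁, hξ₁, hs₁, hn₁⟩ := hmem U₁ h₁ Set.subset_union_left hw1
  obtain ⟨ξ₂, hξ₂, hs₂, hn₂⟩ := hmem U₂ h₂ Set.subset_union_right hw2
  obtain ⟨t, ht⟩ := exists_maximalIdeal_stalk_closedPoint (p w) (hpw.trans hc)
  have hpre := isPreconnected_generizations p w ht (hred w hw) fun ξ hξ hξm => hpw ▸ hmax w hw ξ hξ hξm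
  obtain ⟨z, -, hz1, hz2⟩ := hpre U₁ U₂ h₁ h₂ (fun v hv => by
    rw [hU]; exact fun h => hv.2 (h.trans hpw.symm)) ⟨ξ₁, ⟨hs₁, hn₁⟩, hξ₁⟩ ⟨ξ₂, ⟨hs₂, hn₂⟩, hξ₂⟩
  exact hdis.ne_of_mem hz1 hz2 rfl

theorem isOpen_closedPoint_compl {P : Scheme.{u}} {A : Type u} [CommRing A] [IsDomain A] [IsDiscreteValuationRing A]
    (p : P ⟶ Spec (CommRingCat.of A)) (c : Spec (CommRingCat.of A)) (hc : c = IsLocalRing.closedPoint A) :
    IsOpen (p.base ⁻¹' {c})ᶜ := by
  refine ((IsClosed.preimage p.continuous ?_)).isOpen_compl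
  rw [hc]
  exact IsLocalRing.isClosed_singleton_closedPoint A

/-- A component of the generic fibre and its complement are open. -/
theorem isOpen_generic_component {P : Scheme.{u}} {A : Type u} [CommRing A] [IsDomain A] [IsDiscreteValuationRing A]
    (p : P ⟶ Spec (CommRingCat.of A)) [LocallyOfFiniteType p] (c η : Spec (CommRingCat.of A))
    (hc : c = IsLocalRing.closedPoint A) (hηc : η ≠ c) (x : P) (hx : p x = η) :
    IsOpen (connectedComponentIn (p.base ⁻¹' {η}) x) ∧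
      IsOpen ((p.base ⁻¹' {c})ᶜ \ connectedComponentIn (p.base ⁻¹' {η}) x) := by
  have hG : ∀ u, p u ≠ c → p u = η := fun u hu => by
    rw [eq_bot_of_ne_closedPoint (p u) (hc ▸ hu), eq_bot_of_ne_closedPoint η (hc ▸ hηc)]
  have key : ∀ u, p u = η → IsOpen (connectedComponentIn (p.base ⁻¹' {η}) u) := by
    intro u hu
    obtain ⟨V, hV1, hV2⟩ := exists_open_inter_fibre_subset p hu
    have : connectedComponentIn (p.base ⁻¹' {η}) u = (V : Set P) ∩ (p.base ⁻¹' {c})ᶜ := by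
      refine Set.Subset.antisymm (fun a ha => ⟨hV1 ha, fun h => hηc ?_⟩) fun a ha => hV2 ⟨ha.1, hG a ha.2⟩
      exact ((connectedComponentIn_subset (p.base ⁻¹' {η}) u ha : p a = η).symm.trans h)
    rw [this]
    exact V.2.inter (isOpen_closedPoint_compl p c hc)
  refine ⟨key x hx, isOpen_iff_mem_nhds.2 fun u hu => ?_⟩
  have hu' := hG u hu.1
  refine Filter.mem_of_superset ((key u hu').mem_nhds (mem_connectedComponentIn hu')) fun a ha => ⟨?_, fun h => hu.2 ?_⟩
  · exact fun h => hηc ((connectedComponentIn_subset (p.base ⁻¹' {η}) u ha : p a = η).symm.trans h)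
  · rw [connectedComponentIn_eq h, ← connectedComponentIn_eq ha]
    exact mem_connectedComponentIn hu'

variable {X Y : Scheme.{u}}

/-- Stability under generization, without irreducibility. -/
theorem mem_sectionComponents_of_reduced [IsLocallyNoetherian Y] (f : X ⟶ Y) [LocallyOfFiniteType f]
    (g : Y ⟶ X) (hg : g ≫ f = 𝟙 Y) {a b : X} (hab : a ⤳ b) {y : Y}
    (hb : b ∈ connectedComponentIn (f.base ⁻¹' {y}) (g.base y))
    (hyp : ∀ x ∈ connectedComponentIn (f.base ⁻¹' {y}) (g.base y),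
      EGA43.IsUnivOpenAt f x ∧ RedAlong f g y x) : a ∈ MoreMor.sectionComponents f g := by
  have hfb : f b = y := connectedComponentIn_subset (f.base ⁻¹' {y}) _ hb
  subst hfb
  by_cases hne : a = b
  · exact hne ▸ hb
  haveI : IsLocallyNoetherian X := LocallyOfFiniteType.isLocallyNoetherian f
  obtain ⟨A, _, _, _, k, c, η, hc, hηc, hη, rfl, rfl⟩ := exists_dvr_source f hab hne
  have hηne : η ≠ c := fun h => hne (by rw [h])
  set h := k ≫ f with hdef
  have hh : ∀ r, h r = f (k r) := fun r => Scheme.Hom.comp_apply _ _ _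
  haveI : LocallyOfFiniteType (pullback.snd f h) := MorphismProperty.pullback_snd _ _ inferInstance
  let s : Spec (CommRingCat.of A) ⟶ pullback f h := pullback.lift k (𝟙 _) (by rw [Category.id_comp])
  have hs1 : ∀ r, pullback.fst f h (s r) = k r := fun r => by
    rw [← Scheme.Hom.comp_apply, pullback.lift_fst]
  have hs2 : ∀ r, pullback.snd f h (s r) = r := fun r => by
    rw [← Scheme.Hom.comp_apply, pullback.lift_snd]; rfl
  let g' := sectionBC f g hg h
  have hsec : ∀ r, pullback.snd f h (g' r) = r := fun r => by rw [← Scheme.Hom.comp_apply, sectionBC_snd]; rfl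
  have hbc := GeomConn.connectedComponentIn_fibre_bc f h g hg g' (sectionBC_snd f g hg _) (sectionBC_fst f g hg _)
  let C' := connectedComponentIn ((pullback.snd f h).base ⁻¹' {c}) (g'.base c)
  let D := connectedComponentIn ((pullback.snd f h).base ⁻¹' {η}) (g'.base η)
  have hC' : ∀ w ∈ C', pullback.snd f h w = c ∧
      pullback.fst f h w ∈ connectedComponentIn (f.base ⁻¹' {f (k c)}) (g.base (f (k c))) := fun w hw => by
    have hw' : w ∈ connectedComponentIn ((pullback.snd f h).base ⁻¹' {c}) (g'.base c) := hw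
    rw [hbc c, hh c] at hw'
    exact hw'
  by_contra hnot
  obtain ⟨hD1, hD2⟩ := isOpen_generic_component (pullback.snd f h) c η hc hηne (g' η) (hsec η)
  have hnD : s η ∉ D := fun hm => hnot (by
    have hm' : s η ∈ connectedComponentIn ((pullback.snd f h).base ⁻¹' {η}) (g'.base η) := hm
    rw [hbc η] at hm'
    have h2 := hm'.2
    rw [Set.mem_preimage, hs1, hh] at h2
    exact h2)
  refine false_of_separated (pullback.snd f h) c hc (C := C') (connectedComponentIn_subset _ _)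
    isPreconnected_connectedComponentIn (fun w hw => ?_) (fun w hw ξ hξ hξmax hξc => ?_) hD1 hD2
    Set.disjoint_sdiff_right (Set.union_sdiff_cancel fun u hu hu' => hηne
      ((connectedComponentIn_subset ((pullback.snd f h).base ⁻¹' {η}) _ hu : pullback.snd f h u = η).symm.trans hu'))
    ⟨g' c, mem_connectedComponentIn (show g' c ∈ (pullback.snd f h).base ⁻¹' {c} from hsec c), closure_mono
      (show ({g' η} : Set _) ⊆ D from Set.singleton_subset_iff.2 (mem_connectedComponentIn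
        (show g' η ∈ (pullback.snd f h).base ⁻¹' {η} from hsec η))) (hηc.map g'.continuous).mem_closure⟩
    ⟨s c, ?_, closure_mono (show ({s η} : Set _) ⊆ ((pullback.snd f h).base ⁻¹' {c})ᶜ \ D from
      Set.singleton_subset_iff.2 ⟨?_, hnD⟩) (hηc.map s.continuous).mem_closure⟩
  · refine isReduced_fibre_stalk f h w {pullback.fst f h w} rfl ?_
    obtain ⟨hw1, hw2⟩ := hC' w hw
    rw [hw1, hh]
    exact fun K _ _ b hb => (hyp _ hw2).2 K b hb
  · have hwc := (hC' w hw).1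
    have hξC : ξ ∈ C' := by
      show ξ ∈ connectedComponentIn _ _
      rw [connectedComponentIn_eq hw]
      exact subset_component (pullback.snd f h) hξ hξc hwc ⟨subset_closure rfl, hξc⟩
    obtain ⟨z, hz, hzne⟩ := exists_ne_closedPoint (pullback.snd f h) ξ ((hyp _ (hC' ξ hξC).2).1 _ h ξ rfl) (hξc.trans hc)
    exact hzne ((hξmax z hz).symm ▸ hξc.trans hc)
  · show s c ∈ connectedComponentIn _ _
    rw [hbc c]
    refine ⟨hs2 c, ?_⟩
    show pullback.fst f h (s c) ∈ connectedComponentIn (f.base ⁻¹' {h c}) (g.base (h c))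
    rw [hs1, hh]
    exact hb
  · exact fun hm => hηne ((hs2 η).symm.trans hm)

/-- A quasi-compact open with connected fibre joining a point to the section. -/
theorem exists_connected_open (f : X ⟶ Y) [IsLocallyNoetherian X] [LocallyOfFiniteType f] {y : Y} {x₀ x : X}
    (hx₀ : f x₀ = y) (hx : x ∈ connectedComponentIn (f.base ⁻¹' {y}) x₀) :
    ∃ U : X.Opens, IsCompact (U : Set X) ∧ x ∈ U ∧ x₀ ∈ U ∧
      _root_.IsPreconnected ((U : Set X) ∩ f.base ⁻¹' {y}) := by
  haveI : LocallyOfFiniteType (f.fiberToSpecResidueField y) := MorphismProperty.pullback_snd _ _ ‹_›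
  haveI : IsLocallyNoetherian (f.fiber y) := LocallyOfFiniteType.isLocallyNoetherian (f.fiberToSpecResidueField y)
  haveI : LocallyConnectedSpace (f.fiber y) :=
    IrredComp.locallyConnectedSpace fun p => IrredComp.exists_noetherian_nhd (f.fiber y) p
  have key : ∀ w, f w = y → ∃ A : X.Opens, IsCompact (A : Set X) ∧ w ∈ A ∧
      _root_.IsPreconnected ((A : Set X) ∩ f.base ⁻¹' {y}) := by
    intro w hw
    obtain ⟨w', rfl⟩ : w ∈ Set.range (f.fiberι y) := by rw [f.range_fiberι]; exact hw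
    obtain ⟨A₀, hA₀, hwA₀, -⟩ := exists_isAffineOpen_mem_and_subset (X := X) (x := f.fiberι y w') (U := ⊤) trivial
    have hopen := (A₀.2.preimage (f.fiberι y).continuous).connectedComponentIn (x := w')
    obtain ⟨O, hO, hO'⟩ := (f.fiberι y).isEmbedding.isInducing.isOpen_iff.1 hopen
    haveI : IsNoetherianRing Γ(X, A₀) := IsLocallyNoetherian.component_noetherian ⟨A₀, hA₀⟩
    haveI := noetherianSpace_of_isAffineOpen A₀ hA₀
    refine ⟨⟨(A₀ : Set X) ∩ O, A₀.2.inter hO⟩, ?_, ⟨hwA₀, ?_⟩, ?_⟩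
    · have h1 := (@NoetherianSpace.isCompact _ _ (noetherianSpace_of_isAffineOpen A₀ hA₀) (Subtype.val ⁻¹' O)).image continuous_subtype_val
      refine (congrArg IsCompact ?_).mp h1
      ext a
      exact ⟨fun ⟨b, hb, e⟩ => e ▸ ⟨b.2, hb⟩, fun ha => ⟨⟨a, ha.1⟩, ha.2, rfl⟩⟩
    · show w' ∈ f.fiberι y ⁻¹' O
      rw [hO']
      exact mem_connectedComponentIn hwA₀
    · refine (congrArg _root_.IsPreconnected ?_).mp
        ((isPreconnected_connectedComponentIn (F := f.fiberι y ⁻¹' (A₀ : Set X)) (x := w')).image (f.fiberι y) (f.fiberι y).continuous.continuousOn)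
      ext a
      constructor
      · rintro ⟨b, hb, rfl⟩
        exact ⟨⟨connectedComponentIn_subset (f.fiberι y ⁻¹' (A₀ : Set X)) _ hb, show b ∈ f.fiberι y ⁻¹' O from hO' ▸ hb⟩,
          FlatEquidim.fiberι_apply_eq f y b⟩
      · rintro ⟨⟨-, ha2⟩, ha⟩
        obtain ⟨b, rfl⟩ : a ∈ Set.range (f.fiberι y) := by rw [f.range_fiberι]; exact ha
        exact ⟨b, hO' ▸ ha2, rfl⟩
  choose A hA1 hA2 hA3 using key
  let T : Set X := {w | ∃ U : X.Opens, IsCompact (U : Set X) ∧ w ∈ U ∧ x₀ ∈ U ∧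
    _root_.IsPreconnected ((U : Set X) ∩ f.base ⁻¹' {y})}
  have hstep : ∀ w (hw : f w = y), ∀ v ∈ A w hw, f v = y → v ∈ T → ∀ a ∈ A w hw, f a = y → a ∈ T := by
    rintro w hw v hv hfv ⟨U, hU1, hU2, hU3, hU4⟩ a ha hfa
    refine ⟨U ⊔ A w hw, ?_, ?_, ?_, ?_⟩
    · rw [TopologicalSpace.Opens.coe_sup]; exact hU1.union (hA1 w hw)
    · exact Or.inr ha
    · exact Or.inl hU3
    · rw [TopologicalSpace.Opens.coe_sup, Set.union_inter_distrib_right]
      exact hU4.union v ⟨hU2, hfv⟩ ⟨hv, hfv⟩ (hA3 w hw)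
  by_contra hnot
  let U1 : Set X := ⋃ w : {w // f w = y ∧ w ∈ T}, (A w.1 w.2.1 : Set X)
  let U2 : Set X := ⋃ w : {w // f w = y ∧ w ∉ T}, (A w.1 w.2.1 : Set X)
  have hx₀T : x₀ ∈ T := ⟨A x₀ hx₀, hA1 _ _, hA2 _ _, hA2 _ _, hA3 _ _⟩
  have hfx : f x = y := connectedComponentIn_subset (f.base ⁻¹' {y}) _ hx
  obtain ⟨a, ha, ha1, ha2⟩ := isPreconnected_connectedComponentIn (F := f.base ⁻¹' {y}) (x := x₀) U1 U2
    (isOpen_iUnion fun w => (A w.1 w.2.1).2) (isOpen_iUnion fun w => (A w.1 w.2.1).2)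
    (fun w hw => by
      have hfw : f w = y := connectedComponentIn_subset (f.base ⁻¹' {y}) _ hw
      by_cases hwT : w ∈ T
      · exact Or.inl (Set.mem_iUnion.2 ⟨⟨w, hfw, hwT⟩, hA2 w hfw⟩)
      · exact Or.inr (Set.mem_iUnion.2 ⟨⟨w, hfw, hwT⟩, hA2 w hfw⟩))
    ⟨x₀, mem_connectedComponentIn hx₀, Set.mem_iUnion.2 ⟨⟨x₀, hx₀, hx₀T⟩, hA2 x₀ hx₀⟩⟩
    ⟨x, hx, Set.mem_iUnion.2 ⟨⟨x, hfx, hnot⟩, hA2 x hfx⟩⟩
  have hfa : f a = y := connectedComponentIn_subset (f.base ⁻¹' {y}) _ ha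
  obtain ⟨⟨w1, hw1, hw1T⟩, hm1⟩ := Set.mem_iUnion.1 ha1
  obtain ⟨⟨w2, hw2, hw2T⟩, hm2⟩ := Set.mem_iUnion.1 ha2
  exact hw2T (hstep w2 hw2 a hm2 hfa (hstep w1 hw1 w1 (hA2 _ _) hw1 hw1T a hm1 hfa) w2 (hA2 _ _) hw2)

/-- Points near a point of a component along the section, inside its closure. -/
theorem exists_nhd_inter_closure' [IsLocallyNoetherian Y] (f : X ⟶ Y) [LocallyOfFiniteType f] (g : Y ⟶ X)
    (hg : g ≫ f = 𝟙 Y) (x : X) (hx : x ∈ MoreMor.sectionComponents f g) :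
    ∃ O : Set X, IsOpen O ∧ x ∈ O ∧ O ∩ closure {x} ⊆ MoreMor.sectionComponents f g := by
  have hfg : ∀ a : Y, f (g a) = a := fun a => by rw [← Scheme.Hom.comp_apply, hg]; rfl
  haveI : IsLocallyNoetherian X := LocallyOfFiniteType.isLocallyNoetherian f
  obtain ⟨U, hUc, hxU, hgU, hpre⟩ := exists_connected_open f (hfg (f x)) hx
  haveI : CompactSpace (U : Scheme.{u}) := isCompact_iff_compactSpace.1 hUc
  let h := U.ι ≫ f
  haveI : QuasiCompact h := QuasiCompact.of_comp h Y.toSpecΓ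
  let x0 := Y.fromSpecResidueField (f x)
  let s0 : Spec (Y.residueField (f x)) ⟶ (U : Scheme.{u}) := IsOpenImmersion.lift U.ι (x0 ≫ g) (by
    rw [Scheme.Opens.range_ι]
    rintro _ ⟨p, rfl⟩
    rw [Scheme.Hom.comp_apply, Scheme.fromSpecResidueField_apply]
    exact hgU)
  let σ : Spec (Y.residueField (f x)) ⟶ h.fiber (f x) := pullback.lift s0 (𝟙 _) (by
    rw [Category.id_comp, ← Category.assoc, IsOpenImmersion.lift_fac, Category.assoc, hg, Category.comp_id])
  haveI : ConnectedSpace ↥(h.fiber (f x)) :=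
    { toPreconnectedSpace := ⟨by
        rw [← (h.fiberι (f x) ≫ U.ι).isEmbedding.isInducing.isPreconnected_image, Set.image_univ]
        refine (congrArg _root_.IsPreconnected ?_).mp hpre
        rw [Scheme.Hom.comp_base, TopCat.coe_comp, Set.range_comp]
        ext a
        constructor
        · rintro ⟨haU, ha⟩
          refine ⟨⟨a, haU⟩, ?_, rfl⟩
          rw [h.range_fiberι]
          exact ha
        · rintro ⟨b, hb, rfl⟩
          rw [h.range_fiberι] at hb
          exact ⟨b.2, hb⟩⟩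
      toNonempty := ⟨σ (IsLocalRing.closedPoint (Y.residueField (f x)))⟩ }
  haveI := GeomConn.connectedSpace_bcTo (k := Y.residueField (f x)) (K := SeparableClosure (Y.residueField (f x)))
    (h.fiberToSpecResidueField (f x)) σ (pullback.lift_snd _ _ _)
  have hone : (GeomIrredStrata.gc h (f x)).2 = 1 :=
    GeomIrredStrata.connectedSpace_iff_card.1 (inferInstanceAs (ConnectedSpace
      ↥(GeomConn.bcTo (k := Y.residueField (f x)) (SeparableClosure (Y.residueField (f x))) (h.fiberToSpecResidueField (f x)))))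
  obtain ⟨W, hxW, hW⟩ := GeomIrredStrata.gc_near h (f x)
  refine ⟨(U : Set X) ∩ f.base ⁻¹' ((W : Set Y) ∩ g.base ⁻¹' (U : Set X)),
    U.2.inter ((W.2.inter (U.2.preimage g.continuous)).preimage f.continuous),
    ⟨hxU, hxW, ?_⟩, ?_⟩
  · show g (f x) ∈ (U : Set X)
    exact hgU
  rintro z ⟨⟨hzU, hzW, hgz⟩, hxz⟩
  have hsp : f x ⤳ f z := (specializes_iff_mem_closure.2 hxz).map f.continuous
  haveI : ConnectedSpace ↥(MoreMor.geomFiber h (f z)) :=
    GeomIrredStrata.connectedSpace_iff_card.2 ((congrArg Prod.snd (hW _ hzW hsp)).trans hone)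
  let q := pullback.fst (h.fiberToSpecResidueField (f z)) (Spec.map (CommRingCat.ofHom
    (algebraMap (Y.residueField (f z)) (SeparableClosure (Y.residueField (f z))))))
  have hq : Set.range (q ≫ h.fiberι (f z) ≫ U.ι) = (U : Set X) ∩ f.base ⁻¹' {f z} := by
    ext w
    constructor
    · rintro ⟨v, rfl⟩
      simp only [Scheme.Hom.comp_apply]
      refine ⟨(h.fiberι (f z) (q v)).2, ?_⟩
      show f (U.ι _) = f z
      rw [← Scheme.Hom.comp_apply]
      exact FlatEquidim.fiberι_apply_eq h (f z) (q v)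
    · rintro ⟨hwU, hw⟩
      obtain ⟨v, hv⟩ : (⟨w, hwU⟩ : U) ∈ Set.range (h.fiberι (f z)) := by rw [h.range_fiberι]; exact hw
      haveI : Surjective (Spec.map (CommRingCat.ofHom
          (algebraMap (Y.residueField (f z)) (SeparableClosure (Y.residueField (f z)))))) :=
        ⟨fun p => ⟨(⊥ : PrimeSpectrum (SeparableClosure (Y.residueField (f z)))), Subsingleton.elim
          (α := PrimeSpectrum (Y.residueField (f z))) _ _⟩⟩
      haveI : Surjective q := MorphismProperty.pullback_fst _ _ ‹_›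
      obtain ⟨b, hb⟩ := q.surjective v
      exact ⟨b, by simp only [Scheme.Hom.comp_apply, hb, hv]; rfl⟩
  haveI : PreconnectedSpace ↥(pullback (h.fiberToSpecResidueField (f z)) (Spec.map (CommRingCat.ofHom
      (algebraMap (Y.residueField (f z)) (SeparableClosure (Y.residueField (f z))))))) :=
    (inferInstance : ConnectedSpace ↥(MoreMor.geomFiber h (f z))).toPreconnectedSpace
  have hpre' : _root_.IsPreconnected ((U : Set X) ∩ f.base ⁻¹' {f z}) := hq ▸ isPreconnected_range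
    (Scheme.Hom.continuous _)
  exact hpre'.subset_connectedComponentIn ⟨hgz, hfg (f z)⟩ Set.inter_subset_right ⟨hzU, rfl⟩

/-- Openness from stability under generization and closures of points. -/
theorem mem_nhds_of_stable [IsLocallyNoetherian X] {S : Set X}
    {a : X} (hgen : ∀ z : X, z ⤳ a → z ∈ S)
    (hloc : ∀ a ∈ S, ∃ O : Set X, IsOpen O ∧ a ∈ O ∧ O ∩ closure {a} ⊆ S) : S ∈ nhds a := by
  by_contra hn
  obtain ⟨U, hU, haU, -⟩ := exists_isAffineOpen_mem_and_subset (X := X) (x := a) (U := ⊤) trivial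
  haveI : IsAffine (U : Scheme.{u}) := hU
  haveI : IsLocallyNoetherian (U : Scheme.{u}) := LocallyOfFiniteType.isLocallyNoetherian U.ι
  haveI : IsNoetherian (U : Scheme.{u}) := { }
  let T : Set (U : Scheme.{u}) := U.ι ⁻¹' Sᶜ
  obtain ⟨a₁, ha₁⟩ : a ∈ Set.range U.ι := by rw [Scheme.Opens.range_ι]; exact haU
  have haT : a₁ ∈ closure T := by
    refine mem_closure_iff.2 fun O hO haO => ?_
    have h1 : U.ι '' O ∈ nhds a := (U.ι.isOpenEmbedding.isOpenMap O hO).mem_nhds ⟨_, haO, ha₁⟩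
    by_contra hne
    refine hn (Filter.mem_of_superset h1 ?_)
    rintro _ ⟨w, hw, rfl⟩
    by_contra hwS
    exact hne ⟨w, hw, hwS⟩
  obtain ⟨F, hF, hFc, hFi, hFT⟩ := NoetherianSpace.exists_finite_set_isClosed_irreducible (isClosed_closure (s := T))
  obtain ⟨Z₀, hZ₀, haZ₀⟩ := Set.mem_sUnion.1 (hFT ▸ haT)
  obtain ⟨Z, hle, hmax⟩ := hF.exists_le_maximal hZ₀
  obtain ⟨ζ, hζ⟩ := QuasiSober.sober (hFi Z hmax.1) (hFc Z hmax.1)
  have hζa : U.ι ζ ∈ S := hgen _ (ha₁ ▸ (hζ.specializes (hle haZ₀)).map U.ι.continuous)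
  obtain ⟨O, hO, hζO, hOS⟩ := hloc _ hζa
  let R : Set (U : Scheme.{u}) := ⋃₀ {Z' ∈ F | ζ ∉ Z'}
  have hR : IsClosed R := by
    rw [show R = ⋃ Z' ∈ {Z' ∈ F | ζ ∉ Z'}, Z' from Set.sUnion_eq_biUnion]
    exact (hF.subset fun _ h => h.1).isClosed_biUnion fun Z' h => hFc Z' h.1
  have hζR : ζ ∉ R := by
    rintro ⟨Z', ⟨-, h⟩, hmem⟩
    exact h hmem
  have hζT : ζ ∈ closure T := by rw [hFT]; exact ⟨Z, hmax.1, hζ.mem⟩
  obtain ⟨b, ⟨hbO, hbR⟩, hbT⟩ := mem_closure_iff.1 hζT (U.ι ⁻¹' O ∩ Rᶜ)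
    ((hO.preimage U.ι.continuous).inter hR.isOpen_compl) ⟨hζO, hζR⟩
  obtain ⟨Z', hZ', hbZ'⟩ := Set.mem_sUnion.1 (hFT ▸ subset_closure hbT)
  have hζZ' : ζ ∈ Z' := by
    by_contra h
    exact hbR ⟨Z', ⟨hZ', h⟩, hbZ'⟩
  have hZZ' : Z ⊆ Z' := hζ.def ▸ closure_minimal (Set.singleton_subset_iff.2 hζZ') (hFc Z' hZ')
  have hbZ : b ∈ Z := hmax.2 hZ' hZZ' hbZ'
  exact hbT (hOS ⟨hbO, ((hζ.specializes hbZ).map U.ι.continuous).mem_closure⟩)

end Groth.Agent.Chevalley
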