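import Groth.Agent.Chevalley.SectionOpen
import Groth.Agent.DivPts.SectionFibre

/-!
# A unique component through a point of a reduced irreducible special fibre
-/

set_option autoImplicit false
set_option linter.style.haveILetI false
set_option backward.isDefEq.respectTransparency.types false

universe u

open CategoryTheory CategoryTheory.Limits AlgebraicGeometry TopologicalSpace Topology
open Groth.Agent.DimTheory Groth.Agent.EquidimChart

namespace Groth.Agent.Chevalley

variable {X Y : Scheme.{u}}

/-- A Noetherian local ring with a principal prime containing another prime properly is a domain. -/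
theorem eq_bot_of_principal_prime {O : Type u} [CommRing O] [IsLocalRing O] [IsNoetherianRing O] {t : O}
    (hP : (Ideal.span {t}).IsPrime) {Q : Ideal O} [Q.IsPrime] (hQ : Q ≤ Ideal.span {t}) (htQ : t ∉ Q) : Q = ⊥ := by
  refine Submodule.eq_bot_of_le_smul_of_le_jacobson_bot (Ideal.span {t}) Q (IsNoetherian.noetherian Q) ?_ ?_
  · intro a ha
    obtain ⟨b, rfl⟩ := Ideal.mem_span_singleton'.1 (hQ ha)
    rw [mul_comm]
    exact Submodule.smul_mem_smul (Ideal.mem_span_singleton_self t)
      ((‹Q.IsPrime›.mem_or_mem ha).resolve_right htQ)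
  · rw [IsLocalRing.jacobson_eq_maximalIdeal ⊥ bot_ne_top]
    exact IsLocalRing.le_maximalIdeal hP.ne_top

/-- A local reduced fibre with one component through the point, lifting to the base, has one component. -/
theorem exists_unique_generization (f : X ⟶ Y) [IsLocallyNoetherian X] (x : X) {t : Y.presheaf.stalk (f x)}
    (ht : IsLocalRing.maximalIdeal (Y.presheaf.stalk (f x)) = Ideal.span {t})
    (hred : _root_.IsReduced ((f.fiber (f x)).presheaf.stalk (f.asFiber x)))
    {ν z : X} (hν : ν ⤳ x) (hνf : f ν = f x) (hgen : ∀ w, w ⤳ x → f w = f x → ν ⤳ w)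
    (hz : z ⤳ ν) (hzf : f z ≠ f x) : ∃ ζ : X, ∀ w, w ⤳ x → ζ ⤳ w := by
  let φ := (f.stalkMap x).hom
  let J : Ideal (X.presheaf.stalk x) := (IsLocalRing.maximalIdeal (Y.presheaf.stalk (f x))).map φ
  have hJ : J.IsRadical := by
    rw [Ideal.isRadical_iff_quotient_reduced]
    have key : ∀ (w : f.fiber (f x)) (a : X), f.fiberι (f x) w = a →
        _root_.IsReduced ((f.fiber (f x)).presheaf.stalk w) →
        _root_.IsReduced (X.presheaf.stalk a ⧸ (IsLocalRing.maximalIdeal (Y.presheaf.stalk (f a))).map
          (f.stalkMap a).hom) := by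
      rintro w a rfl hw
      have hk : RingHom.ker ((f.fiberι (f x)).stalkMap w).hom =
          (IsLocalRing.maximalIdeal (Y.presheaf.stalk (f (f.fiberι (f x) w)))).map
            (f.stalkMap (f.fiberι (f x) w)).hom :=
        le_antisymm (DivPts.ker_fiberι_stalkMap_le f (f x) w)
          (Ideal.map_le_iff_le_comap.2 fun a ha => DivPts.stalkMap_fiberι_eq_zero f (f x) w ha)
      haveI := hw
      let e := (Ideal.quotEquivOfEq hk).symm.trans
        (RingHom.quotientKerEquivOfSurjective ((f.fiberι (f x)).stalkMap_surjective w))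
      exact isReduced_of_injective e.toRingHom e.injective
    exact key (f.asFiber x) x (f.fiberι_asFiber x) hred
  have hmem : ∀ Q : Spec (X.presheaf.stalk x),
      J ≤ (Q : PrimeSpectrum (X.presheaf.stalk x)).asIdeal ↔ f (X.fromSpecStalk x Q) = f x := by
    intro Q
    have hnat : f (X.fromSpecStalk x Q) = Y.fromSpecStalk (f x) (PrimeSpectrum.comap φ Q) :=
      (congr($(Scheme.SpecMap_stalkMap_fromSpecStalk f (x := x)) Q)).symm
    rw [hnat, Ideal.map_le_iff_le_comap]
    constructor
    · intro h
      have h2 : PrimeSpectrum.comap φ Q = IsLocalRing.closedPoint (Y.presheaf.stalk (f x)) :=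
        PrimeSpectrum.ext (le_antisymm (IsLocalRing.le_maximalIdeal
          (PrimeSpectrum.comap φ Q).isPrime.ne_top) h)
      rw [h2]
      exact Scheme.fromSpecStalk_closedPoint
    · intro h
      have h2 : PrimeSpectrum.comap φ Q = IsLocalRing.closedPoint (Y.presheaf.stalk (f x)) :=
        (Y.fromSpecStalk (f x)).isEmbedding.injective (h.trans Scheme.fromSpecStalk_closedPoint.symm)
      exact le_of_eq (congrArg PrimeSpectrum.asIdeal h2).symm
  have hle : ∀ {P Q : Spec (X.presheaf.stalk x)}, P ⤳ Q ↔
      X.fromSpecStalk x P ⤳ X.fromSpecStalk x Q := fun {P Q} =>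
    (X.fromSpecStalk x).isEmbedding.isInducing.specializes_iff.symm
  obtain ⟨P, hP⟩ : ν ∈ Set.range (X.fromSpecStalk x) := by rw [Scheme.range_fromSpecStalk]; exact hν
  have hJP : J = (P : PrimeSpectrum (X.presheaf.stalk x)).asIdeal := by
    refine le_antisymm ((hmem P).2 (hP ▸ hνf)) ?_
    rw [← hJ.radical, Ideal.radical_eq_sInf]
    refine le_sInf fun Q hQ => ?_
    haveI := hQ.2
    let Q' : PrimeSpectrum (X.presheaf.stalk x) := ⟨Q, hQ.2⟩
    have h1 : X.fromSpecStalk x Q' ⤳ x := by
      have h3 : X.fromSpecStalk x Q' ∈ Set.range (X.fromSpecStalk x) := ⟨_, rfl⟩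
      rwa [Scheme.range_fromSpecStalk] at h3
    exact (PrimeSpectrum.le_iff_specializes (P : PrimeSpectrum (X.presheaf.stalk x)) Q').2
      (hle.2 (hP.symm ▸ hgen _ h1 ((hmem Q').1 hQ.1)))
  obtain ⟨Z, hZ⟩ : z ∈ Set.range (X.fromSpecStalk x) := by
    rw [Scheme.range_fromSpecStalk]; exact hz.trans hν
  haveI : IsLocalRing (X.presheaf.stalk x) := inferInstance
  have hspan : J = Ideal.span {φ t} := by
    simp only [J, ht, Ideal.map_span, Set.image_singleton]
  have hbot : (Z : PrimeSpectrum (X.presheaf.stalk x)).asIdeal = ⊥ := by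
    haveI := (Z : PrimeSpectrum (X.presheaf.stalk x)).isPrime
    refine eq_bot_of_principal_prime (t := φ t) (hspan ▸ hJP ▸ (P : PrimeSpectrum (X.presheaf.stalk x)).isPrime)
      ?_ fun hm => hzf (hZ ▸ (hmem Z).1 ?_)
    · rw [← hspan, hJP]
      exact (PrimeSpectrum.le_iff_specializes (Z : PrimeSpectrum (X.presheaf.stalk x)) P).2
        (hle.2 (hZ.symm ▸ hP.symm ▸ hz))
    · rw [hspan, Ideal.span_singleton_le_iff_mem]; exact hm
  refine ⟨z, fun w hw => ?_⟩
  obtain ⟨W, rfl⟩ : w ∈ Set.range (X.fromSpecStalk x) := by rw [Scheme.range_fromSpecStalk]; exact hw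
  rw [← hZ]
  exact hle.1 ((PrimeSpectrum.le_iff_specializes (Z : PrimeSpectrum (X.presheaf.stalk x)) W).1
    (show (Z : PrimeSpectrum (X.presheaf.stalk x)).asIdeal ≤ _ from hbot.le.trans bot_le))

theorem exists_maximalIdeal_stalk_closedPoint {A : Type u} [CommRing A] [IsDomain A] [IsDiscreteValuationRing A]
    (q : Spec (CommRingCat.of A)) (hq : q = IsLocalRing.closedPoint A) :
    ∃ t : (Spec (CommRingCat.of A)).presheaf.stalk q,
      IsLocalRing.maximalIdeal ((Spec (CommRingCat.of A)).presheaf.stalk q) = Ideal.span {t} := by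
  obtain ⟨ϖ, hϖ⟩ := IsDiscreteValuationRing.exists_irreducible A
  letI : Algebra A ((Spec (CommRingCat.of A)).presheaf.stalk q) := (StructureSheaf.toStalk A q).hom.toAlgebra
  haveI : IsLocalization.AtPrime ((Spec (CommRingCat.of A)).presheaf.stalk q)
      (q : PrimeSpectrum A).asIdeal := StructureSheaf.IsLocalization.to_stalk A q
  refine ⟨algebraMap A _ ϖ, ?_⟩
  rw [← IsLocalization.AtPrime.map_eq_maximalIdeal (q : PrimeSpectrum A).asIdeal, congrArg PrimeSpectrum.asIdeal hq]
  show Ideal.map _ (IsLocalRing.maximalIdeal A) = _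
  rw [(IsDiscreteValuationRing.irreducible_iff_uniformizer ϖ).1 hϖ, Ideal.map_span, Set.image_singleton]

/-- Geometrically reduced components give reduced fibres after base change. -/
theorem isReduced_fibre_stalk {Y' : Scheme.{u}} (f : X ⟶ Y) (h : Y' ⟶ Y) (x' : ↥(pullback f h)) (C : Set X)
    (hxC : pullback.fst f h x' ∈ C)
    (hred : ∀ (K : Type u) [Field K] [Algebra (IsLocalRing.ResidueField (Y.presheaf.stalk (h (pullback.snd f h x')))) K],
      ∀ b : ↥(FBase.bc (f.fiberToSpecResidueField (h (pullback.snd f h x'))) K),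
      (FBase.bcπ (f.fiberToSpecResidueField (h (pullback.snd f h x'))) K ≫
        f.fiberι (h (pullback.snd f h x'))).base b ∈ C →
      _root_.IsReduced ((FBase.bc (f.fiberToSpecResidueField (h (pullback.snd f h x'))) K).presheaf.stalk b)) :
    _root_.IsReduced (((pullback.snd f h).fiber (pullback.snd f h x')).presheaf.stalk
      ((pullback.snd f h).asFiber x')) := by
  set p := pullback.snd f h x' with hp
  letI : Algebra (IsLocalRing.ResidueField (Y.presheaf.stalk (h p))) (Y'.residueField p) :=
    (h.residueFieldMap p).hom.toAlgebra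
  let a := Spec.map (CommRingCat.ofHom
    (algebraMap (IsLocalRing.ResidueField (Y.presheaf.stalk (h p))) (Y'.residueField p)))
  have ha : a ≫ Y.fromSpecResidueField (h p) = Y'.fromSpecResidueField p ≫ h :=
    Scheme.Hom.SpecMap_residueFieldMap_fromSpecResidueField h p
  let j : FBase.bc (f.fiberToSpecResidueField (h p)) (Y'.residueField p) ⟶ pullback f h :=
    pullback.lift (FBase.bcπ (f.fiberToSpecResidueField (h p)) (Y'.residueField p) ≫ f.fiberι (h p))
      (FBase.bcStr (f.fiberToSpecResidueField (h p)) (Y'.residueField p) ≫ Y'.fromSpecResidueField p) (by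
        rw [Category.assoc, Category.assoc, ← ha]
        erw [f.fiber_fac (h p), pullback.condition_assoc]
        rfl)
  have hsq : IsPullback j (FBase.bcStr (f.fiberToSpecResidueField (h p)) (Y'.residueField p))
      (pullback.snd f h) (Y'.fromSpecResidueField p) := by
    refine IsPullback.of_right ?_ (pullback.lift_snd _ _ _) (IsPullback.of_hasPullback f h)
    have h1 := (IsPullback.of_hasPullback (f.fiberToSpecResidueField (h p)) a).paste_horiz
      (show IsPullback (f.fiberι (h p)) (f.fiberToSpecResidueField (h p)) f (Y.fromSpecResidueField (h p)) from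
        IsPullback.of_hasPullback _ _)
    erw [ha] at h1
    rw [show j ≫ pullback.fst f h = _ from pullback.lift_fst _ _ _]
    exact h1
  let e : FBase.bc (f.fiberToSpecResidueField (h p)) (Y'.residueField p) ≅ (pullback.snd f h).fiber p :=
    hsq.isoPullback
  have he : e.inv ≫ j = (pullback.snd f h).fiberι p := hsq.isoPullback_inv_fst
  let b := e.inv ((pullback.snd f h).asFiber x')
  have hb : (FBase.bcπ (f.fiberToSpecResidueField (h p)) (Y'.residueField p) ≫ f.fiberι (h p)) b ∈ C := by
    have h1 : j b = x' := by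
      rw [← Scheme.Hom.comp_apply, he]; exact Scheme.Hom.fiberι_asFiber _ _
    rw [← (show j ≫ pullback.fst f h = _ from pullback.lift_fst _ _ _), Scheme.Hom.comp_apply, h1]
    exact hxC
  haveI := hred (Y'.residueField p) b hb
  exact isReduced_of_injective (asIso (e.inv.stalkMap ((pullback.snd f h).asFiber x'))).commRingCatIsoToRingEquiv.symm.toRingHom
    (asIso (e.inv.stalkMap ((pullback.snd f h).asFiber x'))).commRingCatIsoToRingEquiv.symm.injective

end Groth.Agent.Chevalley
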