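import Groth.Agent.Chevalley.SectionConst
import Groth.Agent.VCov.Basic
import Groth.Agent.ConstrFib.Closure
import Groth.Agent.LimSch.ClosureRange
import Groth.Agent.FibreDimChart.Misc
import Mathlib.RingTheory.AlgebraicIndependent.Basic

/-!
# Fibre dimensions at generizations of points of openness, over any base
-/

set_option autoImplicit false
set_option linter.style.haveILetI false
set_option backward.isDefEq.respectTransparency.types false

universe u

open CategoryTheory CategoryTheory.Limits AlgebraicGeometry TopologicalSpace Topology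
open Groth.Agent.DimTheory Groth.Agent.EquidimChart

namespace Groth.Agent.Chevalley

/-- Lifts of algebraically independent residues stay independent over a valuation ring. -/
theorem algebraicIndependent_of_residue {V L M O : Type u} [CommRing V] [IsDomain V] [ValuationRing V]
    [Field L] [Field M] [CommRing O] [Algebra V L] [Algebra V M] [Algebra V O]
    (a : O →ₐ[V] L) (b : O →ₐ[V] M) (hba : ∀ x, b x = 0 → a x = 0)
    (hV : Function.Injective (algebraMap V M)) {ι : Type*} (s : ι → O)
    (k : Type u) [Field k] [Algebra V k] [Algebra k L] [IsScalarTower V k L]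
    (hs : AlgebraicIndependent k (fun i => a (s i))) : AlgebraicIndependent V (fun i => b (s i)) := by
  classical
  rw [algebraicIndependent_iff]
  intro p hp
  by_contra hne
  obtain ⟨i₀, hi₀, hmax⟩ : ∃ i₀ ∈ p.support, ∀ i ∈ p.support, p.coeff i₀ ∣ p.coeff i := by
    have : ∀ S : Finset (ι →₀ ℕ), S.Nonempty → ∃ i₀ ∈ S, ∀ i ∈ S, p.coeff i₀ ∣ p.coeff i := by
      intro S hS
      induction hS using Finset.Nonempty.cons_induction with
      | singleton x => exact ⟨x, Finset.mem_singleton_self x, fun i hi => by rw [Finset.mem_singleton.1 hi]⟩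
      | cons x S hx hS ih =>
        obtain ⟨i₀, hi₀, hmax⟩ := ih
        rcases ValuationRing.iff_dvd_total.1 ‹ValuationRing V› |>.total (p.coeff x) (p.coeff i₀) with h | h
        · refine ⟨x, Finset.mem_cons_self _ _, fun i hi => ?_⟩
          rcases Finset.mem_cons.1 hi with rfl | hi
          · exact dvd_rfl
          · exact h.trans (hmax i hi)
        · refine ⟨i₀, Finset.mem_cons.2 (Or.inr hi₀), fun i hi => ?_⟩
          rcases Finset.mem_cons.1 hi with rfl | hi
          · exact h
          · exact hmax i hi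
    exact this p.support (Finset.nonempty_iff_ne_empty.2 fun h => hne (MvPolynomial.support_eq_empty.1 h))
  have hc : p.coeff i₀ ≠ 0 := MvPolynomial.mem_support_iff.1 hi₀
  obtain ⟨q, hq0⟩ : MvPolynomial.C (p.coeff i₀) ∣ p := by
    rw [MvPolynomial.C_dvd_iff_dvd_coeff]
    intro i
    by_cases hi : i ∈ p.support
    · exact hmax i hi
    · rw [MvPolynomial.notMem_support_iff.1 hi]; exact dvd_zero _
  rw [hq0, map_mul, MvPolynomial.aeval_C] at hp
  have hq : MvPolynomial.aeval (fun i => b (s i)) q = 0 :=
    (mul_eq_zero.1 hp).resolve_left fun h => hc (hV (h.trans (map_zero _).symm))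
  rw [← MvPolynomial.comp_aeval, AlgHom.comp_apply] at hq
  have hq' := hba _ hq
  rw [← AlgHom.comp_apply, MvPolynomial.comp_aeval, ← MvPolynomial.aeval_map_algebraMap k] at hq'
  have h1 : (MvPolynomial.map (algebraMap V k) q).coeff i₀ = 0 := by
    rw [algebraicIndependent_iff.1 hs _ hq']; exact MvPolynomial.coeff_zero _
  rw [MvPolynomial.coeff_map] at h1
  have h2 : q.coeff i₀ = 1 := by
    refine mul_left_cancel₀ hc ?_
    rw [mul_one, ← MvPolynomial.coeff_C_mul, ← hq0]
  rw [h2, map_one] at h1
  exact one_ne_zero h1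

/-- Residue fields of a spectrum are generated by the ring. -/
theorem exists_frac_residueField (R : CommRingCat.{u}) (q : Spec R) (x : (Spec R).residueField q) :
    ∃ a b : R, (StructureSheaf.toStalk R q ≫ (Spec R).residue q).hom b ≠ 0 ∧
      x * (StructureSheaf.toStalk R q ≫ (Spec R).residue q).hom b =
        (StructureSheaf.toStalk R q ≫ (Spec R).residue q).hom a := by
  obtain ⟨y, rfl⟩ := (Spec R).residue_surjective q x
  letI : Algebra R ((Spec R).presheaf.stalk q) := (StructureSheaf.toStalk R q).hom.toAlgebra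
  haveI : IsLocalization.AtPrime ((Spec R).presheaf.stalk q) (q : PrimeSpectrum R).asIdeal :=
    StructureSheaf.IsLocalization.to_stalk R q
  obtain ⟨⟨a, b⟩, hab⟩ := IsLocalization.surj (q : PrimeSpectrum R).asIdeal.primeCompl y
  refine ⟨a, b, ?_, ?_⟩
  · exact ((IsLocalization.map_units _ b).map ((Spec R).residue q).hom).ne_zero
  · exact ((map_mul ((Spec R).residue q).hom _ _).symm).trans (congrArg ((Spec R).residue q).hom hab)

/-- Over a valuation ring the transcendence degree grows under generization to the generic fibre. -/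
theorem trdeg_le_of_valuation {P : Scheme.{u}} {W : CommRingCat.{u}} [IsDomain W] [ValuationRing W]
    (f : P ⟶ Spec W) {z ξ : P} (h : ξ ⤳ z) (hξ : f ξ = (⟨⊥, Ideal.isPrime_bot⟩ : PrimeSpectrum W)) :
    mapTrdeg f z ≤ mapTrdeg f ξ := by
  let ψ : W ⟶ P.presheaf.stalk z := StructureSheaf.toStalk W (f z) ≫ f.stalkMap z
  let α : W ⟶ P.residueField z := ψ ≫ P.residue z
  let β : W ⟶ P.residueField ξ := ψ ≫ P.presheaf.stalkSpecializes h ≫ P.residue ξ
  have hβ : β = StructureSheaf.toStalk W (f ξ) ≫ (Spec W).residue (f ξ) ≫ f.residueFieldMap ξ := by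
    ext a
    show (P.residue ξ).hom ((P.presheaf.stalkSpecializes h).hom ((f.stalkMap z).hom ((StructureSheaf.toStalk W (f z)).hom a))) =
      (f.residueFieldMap ξ).hom (((Spec W).residue (f ξ)).hom ((StructureSheaf.toStalk W (f ξ)).hom a))
    refine Eq.trans ?_ congr($(Scheme.residue_residueFieldMap f ξ).hom ((StructureSheaf.toStalk W (f ξ)).hom a)).symm
    refine congrArg (P.residue ξ).hom ((Scheme.Hom.stalkSpecializes_stalkMap_apply f ξ z h _).symm.trans ?_)
    exact congrArg (f.stalkMap ξ).hom
      (congr($(StructureSheaf.toStalk_stalkSpecializes (R := W) (h.map f.continuous)).hom a))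
  have hα : α = StructureSheaf.toStalk W (f z) ≫ (Spec W).residue (f z) ≫ f.residueFieldMap z := by
    ext a
    exact congr($(Scheme.residue_residueFieldMap f z).hom ((StructureSheaf.toStalk W (f z)).hom a)).symm
  letI : Algebra W (P.presheaf.stalk z) := ψ.hom.toAlgebra
  letI : Algebra W (P.residueField z) := α.hom.toAlgebra
  letI : Algebra W (P.residueField ξ) := β.hom.toAlgebra
  letI iz : Algebra ((Spec W).residueField (f z)) (P.residueField z) := (f.residueFieldMap z).hom.toAlgebra
  letI iξ : Algebra ((Spec W).residueField (f ξ)) (P.residueField ξ) := (f.residueFieldMap ξ).hom.toAlgebra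
  letI : Algebra W ((Spec W).residueField (f z)) :=
    (StructureSheaf.toStalk W (f z) ≫ (Spec W).residue (f z)).hom.toAlgebra
  letI : Algebra W ((Spec W).residueField (f ξ)) :=
    (StructureSheaf.toStalk W (f ξ) ≫ (Spec W).residue (f ξ)).hom.toAlgebra
  haveI : IsScalarTower W ((Spec W).residueField (f z)) (P.residueField z) :=
    IsScalarTower.of_algebraMap_eq fun a => congr($(hα).hom a)
  haveI : IsScalarTower W ((Spec W).residueField (f ξ)) (P.residueField ξ) :=
    IsScalarTower.of_algebraMap_eq fun a => congr($(hβ).hom a)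
  have hinj : Function.Injective (algebraMap W ((Spec W).residueField (f ξ))) := by
    rw [injective_iff_map_eq_zero]
    intro a ha
    by_contra hne
    letI : Algebra W ((Spec W).presheaf.stalk (f ξ)) := (StructureSheaf.toStalk W (f ξ)).hom.toAlgebra
    haveI : IsLocalization.AtPrime ((Spec W).presheaf.stalk (f ξ)) (f ξ : PrimeSpectrum W).asIdeal :=
      StructureSheaf.IsLocalization.to_stalk W (f ξ)
    refine ((IsLocalization.map_units _ (⟨a, ?_⟩ : (f ξ : PrimeSpectrum W).asIdeal.primeCompl)).map
      ((Spec W).residue (f ξ)).hom).ne_zero ha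
    rw [hξ]
    exact fun hm => hne hm
  haveI : Algebra.IsAlgebraic W ((Spec W).residueField (f ξ)) := ⟨fun x => by
    obtain ⟨a, b, hb, hab⟩ := exists_frac_residueField W (f ξ) x
    refine ⟨Polynomial.C b * Polynomial.X - Polynomial.C a, fun h0 => hb ?_, ?_⟩
    · have hb0 : b = 0 := by simpa using congrArg (fun q => q.coeff 1) h0
      rw [hb0, map_zero]
    · simp only [map_sub, map_mul, Polynomial.aeval_C, Polynomial.aeval_X]
      rw [sub_eq_zero, mul_comm]
      exact hab⟩
  haveI : FaithfulSMul W ((Spec W).residueField (f ξ)) := (faithfulSMul_iff_algebraMap_injective _ _).2 hinj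
  haveI : FaithfulSMul ((Spec W).residueField (f z)) (P.residueField z) :=
    (faithfulSMul_iff_algebraMap_injective _ _).2 (f.residueFieldMap z).hom.injective
  obtain ⟨B, hB⟩ := exists_isTranscendenceBasis ((Spec W).residueField (f z)) (P.residueField z)
  show Algebra.trdeg ((Spec W).residueField (f z)) (P.residueField z) ≤
    Algebra.trdeg ((Spec W).residueField (f ξ)) (P.residueField ξ)
  rw [← hB.cardinalMk_eq_trdeg]
  choose s hs using fun i : B => P.residue_surjective z (i : P.residueField z)
  have hW : AlgebraicIndependent W (fun i => (P.presheaf.stalkSpecializes h ≫ P.residue ξ).hom (s i)) :=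
    algebraicIndependent_of_residue (L := P.residueField z) (M := P.residueField ξ)
      ({ (P.residue z).hom with commutes' := fun a => rfl } : P.presheaf.stalk z →ₐ[W] P.residueField z)
      ({ (P.presheaf.stalkSpecializes h ≫ P.residue ξ).hom with commutes' := fun a => rfl } :
        P.presheaf.stalk z →ₐ[W] P.residueField ξ)
      (fun x hx => by
        by_contra hne
        have h1 : IsUnit x := by
          by_contra hu
          exact hne ((IsLocalRing.residue_eq_zero_iff x).2 hu)
        exact (h1.map (P.presheaf.stalkSpecializes h ≫ P.residue ξ).hom).ne_zero hx)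
      (by
        rw [IsScalarTower.algebraMap_eq W ((Spec W).residueField (f ξ)) (P.residueField ξ)]
        exact (algebraMap _ (P.residueField ξ)).injective.comp hinj)
      s ((Spec W).residueField (f z)) (by
        refine (congrArg (fun t : B → P.residueField z => AlgebraicIndependent ((Spec W).residueField (f z)) t) (funext fun i => ?_)).mp hB.1
        exact (hs i).symm)
  exact (hW.extendScalars ((Spec W).residueField (f ξ))).cardinalMk_le_trdeg

variable {X Y : Scheme.{u}}

/-- Fibre dimension at generizations of the image of a point of universal openness. -/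
theorem exists_fibreDimAt_ge_of_univOpen (f : X ⟶ Y) [LocallyOfFiniteType f] {ν : X}
    (hν : FlatEquidim.IsFibreMax f ν) (hu : EGA43.IsUnivOpenAt f ν) {y' : Y} (hy : y' ⤳ f ν) :
    ∃ ξ : X, f ξ = y' ∧ FlatMor.fibreDimAt f ν ≤ FlatMor.fibreDimAt f ξ := by
  obtain ⟨W, _, _, m, hmc, hmη⟩ := VCov.exists_valuation_of_specializes hy
  obtain ⟨c, hc⟩ : ∃ c : Spec W, c = IsLocalRing.closedPoint W := ⟨_, rfl⟩
  obtain ⟨η, hη⟩ : ∃ η : Spec W, η = (⟨⊥, Ideal.isPrime_bot⟩ : PrimeSpectrum W) := ⟨_, rfl⟩
  rw [← hc] at hmc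
  rw [← hη] at hmη
  haveI : LocallyOfFiniteType (pullback.snd f m) := MorphismProperty.pullback_snd _ _ inferInstance
  obtain ⟨x₀, hx₀, hx₀'⟩ := Scheme.Pullback.exists_preimage_pullback (f := f) (g := m) ν c hmc.symm
  obtain ⟨z, n, hz, hfz, hzmax, hn, hd⟩ := exists_fibreMax_eq (pullback.snd f m) x₀
  have hzν : pullback.fst f m z = ν := hν _ (hx₀ ▸ hz.map (pullback.fst f m).continuous) (by
    rw [← Scheme.Hom.comp_apply, pullback.condition, Scheme.Hom.comp_apply, hfz, hx₀']
    exact hmc)
  have hdz : FlatMor.fibreDimAt f ν = (n : WithBot ℕ∞) := by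
    rw [← hd, FibreDimChart.fibreDimAt_of_isPullback f m _ _ (IsPullback.of_hasPullback f m) x₀, hx₀]
  let i := (pullback.snd f m).fiberι η
  haveI : QuasiCompact ((Spec W).fromSpecResidueField η) := inferInstance
  haveI : QuasiCompact i := MorphismProperty.pullback_fst _ _ ‹_›
  have hcl : z ∈ closure (Set.range i) := by
    rw [mem_closure_iff]
    intro O hO hzO
    obtain ⟨T, hT, hTo, hzT⟩ := mem_nhds_iff.1 (hu _ m z hzν O (hO.mem_nhds hzO))
    have h1 : η ∈ T := by
      refine Specializes.mem_open ?_ hTo hzT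
      rw [hη]
      exact bot_specializes (A := W) _
    obtain ⟨w, hw, hw'⟩ := hT h1
    exact ⟨w, hw, by rw [(pullback.snd f m).range_fiberι]; exact hw'⟩
  obtain ⟨v, hv⟩ := LimSch.exists_specializes_of_mem_closure_range i hcl
  have hfv : pullback.snd f m (i v) = η := FlatEquidim.fiberι_apply_eq _ _ v
  obtain ⟨e, he⟩ := exists_mapTrdeg (pullback.snd f m) (i v)
  have hne : n ≤ e := by
    have h2 := trdeg_le_of_valuation (pullback.snd f m) hv (hfv.trans hη)
    rw [hn, he] at h2
    exact_mod_cast h2
  refine ⟨pullback.fst f m (i v), ?_, ?_⟩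
  · rw [← Scheme.Hom.comp_apply, pullback.condition, Scheme.Hom.comp_apply, hfv, hmη]
  · rw [hdz, ← FibreDimChart.fibreDimAt_of_isPullback f m _ _ (IsPullback.of_hasPullback f m) (i v)]
    exact (Nat.cast_le.2 hne).trans (le_fibreDimAt (pullback.snd f m) he)

/-- A neighbourhood from generizations, over any scheme. -/
theorem mem_nhds_of_generizations' {E : Set Y} (hE : Topology.IsLocallyConstructible E) {y : Y}
    (h : ∀ z : Y, z ⤳ y → z ∈ E) : E ∈ nhds y := by
  obtain ⟨U, hUn, hU, hEU⟩ := hE y
  obtain ⟨V, hV, hyV, hVU⟩ := exists_isAffineOpen_mem_and_subset (X := Y) (x := y) (U := ⟨U, hU⟩) (mem_of_mem_nhds hUn)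
  obtain ⟨p, hp⟩ : y ∈ Set.range hV.fromSpec := by rw [hV.range_fromSpec]; exact hyV
  by_contra hn
  have hloc : Topology.IsLocallyConstructible (hV.fromSpec ⁻¹' E) :=
    hE.preimage_of_isOpenEmbedding hV.fromSpec.isOpenEmbedding
  have hc : Topology.IsConstructible (hV.fromSpec ⁻¹' E) := hloc.isConstructible
  have hmem : p ∈ closure (hV.fromSpec ⁻¹' E)ᶜ := by
    rw [closure_compl]
    intro hp'
    refine hn (Filter.mem_of_superset ((hV.fromSpec.isOpenEmbedding.isOpenMap _ isOpen_interior).mem_nhds
      ⟨p, hp', hp⟩) ?_)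
    rintro _ ⟨q, hq, rfl⟩
    exact (interior_subset hq : q ∈ hV.fromSpec ⁻¹' E)
  obtain ⟨q, hq, hqp⟩ := ConstrFib.exists_specializes_of_mem_closure (R := Γ(Y, V)) hc.compl hmem
  exact hq (h _ (hp ▸ hqp.map hV.fromSpec.continuous))

end Groth.Agent.Chevalley
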